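import Cfsg.Agent.Lib.USt.Ab
import Cfsg.Agent.Lib.GSt.Gl

/-!
# S3137/S3128: general lemmas on `St` over `BM`.  Port of `GSt/Def` (end), `GSt/SL` (beginning), `GSt/Gl`.
Differences to `GSt`: `ψ` has a kernel in the centre of `J` (odd order), `J` is quasisimple (`qs`, `perf`).
-/

set_option autoImplicit false
set_option linter.unusedSectionVars false

namespace Cfsg.Lib.USt

open Subgroup G2S Cfsg.Lib.BG Cfsg.Lib.GW GSt.SLa Cfsg.Lib.CT
open scoped commutatorElement Cfsg.Lib.Transfer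

variable {J A G : Type*} [Group J] [Finite J] [Group A] [Group G] [Finite G] {ψ : J →* G} {t g u v : G} {O : Subgroup G}

theorem El.comm {X : Type*} [Group X] {E : Subgroup X} (h : El E) {x y : X} (hx : x ∈ E) (hy : y ∈ E) : x * y = y * x := by
  rw [← inv_eq_of_mul_eq_one_left (h _ (mul_mem hx hy)), mul_inv_rev, inv_eq_of_mul_eq_one_left (h _ hx),
    inv_eq_of_mul_eq_one_left (h _ hy)]
theorem El.pgroup {X : Type*} [Group X] {E : Subgroup X} (h : El E) : IsPGroup 2 E := fun x =>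
  ⟨1, Subtype.ext (by rw [pow_one, sq]; exact h _ x.2)⟩

namespace BM
variable (b : BM J A)
include b

theorem comm (x y : A) : x * y = y * x := have := b.cyc; (IsCyclic.isMulCommutative).is_comm.comm x y
/-- A finite cyclic group has at most one involution. -/
theorem eq_of_inv {x y : A} (hx : x * x = 1) (hy : y * y = 1) (x1 : x ≠ 1) (y1 : y ≠ 1) : x = y := 
  have := b.cyc
  have := b.fin
  Inv.eq_of_isCyclic_of_orderOf_two (H := ⊤) inferInstance trivial trivial (Inv.orderOf_eq_two_iff.2 ⟨x1, hx⟩)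
    (Inv.orderOf_eq_two_iff.2 ⟨y1, hy⟩)
theorem Θ_cj (α β : MulAut J) : b.Θ (α * β * α⁻¹) = b.Θ β := by
  rw [map_mul, map_mul, map_inv, b.comm (b.Θ α), mul_inv_cancel_right]
/-- `oddZ`. -/
theorem two_center {x : J} {n : ℕ} (h : x ∈ center J) (hn : x ^ 2 ^ n = 1) : x = 1 := 
  let ⟨_, e⟩ := odd_pow b.oddZ; one_of hn (e x h)
/-- An exponent killing the centre, `≡ 1` modulo `2 ^ n`. -/
theorem exists_k (n : ℕ) : ∃ q, ∀ z ∈ center J, z ^ (2 ^ n * q + 1) = 1 := by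
  have c : (Nat.card (center J)).Coprime (2 ^ n) := (Nat.coprime_two_right.2 b.oddZ).pow_right n
  have h := (Nat.ModEq.pow_totient c).symm
  obtain ⟨q, e⟩ := (Nat.modEq_iff_dvd' (Nat.one_le_pow _ _ Nat.card_pos)).1 h
  obtain ⟨k, hk⟩ := Nat.exists_eq_succ_of_ne_zero (Nat.totient_pos.2 (Nat.two_pow_pos n)).ne'
  refine ⟨q, fun z hz => ?_⟩
  rw [← e, Nat.sub_add_cancel (Nat.one_le_pow _ _ Nat.card_pos), hk, pow_succ', pow_mul,
    show z ^ Nat.card (center J) = 1 from congrArg Subtype.val (pow_card_eq_one' (x := (⟨z, hz⟩ : center J))), one_pow]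
omit b in
theorem pow_k {X : Type*} [Group X] {x : X} {n : ℕ} (h : x ^ 2 ^ n = 1) (q : ℕ) : x ^ (2 ^ n * q + 1) = x := by
  rw [pow_succ, pow_mul, h, one_pow, one_mul]
/-- `x ↦ (f x)⁻¹ * f' x` is a homomorphism with abelian image, `J` is perfect. -/
theorem hom_ext {X : Type*} [Group X] {f f' : J →* X} (h : ∀ x y, Commute ((f x)⁻¹ * f' x) (f y))
    (h' : ∀ x y, Commute ((f x)⁻¹ * f' x) (f' y)) : f = f' := by
  let c : J →* X := MonoidHom.mk' (fun x => (f x)⁻¹ * f' x) fun x y => by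
    rw [map_mul, map_mul, mul_inv_rev, ← mul_assoc _ (f y)⁻¹, (h x y).inv_right.eq]; group
  have : commutator J ≤ c.ker := by
    rw [_root_.commutator_def, commutator_le]
    exact fun x _ y _ => by
      rw [MonoidHom.mem_ker, map_commutatorElement, commutatorElement_eq_one_iff_commute]
      exact (h x y).inv_right.mul_right (h' x y)
  exact MonoidHom.ext fun x => inv_mul_eq_one.1 (this (b.perf ▸ mem_top x))
/-- `y ↦ ⁅x, y⁆` is a homomorphism to the centre. -/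
theorem center_of {x : J} (h : ∀ y, ⁅x, y⁆ ∈ center J) : x ∈ center J := by
  have k : ∀ y, y⁻¹ * MulAut.conj x y ∈ center J := fun y => by
    simpa [commutatorElement_def, mul_assoc] using inv_mem (h y⁻¹)
  have := b.hom_ext (f := .id J) (f' := (MulAut.conj x).toMonoidHom) (fun y z => (mem_center_iff.1 (k y) _).symm)
    fun y z => (mem_center_iff.1 (k y) _).symm
  exact mem_center_iff.2 fun y => (cjf.1 (DFunLike.congr_fun this y).symm).symm
/-- `hom_ext`. -/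
theorem aut_ext {α β : MulAut J} (h : ∀ x, (α x)⁻¹ * β x ∈ center J) : α = β := 
  MulEquiv.toMonoidHom_injective (b.hom_ext (fun y _ => (mem_center_iff.1 (h y) _).symm)
    fun y _ => (mem_center_iff.1 (h y) _).symm)
/-- `l ^ 2 ^ n` is central; `exists_k`. -/
theorem two_of {l : J} {n : ℕ} (h : MulAut.conj l ^ 2 ^ n = 1) : ∃ l', l' ^ 2 ^ n = 1 ∧ MulAut.conj l = MulAut.conj l' := by
  obtain ⟨q, e⟩ := b.exists_k n
  refine ⟨l ^ (2 ^ n * q + 1), ?_, by rw [map_pow, pow_k h]⟩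
  rw [← map_pow] at h
  rw [← pow_mul, mul_comm, pow_mul]
  exact e _ (mem_center_iff.2 fun y => (cjf.1 (DFunLike.congr_fun h y)).symm)
/-- The case of involutions. -/
theorem sq_of {l : J} (h : MulAut.conj l * MulAut.conj l = 1) : ∃ l', l' * l' = 1 ∧ MulAut.conj l = MulAut.conj l' := by
  simpa only [pow_one, sq] using b.two_of (l := l) (n := 1) (by rwa [pow_one, sq])
/-- Two `2`-elements congruent modulo the centre are equal (they commute). -/
theorem two_eq {x y : J} {n k : ℕ} (hx : x ^ 2 ^ n = 1) (hy : y ^ 2 ^ k = 1) (h : x⁻¹ * y ∈ center J) : x = y := by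
  have c : Commute x⁻¹ y := by simpa using (Commute.refl x⁻¹).inv_right.mul_right (mem_center_iff.1 h x⁻¹)
  refine inv_mul_eq_one.1 (b.two_center (n := n + k) h ?_)
  rw [c.mul_pow, pow_add, pow_mul, inv_pow, hx, mul_comm, pow_mul, hy]; simp
theorem not_comm : ¬ ∀ x y : J, x * y = y * x := fun h =>
  let ⟨u, _, _, u2, u1, _⟩ := b.tri; u1 (b.two_center (n := 1) (mem_center_iff.2 fun y => h y u) (by rwa [pow_one, sq]))
/-- Two homomorphisms with the same range (`lift`; `ψ J / Z (ψ J) ≅ J / Z J` as `⁅x, J⁆ ≤ Z` forces `x ∈ Z`; `hom_ext`). -/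
theorem lift_range {χ : J →* G} (hk : ∀ x, ψ x = 1 → x ∈ center J) (hχ : ∀ x, χ x = 1 → x ∈ center J)
    (h : χ.range ≤ ψ.range) : ∃ γ : MulAut J, ∀ x, χ x = ψ (γ x) := by
  choose f hf using fun x => h ⟨x, rfl⟩
  have cz : ∀ z ∈ center J, ∀ y, Commute (ψ z) (ψ y) := fun z hz y =>
    Commute.map (show Commute z y from (mem_center_iff.1 hz y).symm) ψ
  let β₀ : J →* J ⧸ center J := MonoidHom.mk' (fun x => f x) fun x y => QuotientGroup.eq.2 (hk _ (by
    rw [map_mul, map_inv, map_mul, hf, hf, hf, map_mul, inv_mul_cancel]))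
  have l : β₀.ker ≤ center J := fun x hx => b.center_of fun y => hχ _ (by
    rw [map_commutatorElement, commutatorElement_eq_one_iff_commute, ← hf, ← hf]
    exact cz _ ((QuotientGroup.eq_one_iff _).1 hx) _)
  have e : β₀.ker = center J := by
    refine eq_of_le_of_card_ge l (Nat.le_of_mul_le_mul_right ?_ (Nat.pos_of_ne_zero (center J).index_ne_zero_of_finite))
    rw [card_mul_index, ← β₀.ker.card_mul_index, index_ker]
    exact Nat.mul_le_mul_left _ (card_le_card_group _)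
  let β : J ⧸ center J →* J ⧸ center J := QuotientGroup.lift _ β₀ e.ge
  have iβ : Function.Injective β := (injective_iff_map_eq_one β).2 fun x hx => by
    obtain ⟨x, rfl⟩ := QuotientGroup.mk_surjective x
    exact (QuotientGroup.eq_one_iff x).2 (l hx)
  obtain ⟨γ, hγ⟩ := b.lift (MulEquiv.ofBijective β iβ.bijective_of_finite)
  have k : ∀ x, (ψ (γ x))⁻¹ * χ x = ψ ((γ x)⁻¹ * f x) := fun x => by rw [map_mul, map_inv, hf]
  have z : ∀ x, (γ x)⁻¹ * f x ∈ center J := fun x => QuotientGroup.eq.1 (hγ x).symm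
  have := b.hom_ext (f := ψ.comp γ.toMonoidHom) (f' := χ) (fun x y => (k x).symm ▸ cz _ (z x) _)
    fun x y => by rw [← hf y]; exact (k x).symm ▸ cz _ (z x) _
  exact ⟨γ, fun x => (DFunLike.congr_fun this x).symm⟩
/-- An automorphism of `ψ J` comes from `J`. -/
theorem lift_aut (hk : ∀ x, ψ x = 1 → x ∈ center J) (h : ∀ x, g * ψ x * g⁻¹ ∈ ψ.range) :
    ∃ α : MulAut J, ∀ x, g * ψ x * g⁻¹ = ψ (α x) :=
  b.lift_range (χ := (MulAut.conj g).toMonoidHom.comp ψ) hk (fun x e => hk x (conj_eq_one_iff.1 e))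
    (by rintro _ ⟨x, rfl⟩; exact h x)
end BM

namespace St
variable (s : St ψ t)
include s

theorem it : t⁻¹ = t := inv_eq_of_mul_eq_one_left s.t2
theorem conj (g : G) : St ((MulAut.conj g).toMonoidHom.comp ψ) (g * t * g⁻¹) where
  ker x e := s.ker x (conj_eq_one_iff.1 e)
  t2 := by rw [conj_mul, s.t2]; simp
  t1 := by simpa using s.t1
  tψ x := by simp [conj_mul, s.tψ]
  cn c hc := by
    obtain ⟨α, hα⟩ := s.cn (g⁻¹ * c * g) (by
      rw [← mul_left_cancel_iff (a := g), ← mul_right_cancel_iff (a := g⁻¹)]; simpa [mul_assoc] using hc)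
    exact ⟨α, fun x => by simp [← hα, mul_assoc]⟩
  kinv c hc h1 h2 := by
    have := s.kinv (g⁻¹ * c * g) (by
      rw [← mul_left_cancel_iff (a := g), ← mul_right_cancel_iff (a := g⁻¹)]; simpa [mul_assoc] using hc)
      (fun x => by
        rw [← mul_left_cancel_iff (a := g), ← mul_right_cancel_iff (a := g⁻¹)]; simpa [mul_assoc] using h1 x)
      (by simp [mul_assoc, ← mul_assoc c, h2])
    refine this.imp (fun e => ?_) fun e => by rw [← e]; group
    rw [show c = g * (g⁻¹ * c * g) * g⁻¹ by group, e]; group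
theorem comp (α : MulAut J) : St (ψ.comp α.toMonoidHom) t where
  ker x h := mem_center_iff.2 fun y => α.injective (by simpa using mem_center_iff.1 (s.ker _ h) (α y))
  t2 := s.t2
  t1 := s.t1
  tψ _ := s.tψ _
  cn g hg := by
    obtain ⟨β, e⟩ := s.cn g hg
    exact ⟨α⁻¹ * β * α, fun x => by simp [e]⟩
  kinv g hg e := s.kinv g hg fun x => by simpa using e (α.symm x)
theorem cL (hg : g * t = t * g) (h : u ∈ ψ.range) : g * u * g⁻¹ ∈ ψ.range := 
  let ⟨x, e⟩ := h; let ⟨_, a⟩ := s.cn g hg; ⟨_, e ▸ (a x).symm⟩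

variable (b : BM J A)
include b

/-- `ψ` is injective on `2`-elements. -/
theorem inj2 {x y : J} {n k : ℕ} (hx : x ^ 2 ^ n = 1) (hy : y ^ 2 ^ k = 1) (h : ψ x = ψ y) : x = y := 
  b.two_eq hx hy (s.ker _ (by rw [map_mul, map_inv, h, inv_mul_cancel]))
/-- Every `2`-element of `L` is the image of a `2`-element of the same exponent. -/
theorem lift2 {n : ℕ} (h : u ∈ ψ.range) (hn : u ^ 2 ^ n = 1) : ∃ x, x ^ 2 ^ n = 1 ∧ ψ x = u := by
  obtain ⟨x, rfl⟩ := h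
  obtain ⟨q, e⟩ := b.exists_k n
  refine ⟨x ^ (2 ^ n * q + 1), ?_, by rw [map_pow, BM.pow_k hn]⟩
  rw [← pow_mul, mul_comm, pow_mul]
  exact e _ (s.ker _ (by rw [map_pow, hn]))
theorem aut_uniq {α β : MulAut J} (h : ∀ x, ψ (α x) = ψ (β x)) : α = β := 
  b.aut_ext fun x => s.ker _ (by rw [map_mul, map_inv, h, inv_mul_cancel])
theorem exists_act : ∃ f : 𝐂[t] →* MulAut J, ∀ (g : 𝐂[t]) x, ψ (f g x) = g * ψ x * g⁻¹ := 
  ⟨MonoidHom.mk' (fun g => (s.cn g (mc.1 g.2)).choose) fun a c => s.aut_uniq b fun x => by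
    have e := fun g : 𝐂[t] => (s.cn g (mc.1 g.2)).choose_spec
    rw [MulAut.mul_apply, ← e, ← e, ← e, coe_mul]
    group, fun g x => ((s.cn g (mc.1 g.2)).choose_spec x).symm⟩
/-- The action of `C(t)` on `J`. -/
noncomputable def act : 𝐂[t] →* MulAut J := (s.exists_act b).choose
theorem act_spec (g : 𝐂[t]) (x : J) : ψ (s.act b g x) = g * ψ x * g⁻¹ := (s.exists_act b).choose_spec g x
theorem act_ψ (x : J) : s.act b ⟨ψ x, mc.2 (s.tψ x).symm⟩ = MulAut.conj x := 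
  s.aut_uniq b fun y => by simp [s.act_spec]
theorem act_one (hg : g ∈ 𝐂[t]) : s.act b ⟨g, hg⟩ = 1 ↔ ∀ x, g * ψ x = ψ x * g := 
  ⟨fun e x => cjf.1 ((s.act_spec b ⟨g, hg⟩ x).symm.trans (by rw [e]; rfl)), fun e => s.aut_uniq b fun x =>
    (s.act_spec b ⟨g, hg⟩ x).trans (cjf.2 (e x))⟩
theorem act_sq (hu : u ∈ 𝐂[t]) (u2 : u * u = 1) : s.act b ⟨u, hu⟩ * s.act b ⟨u, hu⟩ = 1 := by
  rw [← map_mul, show (⟨u, hu⟩ * ⟨u, hu⟩ : 𝐂[t]) = 1 from Subtype.ext u2, map_one]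
/-- If `g` centralizes the image of the `2`-element `x`, then `act g` fixes `x`. -/
theorem act_fix (hg : g ∈ 𝐂[t]) {x : J} {n : ℕ} (hx : x ^ 2 ^ n = 1) (h : g * ψ x = ψ x * g) : s.act b ⟨g, hg⟩ x = x := 
  s.inj2 b (by rw [← map_pow, hx, map_one]) hx ((s.act_spec b ⟨g, hg⟩ x).trans (cjf.2 h))
theorem K0_of (hg : g ∈ 𝐂[t]) {x : J} (h : s.act b ⟨g, hg⟩ = MulAut.conj x) :
    ((ψ x)⁻¹ * g) * t = t * ((ψ x)⁻¹ * g) ∧ ∀ y, (ψ x)⁻¹ * g * ψ y = ψ y * ((ψ x)⁻¹ * g) := 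
  ⟨Commute.mul_left (Commute.inv_left (s.tψ x).symm) (mc.1 hg), fun y => cjf.1 (by
    have : ψ (MulAut.conj x y) = g * ψ y * g⁻¹ := h ▸ s.act_spec b ⟨g, hg⟩ y
    calc _ = (ψ x)⁻¹ * (g * ψ y * g⁻¹) * ψ x := by group
      _ = _ := by rw [← this]; simp [mul_assoc])⟩
/-- As `GSt.St.inner`, with `sq_of`. -/
theorem inner (hu : u ∈ 𝐂[t]) (u2 : u * u = 1) (h : b.Θ (s.act b ⟨u, hu⟩) = 1) :
    ∃ l, l * l = 1 ∧ (u = ψ l ∨ u = ψ l * t) := by
  obtain ⟨l, e⟩ := b.inner _ 1 (by rw [pow_one, sq, s.act_sq b hu u2]) h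
  obtain ⟨l, l2, e'⟩ := b.sq_of (l := l) (e ▸ s.act_sq b hu u2)
  obtain ⟨k1, k2⟩ := s.K0_of b hu (e.trans e')
  refine ⟨l, l2, (s.kinv _ k1 k2 ?_).imp (fun e => (inv_mul_eq_one.1 e).symm) inv_mul_eq_iff_eq_mul.1⟩
  have := k2 l⁻¹
  rw [map_inv] at this
  rw [← mul_assoc, this, mul_assoc, mul_assoc, u2, mul_one, ← mul_inv_rev, ← map_mul, l2, map_one, inv_one]
theorem not_mem : t ∉ ψ.range := fun ⟨x, e⟩ => s.t1 (by
  obtain ⟨r, hr⟩ := odd_pow b.oddZ
  have : x ∈ center J := b.center_of fun y => s.ker _ (by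
    rw [map_commutatorElement, commutatorElement_eq_one_iff_mul_comm, e, s.tψ])
  rw [← pow_odd s.t2 r, ← e, ← map_pow, hr x this, map_one])
/-- As `GSt.St.T3`. -/
theorem T3 {a c : G} (hu : u * t = t * u) (ha : a * t = t * a) (hc : c * t = t * c) (u2 : u * u = 1)
    (e1 : a * u * a⁻¹ = v) (e2 : c * u * c⁻¹ = u * v) : u ∈ ψ.range := by
  have k1 := b.Θ_cj (s.act b ⟨a, mc.2 ha⟩) (s.act b ⟨u, mc.2 hu⟩)
  have k2 := b.Θ_cj (s.act b ⟨c, mc.2 hc⟩) (s.act b ⟨u, mc.2 hu⟩)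
  rw [← map_inv, ← map_mul, ← map_mul] at k1 k2
  rw [show (⟨c, mc.2 hc⟩ * ⟨u, mc.2 hu⟩ * (⟨c, mc.2 hc⟩ : 𝐂[t])⁻¹ : 𝐂[t]) =
      ⟨u, mc.2 hu⟩ * (⟨a, mc.2 ha⟩ * ⟨u, mc.2 hu⟩ * (⟨a, mc.2 ha⟩ : 𝐂[t])⁻¹)
    from Subtype.ext (e2.trans (by rw [← e1]; rfl)), map_mul, map_mul, k1, mul_eq_left] at k2
  obtain ⟨l, -, e | e⟩ := s.inner b _ u2 k2
  · exact ⟨l, e.symm⟩
  have f : ∀ c, c * t = t * c → c * u * c⁻¹ * t ∈ ψ.range := fun c hc => by
    have := s.cL hc ⟨l, rfl⟩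
    rwa [e, ← conj_mul, cjf.2 hc, mul_assoc, s.t2, mul_one]
  have f1 := f a ha
  have f2 := f c hc
  rw [e2, mul_assoc, ← e1, mul_mem_cancel_right f1] at f2
  exact f2
/-- `tri`, `T3`, `qs`, `lift_range`. -/
theorem range {χ : J →* G} (hχ : ∀ x, χ x = 1 → x ∈ center J) (h : ∀ x, χ x * t = t * χ x) :
    ∃ γ : MulAut J, ∀ x, χ x = ψ (γ x) := by
  obtain ⟨u, a, c, u2, u1, e⟩ := b.tri
  have hu : χ u ∈ ψ.range := s.T3 b (v := χ (a * u * a⁻¹)) (h u) (h a) (h c) (by rw [← map_mul, u2, map_one]) (by simp)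
    (by rw [← map_inv, ← map_mul, ← map_mul, e, map_mul])
  have := (b.qs (ψ.range.comap χ) ⟨fun x hx g => by simpa using s.cL (h g) hx⟩).resolve_right fun l =>
    u1 (b.two_center (n := 1) (l hu) (by rwa [pow_one, sq]))
  exact b.lift_range s.ker hχ (by rintro _ ⟨x, rfl⟩; exact this.ge (mem_top x))
/-- The kernel of `act` on `E` lies in `{1, t}` (`kinv`). -/
theorem card_el {E : Subgroup G} (hE : El E) (h : E ≤ 𝐂[t]) :
    Nat.card E ≤ 2 * Nat.card ((E.subgroupOf 𝐂[t]).map (s.act b)) := by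
  classical
  let a := (s.act b).comp (E.subgroupOf 𝐂[t]).subtype
  have c3 : Nat.card a.ker ≤ 2 := by
    refine (Nat.card_le_card_of_injective (fun x : a.ker => decide (x.1.1.1 = 1)) fun x y e => ?_).trans_eq (by simp)
    have k : ∀ x : a.ker, x.1.1.1 = 1 ∨ x.1.1.1 = t := fun x =>
      s.kinv _ (mc.1 x.1.1.2) ((s.act_one b x.1.1.2).1 x.2) (hE _ x.1.2)
    simp only [decide_eq_decide] at e
    refine Subtype.ext (Subtype.ext (Subtype.ext ?_))
    rcases k x with p | p <;> rcases k y with q | q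
    exacts [p.trans q.symm, p.trans (e.1 p).symm, (e.2 q).trans q.symm, p.trans q.symm]
  rw [← Nat.card_congr (subgroupOfEquivOfLe h).toEquiv, ← a.ker.card_mul_index, index_ker, MonoidHom.range_comp, range_subtype]
  exact Nat.mul_le_mul_right _ c3
/-- As in `GSt.Gl`; `ψ x ∈ O` gives `x ∈ center J` (`qs`, `tri`). -/
theorem inf_odd [O.Normal] (hO : Odd (Nat.card O)) {x : J} (h : ψ x ∈ O) : x ∈ center J := by
  refine (b.qs (O.comap ψ) inferInstance).elim (fun e => False.elim ?_) fun l => l h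
  obtain ⟨u, -, -, u2, u1, -⟩ := b.tri
  obtain ⟨r, hr⟩ := odd_pow hO
  have := hr _ (show ψ u ∈ O from (e.ge trivial : u ∈ O.comap ψ))
  rw [← map_pow, pow_odd u2] at this
  exact u1 (b.two_center (n := 1) (s.ker _ this) (by rwa [pow_one, sq]))
theorem quo [O.Normal] (hO : Odd (Nat.card O)) : St ((QuotientGroup.mk' O).comp ψ) (QuotientGroup.mk' O t) := by
  obtain ⟨r, hr⟩ := odd_pow hO
  have k : ∀ {x}, QuotientGroup.mk' O x = 1 ↔ x ∈ O := fun {x} => QuotientGroup.eq_one_iff x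
  have tO : t ∉ O := fun e => s.t1 (by simpa [pow_odd s.t2] using hr t e)
  have lift : ∀ g, g * QuotientGroup.mk' O t = QuotientGroup.mk' O t * g →
      ∃ c, c * t = t * c ∧ QuotientGroup.mk' O c = g := fun g hg => by
    obtain ⟨g, rfl⟩ := QuotientGroup.mk'_surjective O g
    obtain ⟨u, hu⟩ : ∃ u, u = g * t * g⁻¹ := ⟨_, rfl⟩
    have u2 : u * u = 1 := hu ▸ cj2 s.t2 g
    have o : t * u ∈ O := by
      rw [← k, hu, map_mul, map_mul, map_mul, hg, map_inv, mul_inv_cancel_right, ← map_mul, s.t2, map_one]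
    have e : ∀ n : ℕ, (t * u) ^ n * t * (t * u) ^ n = t := fun n => by
      induction n with
      | zero => simp
      | succ n ih =>
        nth_rw 2 [pow_succ']
        rw [pow_succ, show ∀ a : G, a * (t * u) * t * (t * u * a) = a * t * (u * (t * t) * u) * a from
          fun a => by group, s.t2, mul_one, u2, mul_one, ih]
    refine ⟨(t * u) ^ (r + 1) * g, ?_, by rw [map_mul, k.2 (pow_mem o _), one_mul]⟩
    have e2 : (t * u) ^ (r + 1) * (t * u) ^ r = 1 := by rw [← pow_add, ← hr _ o]; congr 1; ring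
    calc _ = (t * u) ^ r * t * (u * u) * g := by
          rw [mul_assoc _ g, show g * t = u * g by rw [hu]; group, pow_succ]; simp only [mul_assoc]
      _ = (t * u) ^ r * t * ((t * u) ^ r * (t * u) ^ (r + 1)) * g := by
        rw [u2, (Commute.pow_pow_self _ _ _).eq, e2]
      _ = _ := by rw [← mul_assoc, e]; group
  refine ⟨fun x e => s.inf_odd b hO (k.1 e), by rw [← map_mul, s.t2, map_one],
    mt k.1 tO, fun x => by simp only [MonoidHom.comp_apply, ← map_mul, s.tψ], fun g hg => ?_, fun g hg h g2 => ?_⟩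
  · obtain ⟨c, hc, rfl⟩ := lift g hg
    obtain ⟨α, e⟩ := s.cn c hc
    exact ⟨α, fun x => by simp only [MonoidHom.comp_apply, ← e, map_mul, map_inv]⟩
  obtain ⟨c, hc, rfl⟩ := lift g hg
  have c2 : c * c ∈ O := by rwa [← map_mul, k] at g2
  have cψ : ∀ x, c * ψ x = ψ x * c := by
    obtain ⟨α, e⟩ := s.cn c hc
    obtain rfl : 1 = α := b.aut_ext fun x => s.inf_odd b hO (by
      rw [← k, map_mul, ← e, map_inv, map_mul, map_mul, map_mul,
        show QuotientGroup.mk' O c * QuotientGroup.mk' O (ψ x) = _ from h x]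
      simp)
    exact fun x => cjf.1 (e x)
  have := s.kinv (c ^ (2 * r + 1)) ((Commute.pow_left hc _).eq) (fun x => (Commute.pow_left (cψ x) _).eq)
    (by rw [← (Commute.refl c).mul_pow, hr _ c2])
  rw [← pow_odd g2 r, ← map_pow]
  exact this.imp (fun e => by rw [e, map_one]) fun e => by rw [e]
omit b in
theorem conj_t (hu : u ∈ 𝐂(ψ.range)) (u2 : u * u = 1) (u1 : u ≠ 1) : ∃ c ∈ 𝐂(ψ.range), c * u * c⁻¹ = t := by
  have ht : t ∈ 𝐂(ψ.range) := by rintro _ ⟨x, rfl⟩; exact (s.tψ x).symm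
  obtain ⟨P, hP, tP⟩ := Syl.exists_ge (tw_inv2 s.t2) (zpowers_le.2 ht)
  have tP := tP (mem_zpowers t)
  have k : ∀ v ∈ P, v * t = t * v → v * v = 1 → v ≠ 1 → v = t := fun v hv e v2 v1 =>
    (s.kinv v e (fun x => (hP.le hv _ ⟨x, rfl⟩).symm) v2).resolve_left v1
  obtain ⟨z, hz, h3, h4, h5⟩ := Rk2.exists_central_inv hP.pgroup fun e => s.t1 (mem_bot.1 (e ▸ tP))
  obtain rfl := k z hz (h5 t tP).symm h4 (Inv.orderOf_eq_two_iff.1 h3).1
  obtain ⟨c, hc, e⟩ := syl_conj1 hP (tw_inv2 u2) hu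
  exact ⟨c, hc, k _ e (h5 _ e) (cj2 u2 c) (by simpa using u1)⟩
omit b in
theorem mem_norm (hu : u ∈ 𝐂(ψ.range)) (u2 : u * u = 1) (u1 : u ≠ 1) (h : g⁻¹ * u * g ∈ 𝐂(ψ.range)) :
    g ∈ 𝐍(ψ.range) := by
  obtain ⟨c, hc, e⟩ := s.conj_t hu u2 u1
  obtain ⟨d, hd, e'⟩ := s.conj_t h (by simpa using cj2 u2 g⁻¹) fun e => u1 (by
    rw [show u = g * (g⁻¹ * u * g) * g⁻¹ by group, e]; group)
  have : c * g * d⁻¹ ∈ 𝐍(ψ.range) := mem_normalizer_fintype fun x hx => s.cL (cjf.1 (by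
    nth_rw 1 [← e']; rw [← e]; group)) hx
  rwa [mul_mem_cancel_right (inv_mem (cent_le_norm _ hd)), mul_mem_cancel_left (cent_le_norm _ hc)] at this
/-- As `GSt.St.std`; the two commuting involutions are `u`, `a u a⁻¹` of `tri`. -/
theorem std : IsStandardSubgroup ψ.range := by
  obtain ⟨u, a, c, u2, u1, e0⟩ := b.tri
  have ht : t ∈ 𝐂(ψ.range) := by rintro _ ⟨x, rfl⟩; exact (s.tψ x).symm
  have i : ∀ {x y : J}, x * x = 1 → y * y = 1 → ψ x = ψ y → x = y := fun hx hy =>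
    s.inj2 b (n := 1) (k := 1) (by rwa [pow_one, sq]) (by rwa [pow_one, sq])
  have i1 : ∀ {x : J}, x * x = 1 → ψ x = 1 → x = 1 := fun hx e => i hx (one_mul _) (e.trans (map_one ψ).symm)
  have : Nontrivial J := ⟨u, 1, u1⟩
  have : Nontrivial ψ.range := ⟨⟨_, u, rfl⟩, 1, fun e => u1 (i1 u2 (congrArg Subtype.val e))⟩
  refine ⟨Comp.isQuasisimple_of_surjective (Comp.isQuasisimple_of_normal b.perf b.qs) ψ.rangeRestrict_surjective,
    ⟨even_iff_two_dvd.2 (Inv.orderOf_eq_two_iff.2 ⟨s.t1, s.t2⟩ ▸ orderOf_dvd_natCard _ ht), fun g hg => ?_⟩,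
    fun g hg h => ?_, le_antisymm (norm_cent le_rfl) fun g hg =>
      s.mem_norm ht s.t2 s.t1 (conj_mem_of_norm' hg ht)⟩
  · by_contra c
    obtain ⟨⟨u, hu, v, hv, rfl⟩, o⟩ := exists_prime_orderOf_dvd_card' 2 (Nat.not_odd_iff_even.1 c).two_dvd
    rw [← orderOf_coe] at o
    obtain ⟨t1, t2⟩ := Inv.orderOf_eq_two_iff.1 o
    exact hg (norm_cent le_rfl (s.mem_norm hu t2 t1 (by simpa [mul_assoc] using hv)))
  · have k : ∀ x, g * ψ x * g⁻¹ ∈ 𝐂(ψ.range) := fun x y hy => commutatorElement_eq_one_iff_mul_comm.1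
      (mem_bot.1 (h ▸ commutator_mem_commutator hy ⟨_, ⟨x, rfl⟩, rfl⟩))
    obtain ⟨d, hd, e⟩ := s.conj_t (k u) (cj2 (by rw [← map_mul, u2, map_one]) g) fun e => u1 (i1 u2 (conj_eq_one_iff.1 e))
    have v2 := cj2 u2 a
    have uv : a * u * a⁻¹ * u = u * (a * u * a⁻¹) := by
      rw [← inv_eq_of_mul_eq_one_left (e0 ▸ cj2 u2 c : u * (a * u * a⁻¹) * (u * (a * u * a⁻¹)) = 1),
        mul_inv_rev _ (a * u * a⁻¹), inv_eq_of_mul_eq_one_left v2, inv_eq_of_mul_eq_one_left u2]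
    rcases s.kinv (d * (g * ψ (a * u * a⁻¹) * g⁻¹) * d⁻¹) (e ▸ cjc (cjc (by rw [← map_mul, uv, map_mul]) g) d)
      (fun x => (mul_mem (mul_mem hd (k _)) (inv_mem hd) _ ⟨x, rfl⟩).symm)
      (cj2 (cj2 (by rw [← map_mul, v2, map_one]) g) d) with e' | e'
    · exact u1 (conj_eq_one_iff.1 (i1 v2 (conj_eq_one_iff.1 (conj_eq_one_iff.1 e'))))
    · rw [← e, mul_left_inj, mul_right_inj, mul_left_inj, mul_right_inj] at e'
      rw [i v2 u2 e', u2] at e0
      exact u1 (conj_eq_one_iff.1 e0)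
/-- Restriction to a subgroup. -/
theorem sub {H : Subgroup G} (hψ : ∀ x, ψ x ∈ H) (ht : t ∈ H) : St (ψ.codRestrict H hψ) ⟨t, ht⟩ where
  ker x e := s.ker x (congrArg Subtype.val e)
  t2 := Subtype.ext s.t2
  t1 e := s.t1 (congrArg Subtype.val e)
  tψ x := Subtype.ext (s.tψ x)
  cn g hg := (s.cn g (congrArg Subtype.val hg)).imp fun _ a x => Subtype.ext (a x)
  kinv g hg h g2 := (s.kinv g (congrArg Subtype.val hg) (fun x => congrArg Subtype.val (h x)) (congrArg Subtype.val g2)).imp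
    Subtype.ext Subtype.ext
end St

theorem St.mk' (b : BM J A) (ker : ∀ x, ψ x = 1 → x ∈ center J) (t2 : t * t = 1) (t1 : t ≠ 1) (tψ : ∀ x, t * ψ x = ψ x * t)
    (cn : ∀ g, g * t = t * g → ∀ x, g * ψ x * g⁻¹ ∈ ψ.range)
    (kinv : ∀ g, g * t = t * g → (∀ x, g * ψ x = ψ x * g) → g * g = 1 → g = 1 ∨ g = t) : St ψ t :=
  ⟨ker, t2, t1, tψ, fun g hg => b.lift_aut ker (cn g hg), kinv⟩

/-- As `GSt.St.of_std`. -/
theorem St.of_std (b : BM J A) (ker : ∀ x, ψ x = 1 → x ∈ center J) (hL : IsStandardSubgroup ψ.range)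
    (hR : ∀ R : Sylow 2 𝐂(ψ.range), IsCyclic (R : Subgroup 𝐂(ψ.range))) : ∃ t, St ψ t := by
  obtain ⟨⟨t, ht⟩, o⟩ := exists_prime_orderOf_dvd_card' (G := 𝐂(ψ.range)) 2 hL.2.1.1.two_dvd
  rw [← orderOf_coe] at o
  obtain ⟨t1, t2⟩ := Inv.orderOf_eq_two_iff.1 o
  refine ⟨t, St.mk' b ker t2 t1 (fun x => (ht _ ⟨x, rfl⟩).symm) (fun g hg x => conj_mem_of_norm (hL.2.2.2 ▸ ?_) ⟨x, rfl⟩)
    fun g hg h g2 => or_iff_not_imp_left.2 fun g1 => ?_⟩
  · by_contra e
    exact (hL.2.1.2 g e).not_two_dvd_nat (o ▸ orderOf_dvd_natCard _ (mem_inf.2 ⟨ht, t, ht, cjf.2 hg⟩))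
  have hg' : g ∈ 𝐂(ψ.range) := by rintro _ ⟨x, rfl⟩; exact (h x).symm
  obtain ⟨R, r⟩ := (pgroup_two (x := (⟨g, hg'⟩ : 𝐂(ψ.range))) (y := ⟨t, ht⟩) (tw_inv2 (Subtype.ext g2))
    (tw_inv2 (Subtype.ext t2)) (Subtype.ext hg)).exists_le_sylow
  exact congrArg Subtype.val (Inv.eq_of_isCyclic_of_orderOf_two (hR R) (r (mem_sup_left (mem_zpowers _)))
    (r (mem_sup_right (mem_zpowers _))) (by rw [← orderOf_coe]; exact Inv.orderOf_eq_two_iff.2 ⟨g1, g2⟩)
    (by rw [← orderOf_coe]; exact o))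

namespace S1
variable (s : S1 ψ t O)
include s
/-- As in `GSt.SL`. -/
theorem two_el {n : ℕ} (hn : g ^ 2 ^ n = 1) (h1 : g * t = t * g) (h2 : ∀ x, g * ψ x = ψ x * g) : g = 1 ∨ g = t := by
  obtain ⟨r, e⟩ := odd_pow s.odd
  refine (s.K0 g h1 h2).imp (fun p => one_of hn (e g p)) fun p => ?_
  have := one_of (n := n + 1) (by
    rw [Commute.mul_pow h1.symm, pow_succ 2, pow_mul g, hn, one_pow, mul_one, pow_mul', sq, s.t2, one_pow]) (e _ p)
  rw [eq_inv_of_mul_eq_one_right this, s.it]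
theorem norm (h : g * t = t * g) : g ∈ 𝐍(O) := mem_normalizer_fintype fun o p => by
  obtain ⟨r, e⟩ := odd_pow s.odd
  have c : g * o * g⁻¹ * t = t * (g * o * g⁻¹) := Commute.mul_left (Commute.mul_left h (s.Ot o p)) (Commute.inv_left h)
  refine (s.K0 _ c fun x => ?_).resolve_right fun q => s.t1 ?_
  · obtain ⟨y, f⟩ := s.cL (g := g⁻¹) (Commute.inv_left h) ⟨x, rfl⟩
    simpa [f, mul_assoc] using cjc (s.Oψ o p y) g
  · simpa only [Commute.mul_pow c.symm, conj_pow, e o p, mul_one, mul_inv_cancel, pow_odd s.t2] using e _ q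
/-- The centre of `J` has odd order. -/
theorem center_mem (b : BM J A) {x : J} (h : x ∈ center J) : ψ x ∈ O := by
  refine (s.K0 _ (s.tψ x).symm fun y => by rw [← map_mul, ← map_mul, mem_center_iff.1 h y]).resolve_right fun q => s.t1 ?_
  obtain ⟨r, e⟩ := odd_pow s.odd
  obtain ⟨r', e'⟩ := odd_pow b.oddZ
  have := e _ (pow_mem q (2 * r' + 1))
  rwa [Commute.mul_pow (s.tψ x), ← map_pow, e' x h, map_one, mul_one, pow_odd s.t2, pow_odd s.t2] at this
/-- Passage to `N(O) / O` (see the first half of `GSt.S1.zd`). -/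
theorem bar (b : BM J A) (hψ : ∀ x, ψ x ∈ 𝐍(O)) (ht : t ∈ 𝐍(O)) :
    S1 ((QuotientGroup.mk' (O.subgroupOf 𝐍(O))).comp (ψ.codRestrict _ hψ))
      (QuotientGroup.mk' (O.subgroupOf 𝐍(O)) ⟨t, ht⟩) ⊥ := by
  obtain ⟨r, hr⟩ := odd_pow s.odd
  have o1 : ∀ o ∈ O, o * o = 1 → o = 1 := fun o p e => (pow_odd e r).symm.trans (hr o p)
  let ψ₁ : J →* 𝐍(O) := ψ.codRestrict _ hψ
  let t₁ : 𝐍(O) := ⟨t, ht⟩
  let π := QuotientGroup.mk' (O.subgroupOf 𝐍(O))
  have π1 : ∀ {a c}, π a = π c ↔ (a⁻¹ * c).1 ∈ O := QuotientGroup.eq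
  have su := QuotientGroup.mk'_surjective (O.subgroupOf 𝐍(O))
  have un : ∀ {a c : 𝐍(O)}, (∀ o ∈ O, o * a = a * o) → a * a = 1 → c * c = 1 → π a = π c → a = c := fun {a c} p e f q => by
    have := π1.1 q
    refine inv_mul_eq_one.1 (Subtype.ext (o1 _ this ?_))
    rw [← one_mul (_ * _), ← coe_one 𝐍(O), ← e, coe_mul _ a a, ← Commute.mul_mul_mul_comm (p _ this), ← coe_mul,
      mul_inv_cancel_left, ← coe_mul, ← coe_mul, f, e]
  have LO : ∀ x, ψ x ∈ O → x ∈ center J := fun x p => b.center_of fun y => s.ker _ (by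
    rw [map_commutatorElement, commutatorElement_eq_one_iff_mul_comm, s.Oψ _ p])
  have ct : ∀ n, π n * π t₁ = π t₁ * π n → n.1 * t = t * n := fun n e => cjf.1 (congrArg Subtype.val
    (un (a := t₁) (c := n * t₁ * n⁻¹) s.Ot (Subtype.ext s.t2) (cj2 (Subtype.ext s.t2) n)
      (by rw [map_mul, map_mul, e, map_inv, mul_inv_cancel_right])).symm)
  have K0 : ∀ g, g * π t₁ = π t₁ * g → (∀ x, g * π.comp ψ₁ x = π.comp ψ₁ x * g) → g = 1 ∨ π t₁ * g = 1 := fun g e f => by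
    obtain ⟨n, rfl⟩ := su g
    obtain ⟨α, a⟩ := s.cn _ (ct n e)
    obtain rfl : 1 = α := b.aut_ext fun x => LO _ (by
      rw [map_mul, map_inv, ← a]
      exact (π1 (a := ψ₁ x) (c := n * ψ₁ x * n⁻¹)).1 (by rw [map_mul, map_mul, map_inv]; exact (cjf.2 (f x)).symm))
    exact (s.K0 _ (ct n e) fun x => cjf.1 (a x)).imp (QuotientGroup.eq_one_iff _).2 (QuotientGroup.eq_one_iff (t₁ * n)).2
  have t2 : π t₁ * π t₁ = 1 := by rw [← map_mul, show t₁ * t₁ = 1 from Subtype.ext s.t2, map_one]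
  exact ⟨⟨fun x e => LO x ((QuotientGroup.eq_one_iff (ψ₁ x)).1 e), t2,
    fun e => s.t1 (o1 t ((QuotientGroup.eq_one_iff t₁).1 e) s.t2),
    fun x => congrArg π (a₁ := t₁ * ψ₁ x) (a₂ := ψ₁ x * t₁) (Subtype.ext (s.tψ x)),
    fun g e => by
      obtain ⟨n, rfl⟩ := su g
      exact (s.cn _ (ct n e)).imp fun α a x => congrArg π (a₁ := n * ψ₁ x * n⁻¹) (Subtype.ext (a x)),
    fun g e f _ => (K0 g e f).imp_right fun p => mul_left_cancel (p.trans t2.symm)⟩, by simp, by simp, by simp, K0⟩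
end S1

end Cfsg.Lib.USt
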