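import Cfsg.Agent.Lib.USt.Gn
import Cfsg.Agent.Lib.GSt.SB

/-!
# S3137/S3128, split case I, first part: lemmas on the model `SM`.
-/

set_option autoImplicit false
set_option linter.unusedSectionVars false

namespace Cfsg.Lib.USt

open Subgroup G2S Cfsg.Lib.BG Cfsg.Lib.GW GSt.SLa
open GSt (N0 HH)
open scoped commutatorElement Cfsg.Lib.Transfer

variable {J U A G : Type*} [Group J] [Finite J] [Group U] [Finite U] [Group A] [Group G] [Finite G]
  {ψ μ ν : J →* G} {t g : G} {P T Γ : Subgroup G} {α β α' β' : MulAut J} {θ η θ' η' ι : A}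

theorem conj_one_iff {X : Type*} [Group X] {l : X} : MulAut.conj l = 1 ↔ l ∈ center X :=
  ⟨fun h => mem_center_iff.2 fun y => (cjf.1 (DFunLike.congr_fun h y)).symm,
    fun h => MulEquiv.ext fun y => cjf.2 (mem_center_iff.1 h y).symm⟩

theorem pg_prod {X Y : Type*} [Group X] [Group Y] {P₁ : Subgroup X} {P₂ : Subgroup Y} (h₁ : IsPGroup 2 P₁) (h₂ : IsPGroup 2 P₂) :
    IsPGroup 2 (P₁.prod P₂) := fun ⟨x, hx⟩ => by
  obtain ⟨a, ha⟩ := h₁ ⟨_, hx.1⟩
  obtain ⟨c, hc⟩ := h₂ ⟨_, hx.2⟩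
  refine ⟨a + c, Subtype.ext (Prod.ext ?_ ?_)⟩
  · exact (show x.1 ^ _ = 1 by rw [pow_add, pow_mul, show x.1 ^ _ = 1 from congrArg Subtype.val ha, one_pow])
  · exact (show x.2 ^ _ = 1 by rw [pow_add, mul_comm, pow_mul, show x.2 ^ _ = 1 from congrArg Subtype.val hc, one_pow])

theorem El.map {X Y : Type*} [Group X] [Group Y] {E : Subgroup X} (h : El E) (f : X →* Y) : El (E.map f) := by
  rintro _ ⟨x, hx, rfl⟩
  rw [← map_mul, h x hx, map_one]

theorem El.prod {X Y : Type*} [Group X] [Group Y] {E : Subgroup X} {E' : Subgroup Y} (h : El E) (h' : El E') : El (E.prod E') :=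
  fun _ hx => Prod.ext (h _ hx.1) (h' _ hx.2)

theorem N0_le : N0 μ ν ≤ 𝐍(μ.range) := fun _ ⟨_, _, h⟩ => Transfer.mem_normalizer_of_conj_le (Transfer.conj_le_iff.2 (by
  rintro _ ⟨x, rfl⟩; exact ⟨_, (h.1 x).symm⟩))

namespace SM
variable (m : SM J U A)
include m

theorem pU : IsPGroup 2 U := m.em.syl.pgroup.of_equiv (MonoidHom.ofInjective m.em.inj).symm
theorem j_two (u : U) : ∃ n, m.j u ^ 2 ^ n = 1 := let ⟨n, e⟩ := m.pU u; ⟨n, by rw [← map_pow, e, map_one]⟩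
theorem jz : m.j m.z ∉ center J := fun h => m.z1 ((map_eq_one_iff _ m.em.inj).1 (m.two_center h (m.j_two _).choose_spec))
theorem Θ_spec (l : J) (θ : A) : m.Θ (MulAut.conj l * m.fl θ) = θ := by
  rw [map_mul, m.Θ_conj, one_mul, m.Θ_fl]
theorem fl_conj (θ : A) (l : J) : m.fl θ * MulAut.conj l = MulAut.conj (m.fl θ l) * m.fl θ :=
  MulEquiv.ext fun x => by simp
theorem R_mul (a a' : U) (θ θ' : A) : MulAut.conj (m.j (a * m.fU θ a')) * m.fl (θ * θ') =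
    MulAut.conj (m.j a) * m.fl θ * (MulAut.conj (m.j a') * m.fl θ') := by
  rw [map_mul, map_mul, map_mul, ← m.fl_j, mul_assoc, mul_assoc, ← mul_assoc (m.fl θ), m.fl_conj, mul_assoc]
theorem R_j (a x : U) (θ : A) : (MulAut.conj (m.j a) * m.fl θ) (m.j x) = m.j (a * m.fU θ x * a⁻¹) := by simp [m.fl_j]
/-- The standard Sylow subgroup of `Aut J`. -/
def R : Subgroup (MulAut J) where
  carrier := {α | ∃ u θ, α = MulAut.conj (m.j u) * m.fl θ}
  one_mem' := ⟨1, 1, by simp⟩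
  mul_mem' := by rintro _ _ ⟨a, θ, rfl⟩ ⟨a', θ', rfl⟩; exact ⟨_, _, (m.R_mul _ _ _ _).symm⟩
  inv_mem' := by
    rintro _ ⟨a, θ, rfl⟩
    exact ⟨m.fU θ⁻¹ a⁻¹, θ⁻¹, by rw [← m.fl_j, ← m.fl_conj]; simp⟩
/-- `R` is a `2`-group.  If `R ≤ R'`, a `2`-group, and `x ∈ R'`, then `x (fl (Θ x))⁻¹ = conj l` (`inner`, `two_of`: `l` a `2`-element); the
`2`-elements `l` with `conj l ∈ R'` form a `2`-subgroup of `J` (`two_eq`, or: the preimage of `R'` is `2`-group × centre) containing `j U`. -/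
theorem syl_R : Syl 2 m.R ⊤ := by
  refine Syl.of_max le_top (fun ⟨x, hx⟩ => ?_) fun R' hR h1 _ x hx => ?_
  · obtain ⟨k, hk⟩ := m.p2 (m.Θ x)
    obtain ⟨u, θ, e⟩ := pow_mem hx (2 ^ k)
    obtain rfl : θ = 1 := by rw [← m.Θ_spec (m.j u) θ, ← e, map_pow, hk]
    obtain ⟨n, hn⟩ := m.j_two u
    exact ⟨k + n, Subtype.ext (show x ^ _ = 1 by rw [pow_add, pow_mul, e, map_one, mul_one, ← map_pow, hn, map_one])⟩
  have hy := mul_mem hx (inv_mem (h1 (show m.fl (m.Θ x) ∈ m.R from ⟨1, m.Θ x, by simp⟩)))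
  obtain ⟨k, hk⟩ := hR ⟨_, hy⟩
  obtain ⟨l, e⟩ := m.inner _ k (congrArg Subtype.val hk) (by rw [map_mul, map_inv, m.Θ_fl, mul_inv_cancel])
  have := (m.em.syl.of_le (M := R'.comap MulAut.conj) (by rintro _ ⟨u, rfl⟩; exact h1 ⟨u, 1, by simp⟩) le_top).sup_eq
    (N := (MulAut.conj : J →* _).ker) (ker_le_comap _ _)
    (by rw [relIndex_ker]; exact PiGrp.p_iff.2 (pgroup_of_le hR (map_comap_le _ _)))
  obtain ⟨z, hz, _, ⟨u, rfl⟩, rfl⟩ := mem_sup_of_normal_left.1 (this.ge (show l ∈ R'.comap MulAut.conj from mem_comap.2 (e ▸ hy)))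
  exact ⟨u, _, mul_inv_eq_iff_eq_mul.1 (e.trans (by rw [map_mul, show MulAut.conj z = 1 from hz, one_mul]))⟩
/-- Conjugate `α` into `R`; `inn` resp. `low` with `i = 0`. -/
theorem fix_el (h : α * α = 1) : ∃ E : Subgroup J, El E ∧ (∀ x ∈ E, α x = x) ∧
    (m.Θ α = 1 → m.a ≤ Nat.card E) ∧ (m.Θ α ≠ 1 → m.bb 0 ≤ Nat.card E) := by
  by_cases h0 : m.Θ α = 1
  · obtain ⟨l, rfl⟩ := m.inner α 1 (by rw [pow_one, sq, h]) h0
    obtain ⟨l, h1, e⟩ := m.sq_of h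
    obtain ⟨E, h2, h3, h4⟩ := m.inn l h1
    exact ⟨E, h2, fun x hx => e ▸ cjf.2 (h2.comm h3 hx), fun _ => h4, fun c => absurd h0 c⟩
  obtain ⟨γ, -, e⟩ := m.syl_R.exists_conj_le (Inv.isPGroup_zpowers_of_mul_self h) le_top
  obtain ⟨u, θ, e⟩ := Transfer.conj_le_iff.1 e α (mem_zpowers α)
  obtain rfl : m.Θ α = θ := by rw [← m.Θ_cj γ, e, m.Θ_spec]
  obtain ⟨E, h1, h2, h3⟩ := m.low u (m.Θ α) 0 (Inv.orderOf_eq_two_iff.2 ⟨h0, by rw [← map_mul, h, map_one]⟩)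
    (by rw [← e]; exact (sq _).trans (cj2 h γ))
  refine ⟨(E.map m.j).map γ⁻¹.toMonoidHom, (h1.map _).map _, ?_, fun c => absurd c h0, fun _ => ?_⟩
  · rintro _ ⟨_, ⟨x, hx, rfl⟩, rfl⟩
    have := m.R_j u x (m.Θ α)
    rw [h2 x hx, ← e] at this
    conv_rhs => rw [← this]
    simp
  · rwa [card_map_of_injective γ⁻¹.injective, card_map_of_injective m.em.inj]
/-- `E₀ = E ⊓ ker Θ` has index `≤ 2` (`eq_of_inv`) and is the image of `{l | l² = 1, conj l ∈ E₀}` (`sq_of`; a subgroup: commutators are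
central `2`-elements).  If `E = E₀`: `rk0`; otherwise `up` with `i = 0`, `n2`. -/
theorem rk {E : Subgroup (MulAut J)} (h : El E) : Nat.card E ≤ m.a := by
  let D : Subgroup J :=
    { carrier := {l | l * l = 1 ∧ MulAut.conj l ∈ E}
      one_mem' := by simp
      inv_mem' := fun {l} hl => by rwa [inv_eq_of_mul_eq_one_left hl.1]
      mul_mem' := fun {a c} ha hc => by
        have k : MulAut.conj (a * c) ∈ E := map_mul (MulAut.conj : J →* _) a c ▸ mul_mem ha.2 hc.2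
        have z := conj_one_iff.1 ((map_mul _ _ _).trans (h _ k))
        refine ⟨m.two_center (n := 1) z ?_, k⟩
        rw [pow_one, sq]
        nth_rw 1 [← cjf.2 (mem_center_iff.1 z a)]
        simp only [inv_eq_of_mul_eq_one_left ha.1, mul_assoc, ← mul_assoc a a, ← mul_assoc c c, ha.1, hc.1, one_mul] }
  have k : Nat.card ↥(E ⊓ m.Θ.ker) ≤ Nat.card D := (card_le_of_le fun α hα => by
    obtain ⟨l, rfl⟩ := m.inner α 1 (by rw [pow_one, sq, h _ hα.1]) hα.2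
    obtain ⟨l', h1, e⟩ := m.sq_of (h _ hα.1)
    exact ⟨l', ⟨h1, e ▸ hα.1⟩, e.symm⟩).trans (Nat.le_of_dvd Nat.card_pos (card_map_dvd D MulAut.conj))
  by_cases c : E ≤ m.Θ.ker
  · exact (inf_eq_left.2 c ▸ k).trans (m.rk0 D fun _ hx => hx.1)
  obtain ⟨α, hα, c⟩ := SetLike.not_le_iff_exists.1 c
  have q : ∀ β ∈ E, m.Θ β * m.Θ β = 1 := fun β hβ => by rw [← map_mul, h β hβ, map_one]
  have h1 := m.up α 0 (Inv.orderOf_eq_two_iff.2 ⟨c, q α hα⟩) ((sq α).trans (h α hα)) D (fun _ hx => hx.1) fun x hx =>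
    m.two_eq (n := 1) (k := 1) (by rw [pow_one, sq, ← map_mul, hx.1, map_one]) ((sq x).trans hx.1) (conj_one_iff.1 (by
      have := h.comm hα hx.2
      rw [map_mul, map_inv, inv_mul_eq_one, ← mul_left_inj α, ← this]
      exact MulEquiv.ext fun y => by simp))
  have h2 := GSt.fx_card E m.Θ.ker (fun x => m.Θ x.1 = 1) fun a c e => by
    rw [MonoidHom.mem_ker, map_mul, map_inv, inv_mul_eq_one]
    by_cases ha : m.Θ a.1 = 1
    · exact ha.trans (e.mp ha).symm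
    · exact m.eq_of_inv (q _ a.2) (q _ c.2) ha (mt e.mpr ha)
  rw [GSt.card_Prop] at h2
  have := m.n2
  omega
theorem two_lt_b : 2 < m.bb 0 := by nlinarith [m.n1, m.n2]
/-- `n4`. -/
theorem two_lt_Z (h : 4 ∣ Nat.card A) : 2 < Nat.card (center U) := by
  have := m.fin
  have := Nat.le_of_dvd Nat.card_pos h
  have := m.n4 h
  nlinarith
theorem NZ_card {X Y : Subgroup U} [X.Normal] [Y.Normal] (h : X ⊓ Y = ⊥) :
    Nat.card X ≤ Nat.card (center U) ∨ Nat.card Y ≤ Nat.card (center U) := by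
  rcases m.NZ X inferInstance with h1 | h1
  · exact .inl (card_le_of_le h1)
  exact .inr (card_le_of_le ((m.NZ Y inferInstance).resolve_right fun h2 => m.z1 (mem_bot.1 (h.le ⟨h1 m.zZ, h2 m.zZ⟩))))
/-- `X` centralizes `U'` (three subgroups lemma), `c4`. -/
theorem Z2 {X : Subgroup U} (h : ∀ x ∈ X, ∀ y : U, ⁅y, x⁆ ∈ center U) : 4 * Nat.card X < Nat.card U := by
  have k : ⁅⁅⊤, X⁆, ⊤⁆ = ⊥ := commutator_eq_bot_iff_le_centralizer.2
    (commutator_le.2 fun y _ x hx => center_le_centralizer _ (h x hx y))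
  exact (Nat.mul_le_mul_left 4 (card_le_of_le (cent_symm (commutator_eq_bot_iff_le_centralizer.1
    (commutator_commutator_eq_bot_of_rotate k (commutator_comm X ⊤ ▸ k)))))).trans_lt m.c4
/-- `Θ α = θ = 1` by `CU`. -/
theorem CU' {u : U} (h : ∀ x, (MulAut.conj (m.j u) * m.fl θ) (m.j x) = m.j x) : θ = 1 ∧ u ∈ center U := by
  have k := fun x => m.em.inj ((m.R_j u x θ).symm.trans (h x))
  obtain rfl := m.CU u θ k
  exact ⟨rfl, mem_center_iff.2 fun x => (cjf.1 (by simpa using k x)).symm⟩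
end SM

end Cfsg.Lib.USt
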