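import Cfsg.Agent.Lib.USt.SA
import Cfsg.Agent.Lib.GSt.SB

/-!
# S3137/S3128, split case II (first part).  Port of the first half of `GSt/SB` (reuse its generic lemmas `two_mul_le`, `SN.zp2`, `Ac.pow`, `N0_symm`, ...).
`U₁ = (μ.comp j).range`, `U₂ = (ν.comp j).range`, `Z = center U`, `b = m.bb 0`; a *swap* is an element of `HH \ N0`.
-/

set_option autoImplicit false
set_option linter.unusedSectionVars false

namespace Cfsg.Lib.USt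

open Subgroup G2S Cfsg.Lib.BG Cfsg.Lib.GW GSt.SLa
open GSt (N0 HH)
open scoped commutatorElement Cfsg.Lib.Transfer

variable {J U A G : Type*} [Group J] [Finite J] [Group U] [Finite U] [Group A] [Group G] [Finite G] {m : SM J U A}
  {ψ μ ν : J →* G} {t g φ : G} {P T Γ N : Subgroup G} {α β : MulAut J} {θ η ι : A}

theorem Ty.symm (h : Ty m μ ν g θ η) : Ty m ν μ g η θ := let ⟨a, b, h⟩ := h; ⟨b, a, And.symm h⟩
theorem Ty.N0 (h : Ty m μ ν g θ η) : g ∈ N0 μ ν := let ⟨_, _, h⟩ := h; ⟨_, _, h⟩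
theorem SS_symm : SS m ν μ = SS m μ ν := sup_comm _ _
theorem Ph.symm (p : Ph m μ ν Γ N φ ι) : Ph m ν μ Γ N φ ι := ⟨p.mem, p.memN, p.cen, p.sq, And.symm p.ac, p.ι2, p.ι1⟩
theorem Pt.symm (p : Pt m μ ν t φ ι) : Pt m ν μ t φ ι :=
  ⟨p.sq, p.ct, let ⟨α, β, a, b, c⟩ := p.ac; ⟨β, α, And.symm a, c, b⟩, p.ι2, p.ι1⟩
theorem SM.fl_inj (m : SM J U A) (h : m.fl θ = m.fl η) : θ = η := by rw [← m.Θ_fl θ, h, m.Θ_fl]
theorem ty_fl (h : Ac μ ν g (m.fl θ) (m.fl η)) : Ty m μ ν g θ η := ⟨1, 1, by simpa using h⟩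
theorem sup_t [N.Normal] (t2 : t * t = 1) : g ∈ N ⊔ zpowers t ↔ g ∈ N ∨ g * t ∈ N := by
  refine ⟨fun h => ?_, fun h => h.elim mem_sup_left fun h => (mul_mem_cancel_right (mem_sup_right (mem_zpowers t))).1 (mem_sup_left h)⟩
  obtain ⟨a, ha, c, hc, rfl⟩ := mem_sup_of_normal_left.1 h
  rcases GSt.SN.zp2 t2 hc with rfl | rfl
  exacts [.inl (by rwa [mul_one]), .inr (by rwa [mul_assoc, t2, mul_one])]
theorem El.sup {E : Subgroup G} (h : El E) (g2 : g * g = 1) (c : ∀ x ∈ E, x * g = g * x) : El (E ⊔ zpowers g) := fun x hx => by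
  obtain ⟨a, ha, d, hd, rfl⟩ := (mem_sup_left_norm (norm_of_cent (zp_cent.2 fun x hx => mc.2 (c x hx)))).1 hx
  rcases GSt.SN.zp2 g2 hd with rfl | rfl
  exacts [by rw [mul_one, h a ha], Inv.mul_self_mul_of_comm (h a ha) g2 (c a ha)]

variable (m μ ν) in
/-- The elements whose types have order at most two. -/
def I4 : Subgroup G where
  carrier := {g | ∃ α β, Ac μ ν g α β ∧ m.Θ α * m.Θ α = 1 ∧ m.Θ β * m.Θ β = 1}
  one_mem' := ⟨1, 1, GSt.Ac.one, by simp, by simp⟩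
  mul_mem' := fun ⟨_, _, a, b, c⟩ ⟨_, _, a', b', c'⟩ => ⟨_, _, a.mul a', by
    rw [map_mul]; exact Inv.mul_self_mul_of_comm b b' (m.comm _ _), by rw [map_mul]; exact Inv.mul_self_mul_of_comm c c' (m.comm _ _)⟩
  inv_mem' := fun ⟨_, _, a, b, c⟩ => ⟨_, _, a.inv, by rw [map_inv, ← _root_.mul_inv_rev, b, inv_one],
    by rw [map_inv, ← _root_.mul_inv_rev, c, inv_one]⟩

section
variable {b : U →* G} {e : G}

theorem A_card (e2 : e * e = 1) (hc : ∀ x, e * b x = b x * e) {X : Subgroup G} (he : e ∉ X) :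
    Nat.card ↥((b.range ⊔ zpowers e) ⊓ X) ≤ Nat.card ((X ⊔ zpowers e).comap b) := by
  have n : zpowers e ≤ 𝐍(b.range) := norm_of_cent (zp_cent.2 (by rintro _ ⟨x, rfl⟩; exact mem_cent1.2 (hc x).symm))
  choose f hf c hc' e' using fun y : ↥((b.range ⊔ zpowers e) ⊓ X) => (mem_sup_left_norm n).1 y.2.1
  choose x hx using hf
  refine Nat.card_le_card_of_injective (fun y => ⟨x y, ?_⟩) fun y y' h => Subtype.ext ?_
  · rw [mem_comap, hx, eq_mul_inv_of_mul_eq (e' y)]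
    exact mul_mem_sup y.2.2 (inv_mem (hc' y))
  · have h1 : f y = f y' := by rw [← hx, ← hx, show x y = x y' from Subtype.ext_iff.1 h]
    have h2 := mul_mem (inv_mem (mem_inf.1 y.2).2) y'.2.2
    rcases GSt.SN.zp2 e2 (mul_mem (inv_mem (hc' y)) (hc' y')) with h3 | h3
    · rw [← e', ← e', h1, inv_mul_eq_one.1 h3]
    · exact absurd (by rw [← h3]; convert h2 using 1; rw [← e', ← e', h1]; group) he

theorem A_norm (hc : ∀ x, e * b x = b x * e) {X : Subgroup G} {y x : U} (hy : b y ∈ 𝐍(X)) (hx : x ∈ (X ⊔ zpowers e).comap b) :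
    y * x * y⁻¹ ∈ (X ⊔ zpowers e).comap b := by
  simpa using conj_mem_of_norm (norm_sup (zp_norm.2 hy) (norm_of_cent (cent_symm (zp_cent.2 (zpowers_le.2 (mem_cent1.2 (hc y).symm)))))
    (mem_zpowers _)) hx

theorem P_card (bi : Function.Injective b) (hb : e ∉ b.range) : 2 * Nat.card U ≤ Nat.card ↥(b.range ⊔ zpowers e) := by
  rw [Nat.card_congr (MonoidHom.ofInjective bi).toEquiv]
  exact GSt.two_mul_le (left_lt_sup.2 (mt zpowers_le.1 hb))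

theorem P_cen (hc : ∀ x, e * b x = b x * e) : ∀ x ∈ b.range ⊔ zpowers e, e * x = x * e := fun _ hx =>
  (mem_cent1.1 (sup_le (by rintro _ ⟨x, rfl⟩; exact mem_cent1.2 (hc x).symm) (zpowers_le.2 (self_mem_cent1 e)) hx)).symm
end

namespace SN
variable (s : SN m ψ t μ ν T Γ N)
include s

theorem sq : SQ ψ t μ ν := s.toSP.sq
theorem symm : SN m ψ t ν μ T Γ N := ⟨s.toSP.symm, ⟨s.syl, s.tΓ, fun x => SS_symm (m := m) (μ := μ) (ν := ν) ▸ s.mem x, fun σ h =>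
  let ⟨θ, η, h⟩ := s.std σ h; ⟨η, θ, h.imp And.symm And.symm⟩⟩, s.nN, s.pN, s.νN, s.μN⟩
theorem t_not : t ∉ N0 μ ν := s.sq.t_not m.toBM
/-- `GSt.tf`, `sw`. -/
theorem ct (h : g ∈ N) (hc : g * t = t * g) : g ∈ N0 μ ν :=
  GSt.tf le_sup_left (fun _ hx _ hy => s.sq.mul_sw hx hy) s.t2 (mem_sup_right (mem_zpowers t)) s.sw hc
    (commutator_mono le_top le_top (s.pN.ge h))
theorem t_notN : t ∉ N := fun h => s.t_not (s.ct h rfl)
theorem tT : t ∈ T := s.sq.Γ_le s.toSY s.tΓ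
theorem Γ_T : Γ ≤ T := s.sq.Γ_le s.toSY
theorem T_HH : T ≤ HH μ ν t := s.two s.syl.pgroup s.tT
theorem SS_T : SS m μ ν ≤ T := s.sq.SS_le s.toSY
theorem SS_N : SS m μ ν ≤ N := (s.sq.SS_M m).trans (sup_le s.μN s.νN)
theorem SS_N0 : SS m μ ν ≤ N0 μ ν := (s.sq.SS_M m).trans s.sq.M_le
theorem cjN (h : g ∈ N) (c : G) : c * g * c⁻¹ ∈ N := s.nN.conj_mem _ h c
theorem HH_N0 : HH μ ν t ≤ 𝐍(N0 μ ν) := sup_le (le_norm _)
  (zp_norm.2 (Transfer.mem_normalizer_of_conj_le (Transfer.conj_le_iff.2 fun _ hx => s.it.symm ▸ s.sq.N0_t hx)))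
theorem ty (h : g ∈ T) (h0 : g ∈ N0 μ ν) : ∃ θ η, Ty m μ ν g θ η := s.sq.exists_ty s.toSY h h0
theorem T_U1 (h : g ∈ T) (h0 : g ∈ N0 μ ν) : g ∈ 𝐍((μ.comp m.j).range) := by
  obtain ⟨θ, η, a, b, h⟩ := s.ty h h0
  refine Transfer.mem_normalizer_of_conj_le (Transfer.conj_le_iff.2 ?_)
  rintro _ ⟨x, rfl⟩
  exact ⟨a * m.fU θ x * a⁻¹, by simp [h.1, m.fl_j]⟩
theorem T_U2 (h : g ∈ T) (h0 : g ∈ N0 μ ν) : g ∈ 𝐍((ν.comp m.j).range) := s.symm.T_U1 h (GSt.N0_symm.ge h0)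
theorem T_sw (h : g ∈ T) (h0 : g ∉ N0 μ ν) {y : G} (hy : y ∈ (μ.comp m.j).range) : g * y * g⁻¹ ∈ (ν.comp m.j).range := by
  obtain ⟨x, rfl⟩ := hy
  have := conj_mem_of_norm (s.T_U2 (mul_mem h s.tT) ((s.sq.mem_HH.1 (s.T_HH h)).resolve_left h0)) ⟨x, rfl⟩
  simpa [← s.tμ, mul_assoc, s.sq.tt, s.it] using this
theorem std0 (h : g ∈ Γ) (h0 : g ∈ N0 μ ν) : ∃ θ η, Ac μ ν g (m.fl θ) (m.fl η) :=
  let ⟨θ, η, e⟩ := s.std g h
  ⟨θ, η, e.resolve_right fun e => s.t_not ((mul_mem_cancel_left h0).1 ⟨_, _, e⟩)⟩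
theorem std1 (h : g ∈ Γ) (h0 : g ∉ N0 μ ν) : ∃ θ η, Ac μ ν (g * t) (m.fl θ) (m.fl η) :=
  let ⟨θ, η, e⟩ := s.std g h
  ⟨θ, η, e.resolve_left fun e => h0 ⟨_, _, e⟩⟩
theorem pΓ : IsPGroup 2 Γ := pgroup_of_le s.syl.pgroup s.Γ_T
/-- Elements of `Γ` are determined by their types (`cm_odd`). -/
theorem Γ_eq {g' : G} (h : g ∈ Γ) (h' : g' ∈ Γ) (a : Ac μ ν g (m.fl θ) (m.fl η)) (a' : Ac μ ν g' (m.fl θ) (m.fl η)) : g = g' :=
  let ⟨_, e⟩ := s.pΓ ⟨_, mul_mem (inv_mem h) h'⟩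
  inv_mul_eq_one.1 (s.sq.cm_odd m.toBM (by simpa using a.inv.mul a') (congrArg Subtype.val e))
/-- The decomposition of an element of `T ⊓ N0`. -/
theorem dec (h : g ∈ T) (e : Ty m μ ν g θ η) : ∃ u ∈ SS m μ ν, ∃ σ ∈ Γ, g = u * σ ∧ Ac μ ν σ (m.fl θ) (m.fl η) := by
  obtain ⟨u, hu, σ, hσ, rfl⟩ := (s.mem g).1 h
  obtain ⟨θ', η', a⟩ := s.std0 hσ ((mul_mem_cancel_left (s.SS_N0 hu)).1 e.N0)
  obtain ⟨e1, e2⟩ := s.sq.ty_uniq m e (SQ.ty_mul m ((s.sq.ty_one s.toSY (s.SS_T hu)).2 hu) (ty_fl a))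
  exact ⟨u, hu, σ, hσ, rfl, by rwa [e1, e2, one_mul, one_mul]⟩
theorem T0_z (h : g ∈ T) (h0 : g ∈ N0 μ ν) : g * μ (m.j m.z) * g⁻¹ = μ (m.j m.z) := by
  obtain ⟨θ, η, a, b, h⟩ := s.ty h h0
  rw [h.1, m.R_j, m.fz, cjf.2 (mem_center_iff.1 m.zZ a)]
theorem exists_ph (h : ¬ T ⊓ N ≤ SS m μ ν) : ∃ φ ι, Ph m μ ν Γ N φ ι := by
  obtain ⟨x, hx, c⟩ := SetLike.not_le_iff_exists.1 h
  obtain ⟨u, hu, σ, hσ, rfl⟩ := (s.mem x).1 hx.1
  have := s.nN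
  obtain ⟨φ, h1, h2⟩ := Inv.exists_involution_mem_of_even (even_iff_two_dvd.2 (pgroup_dvd_card
    (pgroup_of_le s.pΓ (inf_le_left.trans inf_le_left)) (nil_meet_center (pgroup_nil s.pΓ) (N := Γ ⊓ N) inf_le_left
      (norm_inf (le_norm Γ) le_normalizer_of_normal)
      (ne_bot_of_mem (x := σ) ⟨hσ, (mul_mem_cancel_left (s.SS_N hu)).1 hx.2⟩ fun e => c (by simpa [e] using hu)))))
  have h3 := (mem_cent.1 h1.2 t s.tΓ).symm
  obtain ⟨θ, η, e⟩ := s.std0 h1.1.1 (s.ct h1.1.2 h3)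
  have e' := s.sq.ac_t e
  rw [mul_assoc, h3, s.sq.tt] at e'
  obtain rfl := m.fl_inj (s.sq.uniq m.toBM e e').1
  have h4 := Inv.mul_self_of_orderOf h2
  refine ⟨φ, θ, h1.1.1, h1.1.2, fun σ h => (mem_cent.1 h1.2 σ h).symm, h4, e,
    m.fl_inj (by rw [map_mul, (s.sq.ac_sq m.toBM e h4).1, map_one]), ?_⟩
  rintro rfl
  exact Inv.ne_one_of_orderOf h2 (s.sq.cm_odd m.toBM (n := 1) (by simpa using e) (by rw [pow_one, _root_.sq, h4]))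
theorem pt (p : Ph m μ ν Γ N φ ι) : Pt m μ ν t φ ι :=
  ⟨p.sq, p.cen t s.tΓ, ⟨_, _, p.ac, m.Θ_fl _, m.Θ_fl _⟩, p.ι2, p.ι1⟩
/-- `Γ_eq`, `eq_of_inv`. -/
theorem eq_ph (p : Ph m μ ν Γ N φ ι) {w : G} (hw : w ∈ Γ) (a : Ac μ ν w (m.fl θ) (m.fl η)) (h1 : θ * θ = 1) (h2 : η * η = 1)
    (h3 : θ ≠ 1) (h4 : η ≠ 1) : w = φ := by
  obtain rfl := m.eq_of_inv h1 p.ι2 h3 p.ι1
  obtain rfl := m.eq_of_inv h2 p.ι2 h4 p.ι1
  exact s.Γ_eq hw p.mem a p.ac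
/-- An odd power of `w` is a `2`-element with the same properties; conjugate it by `N0` into `T ⊓ N0` (Sylow in `N0`): `w = u γ`,
`γ ∈ Γ` of type `(θ, θ)` commutes with `t` (`Γ_eq`), `γ t ∈ N` is a swap centralizing `t`, against `ct`. -/
theorem dl {w : G} (a : Ac μ ν w α β) (h : m.Θ α = m.Θ β) (hN : w * t ∈ N) : False := by
  have := s.nN
  obtain ⟨k, _, ⟨n, rfl⟩, e⟩ := Nat.exists_eq_two_pow_mul_odd (orderOf_pos w).ne'
  have h1 := s.cjN (GSt.pow_mul_mem (p := t) (le_normalizer_of_normal (mem_top t)) (s.cjN hN t) (2 * n + 1)) t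
  rw [pow_odd s.t2, ← mul_assoc t w, mul_inv_cancel_right, s.sq.tt, mul_inv_cancel_left, s.it] at h1
  have h2 : (w ^ (2 * n + 1)) ^ 2 ^ k = 1 := by rw [← pow_mul, mul_comm, ← e, pow_orderOf_eq_one]
  have a := a.pow (2 * n + 1)
  replace h : m.Θ (α ^ (2 * n + 1)) = m.Θ (β ^ (2 * n + 1)) := by rw [map_pow, map_pow, h]
  generalize w ^ (2 * n + 1) = w at h1 h2 a
  have y : Syl 2 (T ⊓ (N ⊔ zpowers t)) (N ⊔ zpowers t) := Syl.of_max inf_le_right (pgroup_of_le s.syl.pgroup inf_le_left)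
    fun Q hQ q1 q2 x hx => by
    have e := Syl.eq_of_le_pgroup (s.syl.inf le_top (le_normalizer_of_normal (H := N))) (Q := Q ⊓ N)
      (le_inf ((inf_le_inf_left _ le_sup_left).trans q1) inf_le_right) inf_le_right (pgroup_of_le hQ inf_le_left)
    exact ⟨((sup_t s.t2).1 (q2 hx)).elim (fun h => (e.ge ⟨hx, h⟩).1) fun h => (mul_mem_cancel_right s.tT).1
      (e.ge ⟨Q.mul_mem hx (q1 ⟨s.tT, mem_sup_right (mem_zpowers t)⟩), h⟩).1, q2 hx⟩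
  obtain ⟨c, ⟨⟨α', β', a'⟩, hc⟩, e⟩ := Syl.exists_conj_le (y.inf (N := N0 μ ν ⊓ (N ⊔ zpowers t)) inf_le_right
    (norm_inf (inf_le_left.trans (s.T_HH.trans s.HH_N0)) (inf_le_right.trans (le_norm _)))) (Inv.isPGroup_zpowers h2)
    (zpowers_le.2 ⟨⟨_, _, a⟩, (sup_t s.t2).2 (.inr h1)⟩)
  have hT := (Transfer.conj_le_iff.1 e w (mem_zpowers w)).1.1
  have a2 := (a'.mul a).mul a'.inv
  obtain ⟨θ, η, e'⟩ := s.ty hT ⟨_, _, a2⟩
  obtain ⟨e1, e2⟩ := s.sq.ty_Θ m e' a2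
  obtain rfl : θ = η := by rw [← e1, ← e2, m.Θ_cj, m.Θ_cj, h]
  obtain ⟨u, hu, σ, hσ, e3, a3⟩ := s.dec hT e'
  have c1 := s.Γ_eq (mul_mem (mul_mem s.tΓ hσ) s.tΓ) hσ (s.sq.ac_t a3) a3
  have h3 : c * w * c⁻¹ * t ∈ N := by
    rcases (sup_t s.t2).1 hc with hc | hc
    · convert mul_mem (mul_mem hc h1) (s.cjN (inv_mem hc) t⁻¹) using 1; group
    · convert mul_mem (s.cjN h1 c) (mul_mem hc (s.cjN (inv_mem hc) t)) using 1
      simp [mul_assoc, s.sq.tt, s.it]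
  rw [e3, mul_assoc, mul_mem_cancel_left (s.SS_N hu)] at h3
  exact s.t_not ((mul_mem_cancel_left (show σ ∈ N0 μ ν from ⟨_, _, a3⟩)).1 (s.ct h3 (by rw [mul_assoc, s.t2, mul_one, ← mul_assoc, c1])))
theorem four (h : P ≤ T ⊓ I4 m μ ν) : Nat.card P ≤ 4 * Nat.card ↥(P ⊓ SS m μ ν) :=
  s.sq.card_four s.toSY (h.trans (inf_le_inf_left _ fun _ ⟨_, _, a, _⟩ => ⟨_, _, a⟩)) fun _ hg _ _ e =>
    let ⟨_, _, a, b⟩ := (h hg).2; (s.sq.ty_Θ m e a).1 ▸ (s.sq.ty_Θ m e a).2 ▸ b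
theorem I4_of {b : U →* G} (h : ∀ x, b x ∈ N0 μ ν) (x : U) : b x ∈ I4 m μ ν := by
  obtain ⟨τ, hτ⟩ := s.sq.exists_τ m.toBM
  obtain ⟨α, β, a⟩ := h x
  have := (commutator_le (H₃ := (τ.comp (b.codRestrict _ h)).ker)).2 (fun x _ y _ => by
    rw [MonoidHom.mem_ker, map_commutatorElement, commutatorElement_eq_one_iff_mul_comm]
    exact Prod.ext (m.comm _ _) (m.comm _ _)) (m.sqc x)
  rw [MonoidHom.mem_ker, map_mul, show τ.comp (b.codRestrict _ h) x = _ from hτ a (h x)] at this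
  exact ⟨α, β, a, Prod.ext_iff.1 this⟩
theorem I4_sq (h : g ∈ N0 μ ν) (g2 : g * g = 1) : g ∈ I4 m μ ν :=
  let ⟨α, β, a⟩ := h
  ⟨α, β, a, by rw [← map_mul, (s.sq.ac_sq m.toBM a g2).1, map_one], by rw [← map_mul, (s.sq.ac_sq m.toBM a g2).2, map_one]⟩
/-- As `GSt.SN.beta`: `CU'` for `CU`, `NZ`, `Z2` for `card_V`/`big`; `card_four` applies since the types give a homomorphism from `U` to an
abelian group (`sqc`). -/
theorem beta (g : G) : g * ν (m.j m.z) * g⁻¹ ≠ ψ (m.j m.z) := fun e => by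
  have c2 : ∀ x ∈ T ⊓ N0 μ ν, x * ν (m.j m.z) * x⁻¹ = ν (m.j m.z) := fun x hx => s.symm.T0_z hx.1 (GSt.N0_symm.ge hx.2)
  have c0 : ∀ x ∈ T ⊓ N0 μ ν, x * ψ (m.j m.z) * x⁻¹ = ψ (m.j m.z) := fun x hx => by
    rw [s.diag, ← conj_mul, s.T0_z hx.1 hx.2, c2 x hx]
  have c : T ≤ 𝐂[ψ (m.j m.z)] := fun x hx => mem_cent1.2 (by
    rcases s.sq.mem_HH.1 (s.T_HH hx) with h | h
    · exact mul_inv_eq_iff_eq_mul.1 (c0 x ⟨hx, h⟩)
    · have := mul_inv_eq_iff_eq_mul.1 (c0 _ ⟨mul_mem hx s.tT, h⟩)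
      rwa [mul_assoc, s.tψ, ← mul_assoc, ← mul_assoc, mul_left_inj] at this)
  have p0 : IsPGroup 2 ↥(T ⊓ N0 μ ν) := pgroup_of_le s.syl.pgroup inf_le_left
  obtain ⟨d, hd, h⟩ := Syl.exists_conj_le (s.syl.of_le c le_top) ((pgroup_conj g).2 p0) (Transfer.conj_le_iff.2 fun x hx =>
    mem_cent1.2 (by rw [← e, conj_mul, conj_mul, ← mul_inv_eq_iff_eq_mul.1 (c2 x hx)]))
  rw [Transfer.conj_conj, Transfer.conj_le_iff_le_inv_conj] at h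
  replace e : d * g * ν (m.j m.z) * (d * g)⁻¹ = ψ (m.j m.z) := by
    rw [← mul_inv_eq_iff_eq_mul.2 (mem_cent1.1 hd), ← e]; group
  generalize d * g = g at h e
  have n : ∀ R : Subgroup G, Syl 2 R ⊤ → T ⊓ N0 μ ν ≤ R → Syl 2 R 𝐍(T ⊓ N0 μ ν) := fun R hR h => hR.of_le (by
    rcases h.eq_or_lt with e | e
    · exact e ▸ le_norm _
    · have h1 := GSt.two_mul_le (nil_norm_grow hR.nil e)
      have h2 := s.sq.half s.T_HH
      rw [s.syl.card_eq hR] at h2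
      exact (eq_of_le_of_card_le inf_le_left (h2.trans h1)).ge.trans inf_le_right) le_top
  obtain ⟨n, hn, h1⟩ := (n _ (s.syl.conj_top g⁻¹) h).exists_conj_eq (n T s.syl inf_le_left)
  let b : U →* G := (MulAut.conj n).toMonoidHom.comp (ν.comp m.j)
  have hb : ∀ x, b x = n * ν (m.j x) * n⁻¹ := fun _ => rfl
  have bi : Function.Injective b := (MulAut.conj n).injective.comp fun x y e =>
    congrArg Prod.snd (s.sq.i_inj m (a₁ := (1, x)) (a₂ := (1, y)) (congrArg (μ (m.j 1) * ·) e))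
  have l2 : (ν.comp m.j).range ≤ T ⊓ N0 μ ν := le_sup_right.trans (le_inf s.SS_T s.SS_N0)
  have l1 : (μ.comp m.j).range ≤ T ⊓ N0 μ ν := le_sup_left.trans (le_inf s.SS_T s.SS_N0)
  have bT : ∀ x, b x ∈ T ⊓ N0 μ ν := fun x => conj_mem_of_norm hn (l2 ⟨x, rfl⟩)
  have nb : ∀ x ∈ T ⊓ N0 μ ν, ∀ y, x * b y * x⁻¹ ∈ b.range := fun x hx y => by
    obtain ⟨w, hw⟩ := conj_mem_of_norm (s.T_U2 (conj_mem_of_norm' hn hx).1 (conj_mem_of_norm' hn hx).2) ⟨y, rfl⟩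
    exact ⟨w, by rw [hb, hb, ← MonoidHom.comp_apply, hw]; simp [mul_assoc]⟩
  have cw : ∀ x ∈ T, b m.z * x * (b m.z)⁻¹ = x := fun x hx => by
    rw [h1, Transfer.mem_conj, Transfer.mem_conj, inv_inv] at hx
    have := mem_cent1.1 (c hx)
    rw [← e] at this
    rw [mul_inv_eq_iff_eq_mul, hb, ← mul_right_inj (g * n⁻¹), ← mul_left_inj (n * g⁻¹)]
    simpa [mul_assoc] using this.symm
  obtain ⟨θ, η, c₁, c₂, a⟩ := s.ty (bT m.z).1 (bT m.z).2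
  have f := fun x => s.sq.fix_pr m a (x := (x, x)) (cjf.1 (cw _ (s.SS_T ((s.sq.i_range m).le ⟨_, rfl⟩))))
  obtain ⟨rfl, z₁⟩ := m.CU' fun x => (m.R_j _ _ _).trans (congrArg _ (f x).1)
  obtain ⟨rfl, z₂⟩ := m.CU' fun x => (m.R_j _ _ _).trans (congrArg _ (f x).2)
  have w := s.sq.eq_of_inner m.toBM (by simpa using a) (by rw [← map_mul, m.elZ _ m.zZ, map_one])
    (by rw [← map_mul, m.elZ _ z₁, map_one]) (by rw [← map_mul, m.elZ _ z₂, map_one])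
  have e1 := s.sq.t_apply (m.j c₁) (m.j c₂)
  rw [← w, mul_inv_eq_iff_eq_mul.2 (mul_inv_eq_iff_eq_mul.1 (cw t s.tT)).symm, w] at e1
  obtain rfl : c₁ = c₂ := congrArg Prod.fst (s.sq.i_inj m (a₁ := (_, _)) (a₂ := (_, _)) e1)
  have w1 : c₁ ≠ 1 := fun e => m.z1 (bi (by simp [w, e]))
  have z : ∀ X : Subgroup G, X ≤ T ⊓ N0 μ ν → (∀ x ∈ T ⊓ N0 μ ν, x ∈ 𝐍(X)) → b m.z ∉ X → ∀ x ∈ X, ∀ y,
      b y * x * (b y)⁻¹ * x⁻¹ ∈ X ⊓ (center U).map b := fun X h1 h2 h3 x hx y => by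
    have h4 := mul_mem (conj_mem_of_norm (h2 _ (bT y)) hx) (inv_mem hx)
    obtain ⟨w, hw⟩ := mul_mem (b.mem_range.2 ⟨y, rfl⟩) (nb x (h1 hx) y⁻¹)
    rw [map_inv, ← mul_assoc, ← mul_assoc] at hw
    exact ⟨h4, w, (m.NZ (X.comap b) ⟨fun x hx y => by simpa using conj_mem_of_norm (h2 _ (bT y)) hx⟩).resolve_right
      (fun c => h3 (c m.zZ)) (hw ▸ h4 :), hw⟩
  have z1 := z _ l1 (fun x hx => s.T_U1 hx.1 hx.2) fun ⟨x, e⟩ => w1 (congrArg Prod.snd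
    (s.sq.i_inj m (a₁ := (x, 1)) (a₂ := (c₁, c₁)) (by simpa [SQ.i_apply] using e.trans w))).symm
  have z2 := z _ l2 (fun x hx => s.T_U2 hx.1 hx.2) fun ⟨x, e⟩ => w1 (congrArg Prod.fst
    (s.sq.i_inj m (a₁ := (1, x)) (a₂ := (c₁, c₁)) (by simpa [SQ.i_apply] using e.trans w))).symm
  have v := m.Z2 (X := (SS m μ ν).comap b) fun x hx y => by
    obtain ⟨x₁, x₂, e⟩ := (s.sq.mem_SS m).1 hx
    obtain ⟨⟨r, hr⟩, h⟩ := z2 _ ⟨x₂, rfl⟩ y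
    have := mul_mem (mem_inf.1 (z1 _ ⟨x₁, rfl⟩ y)).2 h
    rw [← mem_map_iff_mem bi, map_commutatorElement, commutatorElement_def, e]
    convert this using 1
    have c := s.comm (m.j x₁)⁻¹ (m.j r)
    simp only [MonoidHom.comp_apply] at hr ⊢
    rw [hr, map_inv] at c
    rw [mul_assoc _ (μ _)⁻¹, c]
    group
  have h2 := s.four (P := b.range) (by rintro _ ⟨x, rfl⟩; exact ⟨(bT x).1, s.I4_of (fun x => (bT x).2) x⟩)
  rw [← Nat.card_congr (MonoidHom.ofInjective bi).toEquiv, ← map_comap_eq, card_map_of_injective bi] at h2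
  exact absurd h2 (not_le.2 v)
/-- Suppose `c = g μ z g⁻¹ = ψ x`.  A Sylow subgroup `R ∋ t` of `C(c)` lies in `HH` (`two`), `|R| ≥ |T ⊓ N0| ≥ |T| / 2` (`T0_z`).  Conjugate `R`
into `T` by `h ∈ HH`: `h c h⁻¹ = μ (j a) ν (j a')` with `a, a' ≠ 1` (`lift2`: `x² = 1`; `syl_SS`), its centralizer has index `≤ 2` in `T`, so
`C_U(a)`, `C_U(a')` have index `≤ 2 < |Z|`: `a, a' ∈ Z` (`CLS`), and `h c h⁻¹` is conjugate to `ψ z` under `M` (`Zc`).  `beta`, `tμ`. -/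
theorem ord (h4 : 4 ∣ Nat.card A) (g : G) (x : J) : g * μ (m.j m.z) * g⁻¹ ≠ ψ x := fun e => by
  have z2 : μ (m.j m.z) * μ (m.j m.z) = 1 := by rw [← map_mul, ← map_mul, m.elZ _ m.zZ, map_one, map_one]
  obtain ⟨x, x2, e⟩ := s.lift2 m.toBM (n := 1) ⟨x, e.symm⟩ ((_root_.sq _).trans (cj2 z2 g))
  have x1 : x ≠ 1 := by
    rintro rfl
    exact m.jz (s.kerμ _ (conj_eq_one_iff.1 (e.symm.trans (map_one _))))
  obtain ⟨R, hR, h1⟩ := Syl.exists_ge (Inv.isPGroup_zpowers_of_mul_self s.t2) (zpowers_le.2 (mc.2 (s.tψ x)))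
  have n1 := hR.card_le ((pgroup_conj g).2 (pgroup_of_le s.syl.pgroup (inf_le_left (b := N0 μ ν))))
    (Transfer.conj_le_iff.2 fun y hy => mc.2 (e ▸ cjc (cjf.1 (s.T0_z hy.1 hy.2)) g))
  obtain ⟨h, hh, h2⟩ := Syl.exists_conj_le (s.syl.of_le s.T_HH le_top) hR.pgroup (s.two hR.pgroup (h1 (mem_zpowers t)))
  have h3 := Transfer.conj_le_iff.1 h2 _ (hR.ge_of_norm_p (zpowers_le.2 (self_mem_cent1 _))
    (Inv.isPGroup_zpowers (k := 1) (by rw [← map_pow, x2, map_one])) (norm_of_cent (cent_zpowers (ψ x) ▸ hR.le)) (mem_zpowers _))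
  have n2 : (𝐂[h * ψ x * h⁻¹]).relIndex T ≤ 2 := by
    have n3 := card_le_of_le (le_inf h2 (conj_cent1 h (ψ x) ▸ Transfer.conj_mono h hR.le))
    have n4 := s.sq.half s.T_HH
    rw [Transfer.card_conj] at n1 n3
    rw [← inf_relIndex_left]
    refine Nat.le_of_mul_le_mul_left ?_ (Nat.card_pos (α := ↥(T ⊓ 𝐂[h * ψ x * h⁻¹])))
    rw [Transfer.card_mul_relIndex inf_le_left]
    omega
  obtain ⟨α, β, a⟩ : ∃ α β : MulAut J, h * ψ x * h⁻¹ = μ (α x) * ν (β x) := by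
    rcases s.sq.mem_HH.1 hh with ⟨α, β, a⟩ | ⟨α, β, a⟩
    · exact ⟨α, β, by rw [s.diag, SQ.ac_apply a]⟩
    · exact ⟨α, β, by rw [← SQ.ac_apply a, ← s.diag, mul_assoc h t, s.tψ]; group⟩
  obtain ⟨u, v, e'⟩ := (s.sq.mem_SS m).1 (((s.sq.syl_SS m).eq_of_le_pgroup (le_inf s.SS_T (s.sq.SS_M m)) inf_le_right
    (pgroup_of_le s.syl.pgroup inf_le_left)).ge ⟨h3, s.sq.mem_M.2 ⟨_, _, a⟩⟩)
  have e1 := m.two_eq (n := 1) (by rw [← map_pow, x2, map_one]) (m.j_two u).choose_spec (s.sq.eq_iff m.toBM (a.symm.trans e')).1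
  have e2 := m.two_eq (n := 1) (by rw [← map_pow, x2, map_one]) (m.j_two v).choose_spec (s.sq.eq_iff m.toBM (a.symm.trans e')).2
  have k : ∀ {μ ν : J →* G}, SN m ψ t μ ν T Γ N → ∀ {u v}, h * ψ x * h⁻¹ = μ (m.j u) * ν (m.j v) → u ∈ center U :=
    fun {μ ν} s u v e => by_contra fun c => ((m.CLS u c).trans ((Nat.le_of_dvd (Nat.pos_of_ne_zero FiniteIndex.index_ne_zero)
      (index_dvd_of_le (H := (𝐂[h * ψ x * h⁻¹]).comap (μ.comp m.j)) fun y hy => mc.2 (congrArg Prod.fst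
        (s.sq.i_inj m (a₁ := (y, 1) * (u, v)) (a₂ := (u, v) * (y, 1)) (by
          rw [map_mul, map_mul]; simpa [SQ.i_apply, e] using mc.1 hy))))).trans ((index_comap _ _).trans_le ((relIndex_le_of_le_right
      (le_sup_left.trans s.SS_T) FiniteIndex.index_ne_zero).trans n2)))).not_gt (m.two_lt_Z h4)
  obtain ⟨y, hy⟩ := isConj_iff.1 (m.Zc u (k s e') (by rintro rfl; exact x1 (by simpa using e1)))
  obtain ⟨y', hy'⟩ := isConj_iff.1 (m.Zc v (k s.symm (e'.trans (s.comm _ _))) (by rintro rfl; exact x1 (by simpa using e2)))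
  refine s.beta (μ y * ν y' * h * g * t) ?_
  have := SQ.ac_apply (s.sq.ac_μν y y') (m.j u) (m.j v)
  rw [MulAut.conj_apply, MulAut.conj_apply, hy, hy', ← s.diag, ← e', e, ← s.sq.tν (m.j m.z)] at this
  rw [← this]; simp [mul_assoc, s.it]
end SN

end Cfsg.Lib.USt
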