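import Cfsg.Agent.Lib.USt.MA_a
import Cfsg.Agent.Lib.Symp.Basis

/-!
# S3137/S3128: symmetric bilinear forms in characteristic `2`.  See `docs/UST.md`.
The isotropic vectors form a subspace (`v ↦ b v v` is the square of a linear functional).
-/

set_option autoImplicit false
set_option linter.unusedSectionVars false

namespace Cfsg.Lib.USt

open Module Subgroup

variable {K X X' : Type*} [Field K] [CharP K 2] [Finite K] [AddCommGroup X] [Module K X] [Finite X] [AddCommGroup X'] [Module K X']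
  [Finite X'] {b : X →ₗ[K] X →ₗ[K] K} {b' : X' →ₗ[K] X' →ₗ[K] K}

/-- Nondegenerate symmetric. -/
structure Sym (b : X →ₗ[K] X →ₗ[K] K) : Prop where
  symm : ∀ u v, b u v = b v u
  nd : ∀ u, (∀ v, b u v = 0) → u = 0

theorem Sym.nondeg (h : Sym b) : LinearMap.BilinForm.Nondegenerate b := ⟨h.nd, fun u k => h.nd u fun v => (h.symm u v).trans (k v)⟩

theorem Sym.qadd (h : Sym b) (u v : X) : b (u + v) (u + v) = b u u + b v v := by
  simp only [map_add, LinearMap.add_apply, h.symm v u]; linear_combination aa (b u v)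

theorem Sym.ex_t (h : Sym b) : ∃ t, ∀ v, b v v = b t v * b t v := by
  choose l hl using fun v => sqrt_ex (b v v)
  let L : X →ₗ[K] K :=
    { toFun := l
      map_add' := fun u v => sq_inj (by rw [hl, h.qadd, ← hl, ← hl]; linear_combination - aa (l u * l v))
      map_smul' := fun a v => sq_inj (by
        simp only [hl, map_smul, LinearMap.smul_apply, smul_eq_mul, RingHom.id_apply]; rw [← hl v]; ring) }
  exact ⟨(LinearMap.BilinForm.toDual b h.nondeg).symm L, fun v => by rw [LinearMap.BilinForm.apply_toDual_symm_apply]; exact (hl v).symm⟩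

theorem ex_ker {ι : Type*} [Fintype ι] (f : ι → X →ₗ[K] K) (W : Submodule K X) (hd : finrank K W + Fintype.card ι < finrank K X) :
    ∃ v ∉ W, ∀ i, f i v = 0 := by
  have h1 := (LinearMap.pi f).finrank_range_add_finrank_ker
  have h2 := (Submodule.finrank_le (LinearMap.range (LinearMap.pi f))).trans_eq (finrank_fintype_fun_eq_card K)
  obtain ⟨v, hv, n⟩ := SetLike.not_le_iff_exists.1 fun k : LinearMap.ker (LinearMap.pi f) ≤ W => by
    have := Submodule.finrank_mono k; omega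
  exact ⟨v, n, fun i => congrFun hv i⟩

theorem Sym.ex_orth (h : Sym b) {n : ℕ} (s : Fin n → X) (W : Submodule K X) (hd : finrank K W + n + 1 < finrank K X) :
    ∃ v ∉ W, b v v = 0 ∧ ∀ i, b (s i) v = 0 := by
  obtain ⟨t, ht⟩ := h.ex_t
  obtain ⟨v, n, k⟩ := ex_ker (fun i => b ((Fin.cons t s : Fin (n + 1) → X) i)) W (by simpa [add_assoc] using hd)
  exact ⟨v, n, by rw [ht, show b t v = 0 from k 0, mul_zero], fun i => k i.succ⟩

theorem Sym.partner (h : Sym b) {W : Submodule K X} {v : X} (hv : v ∉ W) : ∃ w, b v w = 1 ∧ ∀ u ∈ W, b u w = 0 := by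
  rw [← LinearMap.BilinForm.orthogonal_orthogonal h.nondeg (fun u v k => (h.symm v u).trans k) W] at hv
  obtain ⟨w, hw, n⟩ : ∃ w ∈ LinearMap.BilinForm.orthogonal b W, b w v ≠ 0 := by
    by_contra! k; exact hv k
  exact ⟨(b w v)⁻¹ • w, by simp [h.symm v w, n], fun u hu => by simp [show b u w = 0 from hw u hu]⟩

/-- A hyperbolic pair of isotropic vectors orthogonal to `s`. -/
theorem Sym.hyp (h : Sym b) {n : ℕ} (s : Fin n → X) (hd : 2 * n + 2 < finrank K X) : ∃ f f', b f f = 0 ∧ b f' f' = 0 ∧ b f f' = 1 ∧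
    (∀ i, b (s i) f = 0) ∧ ∀ i, b (s i) f' = 0 := by
  obtain ⟨t, ht⟩ := h.ex_t
  have := finrank_range_le_card (R := K) (Fin.cons t s : Fin (n + 1) → X)
  obtain ⟨f, n, k1, k2⟩ := h.ex_orth s (Submodule.span K (Set.range (Fin.cons t s : Fin (n + 1) → X))) (by
    simp only [Set.finrank, Fintype.card_fin] at this; omega)
  obtain ⟨f', k3, k4⟩ := h.partner n
  exact ⟨f, f', k1, by rw [ht, k4 t (Submodule.subset_span ⟨0, rfl⟩), mul_zero], k3, k2,
    fun i => k4 _ (Submodule.subset_span ⟨i.succ, rfl⟩)⟩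

/-- A maximal totally isotropic `I` has `dim I^⊥ / I ≤ 1`: two vectors of `I^⊥` independent modulo `I` have an isotropic
combination outside `I`. -/
theorem Sym.ti (h : Sym b) : ∃ v : Fin (finrank K X / 2) → X, LinearIndependent K v ∧ ∀ i j, b (v i) (v j) = 0 := by
  suffices ∀ k, 2 * k ≤ finrank K X → ∃ v : Fin k → X, LinearIndependent K v ∧ ∀ i j, b (v i) (v j) = 0 from this _ (by omega)
  intro k hk
  induction k with
  | zero => exact ⟨Fin.elim0, linearIndependent_empty_type, fun i => i.elim0⟩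
  | succ k ih =>
    obtain ⟨x, h1, h2⟩ := ih (by omega)
    obtain ⟨v, n, k1, k2⟩ := h.ex_orth x (Submodule.span K (Set.range x)) (by rw [finrank_span_eq_card h1, Fintype.card_fin]; omega)
    refine ⟨Fin.cons v x, linearIndependent_finCons.2 ⟨h1, n⟩, fun i j => ?_⟩
    cases i using Fin.cases <;> cases j using Fin.cases <;> simp [k1, k2, h2, h.symm v]

/-- `H` = the isotropic vectors, `dim H ≥ m - 1`, the radical of `H` has dimension `≤ 1`.  `m = 4`, `H ≠ X`: `e` spans the radical. -/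
theorem Sym.fr (h : Sym b) (h4 : 4 ≤ finrank K X) (_h5 : finrank K X ≠ 5) : ∃ e f f' : X, e ≠ 0 ∧ b e e = 0 ∧ b f f = 0 ∧ b f' f' = 0 ∧
    b f f' = 1 ∧ b e f = 0 ∧ b e f' = 0 := by
  obtain ⟨f, f', a1, a2, a3, -⟩ := h.hyp Fin.elim0 (by omega)
  obtain ⟨e, n, k1, k2⟩ := h.ex_orth ![f, f'] ⊥ (by rw [finrank_bot]; omega)
  exact ⟨e, f, f', by simpa using n, k1, a1, a2, a3, (h.symm ..).trans (k2 0), (h.symm ..).trans (k2 1)⟩

/-- Three hyperbolic pairs in `H`. -/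
theorem Sym.fr2 (h : Sym b) (h7 : 7 ≤ finrank K X) : ∃ e f f' g g' : X, e ≠ 0 ∧ b e e = 0 ∧ b f f = 0 ∧ b f' f' = 0 ∧ b g g = 0 ∧
    b g' g' = 0 ∧ b f f' = 1 ∧ b g g' = 1 ∧ b e f = 0 ∧ b e f' = 0 ∧ b e g = 0 ∧ b e g' = 0 ∧ b f g = 0 ∧ b f g' = 0 ∧ b f' g = 0 ∧
    b f' g' = 0 := by
  obtain ⟨f, f', a1, a2, a3, -⟩ := h.hyp Fin.elim0 (by omega)
  obtain ⟨g, g', b1, b2, b3, b4, b5⟩ := h.hyp ![f, f'] (by omega)
  obtain ⟨e, n, k1, k2⟩ := h.ex_orth ![f, f', g, g'] ⊥ (by rw [finrank_bot]; omega)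
  exact ⟨e, f, f', g, g', by simpa using n, k1, a1, a2, b1, b2, a3, b3, (h.symm ..).trans (k2 0), (h.symm ..).trans (k2 1),
    (h.symm ..).trans (k2 2), (h.symm ..).trans (k2 3), b4 0, b5 0, b4 1, b5 1⟩

theorem Sym.on_cons (h : Sym b) {k : ℕ} {x : Fin k → X} (hx : ∀ i j, b (x i) (x j) = if i = j then 1 else 0) {y : X} (h1 : b y y = 1)
    (h2 : ∀ i, b (x i) y = 0) (i j : Fin (k + 1)) :
    b ((Fin.cons y x : Fin (k + 1) → X) i) ((Fin.cons y x : Fin (k + 1) → X) j) = if i = j then 1 else 0 := by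
  cases i using Fin.cases <;> cases j using Fin.cases <;> simp [h1, h2, hx, h.symm y, Fin.succ_ne_zero, (Fin.succ_ne_zero _).symm]

theorem Sym.on_fam (h : Sym b) (ha : ¬ ∀ v, b v v = 0) (k : ℕ) (hk : k ≤ finrank K X) : ∃ x : Fin k → X,
    (∀ i j, b (x i) (x j) = if i = j then 1 else 0) ∧ (k < finrank K X → ∃ y, b y y ≠ 0 ∧ ∀ i, b (x i) y = 0) := by
  induction k with
  | zero => exact ⟨Fin.elim0, fun i => i.elim0, fun _ => let ⟨y, hy⟩ := not_forall.1 ha; ⟨y, hy, fun i => i.elim0⟩⟩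
  | succ k ih =>
    obtain ⟨x, hx, k1⟩ := ih (by omega)
    obtain ⟨y, h1, h2⟩ : ∃ y, b y y = 1 ∧ ∀ i, b (x i) y = 0 := by
      obtain ⟨y, h1, h2⟩ := k1 (by omega)
      obtain ⟨a, ha⟩ := sqrt_ex (b y y)⁻¹
      exact ⟨a • y, by simp [← mul_assoc, ha, h1], fun i => by simp [h2]⟩
    have o := h.on_cons hx h1 h2
    by_cases c : k + 1 < finrank K X → ∃ z, b z z ≠ 0 ∧ ∀ i, b ((Fin.cons y x : Fin (k + 1) → X) i) z = 0
    · exact ⟨_, o, c⟩
    push Not at c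
    obtain ⟨u, n, hu⟩ := ex_ker (fun i => b ((Fin.cons y x : Fin (k + 1) → X) i)) ⊥ (by simpa using c.1)
    have z : ∀ z, (∀ i, b ((Fin.cons y x : Fin (k + 1) → X) i) z = 0) → b z z = 0 := fun z hz => by_contra fun m =>
      let ⟨i, hi⟩ := c.2 z m; hi (hz i)
    obtain ⟨w, w1, w2⟩ := h.partner (W := Submodule.span K (Set.range (Fin.cons y x : Fin (k + 1) → X))) (v := u) fun m => by
      obtain ⟨c, rfl⟩ := (Submodule.mem_span_range_iff_exists_fun K).1 m
      simp only [map_sum, map_smul, o, smul_eq_mul, mul_ite, mul_one, mul_zero, Finset.sum_ite_eq, Finset.mem_univ, if_true] at hu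
      simp [hu] at n
    have w3 := fun i => w2 _ (Submodule.subset_span ⟨i, rfl⟩)
    have a1 : b y u = 0 := hu 0
    have a2 : b y w = 0 := w3 0
    refine ⟨_, h.on_cons hx (y := y + u) (by rw [h.qadd, h1, z u hu, add_zero]) fun i => by simp [h2, show b (x i) u = 0 from hu i.succ],
      fun _ => ⟨y + w, by simp [h.qadd, h1, z w w3, -map_add], fun i => ?_⟩⟩
    cases i using Fin.cases with
    | zero => simp [h1, a2, h.symm u y, a1, w1, aa]
    | succ i => simp [h2, show b (x i) w = 0 from w3 i.succ]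

theorem Sym.on_basis (h : Sym b) (ha : ¬ ∀ v, b v v = 0) {n : ℕ} (hn : finrank K X = n) :
    ∃ x : Basis (Fin n) K X, ∀ i j, b (x i) (x j) = if i = j then 1 else 0 := by
  obtain ⟨x, hx, -⟩ := h.on_fam ha n hn.ge
  have li : LinearIndependent K x := .of_pairwise_dual_eq_zero_one _ (fun i => b (x i)) (fun i j k => by simp [hx, k]) (by simp [hx])
  exact ⟨basisOfLinearIndependentOfCardEqFinrank' x li (by simp [hn]), by simpa using hx⟩

/-- Alternating: symplectic bases (`Lib/Symp/Basis`).  Not alternating: orthonormal bases by induction; if `b v v = 1` and `v^⊥ ≠ 0`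
is alternating, replace `v` by `v + u` (`u ≠ 0` in `v^⊥`, partner `u'`): `(v + u)^⊥ ∋ v + u'`, which has norm `1`. -/
theorem Sym.equiv (h : Sym b) (h' : Sym b') (hd : finrank K X = finrank K X') (ha : (∀ v, b v v = 0) ↔ ∀ v, b' v v = 0) :
    ∃ f : X ≃ₗ[K] X', ∀ u v, b' (f u) (f v) = b u v := by
  by_cases c : ∀ v, b v v = 0
  · exact Symp.exists_isometry_of_finrank_eq c h.nondeg (ha.1 c) h'.nondeg hd
  · obtain ⟨x, hx⟩ := h.on_basis c rfl
    obtain ⟨y, hy⟩ := h'.on_basis (mt ha.2 c) hd.symm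
    exact ⟨_, Symp.basis_equiv_isometry x y fun i j => by rw [hx, hy]⟩

theorem fr1 {A : Submodule K X} {f : X →ₗ[K] K} {a : X} (ha : a ∈ A) (h : f a ≠ 0) :
    finrank K ↥(A ⊓ LinearMap.ker f) + 1 = finrank K A := by
  rw [← Module.Dual.finrank_ker_add_one_of_ne_zero (f := f.domRestrict A) (fun z => h (LinearMap.congr_fun z ⟨a, ha⟩)),
    LinearMap.ker_domRestrict, ← Submodule.finrank_map_subtype_eq A, Submodule.map_comap_subtype]

/-- `b` is nondegenerate on `Y`. -/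
def SyNd (b : X →ₗ[K] X →ₗ[K] K) (Y : Submodule K X) : Prop := ∀ y ∈ Y, (∀ z ∈ Y, b y z = 0) → y = 0

/-- An elementary abelian group of isometries, trivial on `X / Y`. -/
structure SyGd (b : X →ₗ[K] X →ₗ[K] K) (Y : Submodule K X) (E : Subgroup (X ≃ₗ[K] X)) : Prop where
  sq : ∀ x ∈ E, x * x = 1
  iso : ∀ x ∈ E, ∀ u v, b (x u) (x v) = b u v
  rg : ∀ x ∈ E, ∀ v, x v - v ∈ Y

/-- The complement of a hyperbolic pair. -/
abbrev syP (b : X →ₗ[K] X →ₗ[K] K) (Y : Submodule K X) (e e' : X) : Submodule K X := Y ⊓ LinearMap.ker (b e) ⊓ LinearMap.ker (b e')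

section rk
variable {Y A : Submodule K X} {E : Subgroup (X ≃ₗ[K] X)} {e e' : X}

theorem Sym.sp2 (h : Sym b) (he : e ∈ Y) (he' : e' ∈ Y) (h0 : b e e = 0) (h1 : b e e' = 1) :
    finrank K (syP b Y e e') + 2 = finrank K Y := by
  rw [← fr1 (f := b e) he' (by simp [h1]), ← fr1 (A := Y ⊓ LinearMap.ker (b e)) (f := b e') ⟨he, h0⟩ (by simp [h.symm e', h1])]

theorem Sym.sp_nd (h : Sym b) (hY : SyNd b Y) (he : e ∈ Y) (he' : e' ∈ Y) (h0 : b e e = 0) (h1 : b e e' = 1) :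
    SyNd b (syP b Y e e') := fun y ⟨⟨a1, a2⟩, a3⟩ k => hY y a1 fun z hz => by
  have := k (z - b e z • e' - (b e' z - b e z * b e' e') • e) ⟨⟨sub_mem (sub_mem hz (Y.smul_mem _ he')) (Y.smul_mem _ he),
    by simp [h0, h1]⟩, by simp [h.symm e' e, h1]⟩
  simpa [h.symm y e, h.symm y e', show b e y = 0 from a2, show b e' y = 0 from a3] using this

theorem SyGd.orth (g : SyGd b Y E) {x : X ≃ₗ[K] X} (hx : x ∈ E) (k : x e = e) (v : X) : b e (x v - v) = 0 := by
  rw [map_sub, ← g.iso x hx e v, k, sub_self]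

theorem SyGd.sp (g : SyGd b Y E) (k : ∀ x ∈ E, x e = e) (k' : ∀ x ∈ E, x e' = e') : SyGd b (syP b Y e e') E :=
  ⟨g.sq, g.iso, fun x hx v => ⟨⟨g.rg x hx v, g.orth hx (k x hx) v⟩, g.orth hx (k' x hx) v⟩⟩

theorem SyGd.xx (g : SyGd b Y E) {x : X ≃ₗ[K] X} (hx : x ∈ E) (v : X) : x (x v) = v := DFunLike.congr_fun (g.sq x hx) v

theorem SyGd.cm (g : SyGd b Y E) {x y : X ≃ₗ[K] X} (hx : x ∈ E) (hy : y ∈ E) (v : X) : x (y v) = y (x v) := by
  have := g.xx (mul_mem hx hy) (y (x v))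
  simpa only [LinearEquiv.mul_apply, g.xx hx, g.xx hy] using this

theorem Sym.q0 (h : Sym b) (g : SyGd b Y E) {x : X ≃ₗ[K] X} (hx : x ∈ E) (v : X) : b (x v - v) (x v - v) = 0 := by
  rw [vsub K, h.qadd, g.iso x hx, aa]

theorem SyNd.ex (hY : SyNd b Y) (he : e ∈ Y) (h0 : e ≠ 0) : ∃ e' ∈ Y, b e e' = 1 := by
  obtain ⟨z, hz, n⟩ : ∃ z ∈ Y, b e z ≠ 0 := by by_contra! k; exact h0 (hY e he k)
  exact ⟨(b e z)⁻¹ • z, Y.smul_mem _ hz, by simp [n]⟩

theorem Sym.ti_le (h : Sym b) (k : ℕ) (hY : SyNd b Y) (hk : finrank K Y ≤ 2 * k + 1) (hA : A ≤ Y) (h0 : ∀ u ∈ A, ∀ v ∈ A, b u v = 0) :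
    finrank K A ≤ k := by
  induction k generalizing Y A with
  | zero =>
    by_contra! n
    obtain ⟨e, he, e0⟩ := Submodule.exists_mem_ne_zero_of_ne_bot (p := A) (by rintro rfl; simp at n)
    obtain ⟨e', he', h1⟩ := hY.ex (hA he) e0
    have := h.sp2 (hA he) he' (h0 e he e he) h1
    omega
  | succ k ih =>
    by_contra! n
    obtain ⟨e, he, e0⟩ := Submodule.exists_mem_ne_zero_of_ne_bot (p := A) (by rintro rfl; simp at n)
    obtain ⟨e', he', h1⟩ := hY.ex (hA he) e0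
    have := h.sp2 (hA he) he' (h0 e he e he) h1
    have := fr1 (f := b e') he (by simp [h.symm e', h1])
    have := ih (A := A ⊓ LinearMap.ker (b e')) (h.sp_nd hY (hA he) he' (h0 e he e he) h1) (by omega)
      (fun a ha => ⟨⟨hA ha.1, h0 e he a ha.1⟩, ha.2⟩) fun u hu v hv => h0 u hu.1 v hv.1
    omega

theorem Sym.fix_ex (h : Sym b) (g : SyGd b Y E) (n : E ≠ ⊥) : ∃ e ∈ Y, e ≠ 0 ∧ b e e = 0 ∧ ∀ x ∈ E, x e = e := by
  have : Finite (X ≃ₗ[K] X) := DFunLike.finite _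
  suffices ∀ s : Set (X ≃ₗ[K] X), s ⊆ E → ∃ e ∈ Y, e ≠ 0 ∧ b e e = 0 ∧ ∀ x ∈ s, x e = e from this E le_rfl
  intro s hs
  induction s, s.toFinite using Set.Finite.induction_on with
  | empty =>
    obtain ⟨x, hx, n⟩ := (E.bot_or_exists_ne_one).resolve_left n
    obtain ⟨v, hv⟩ : ∃ v, x v ≠ v := by by_contra! k; exact n (LinearEquiv.ext k)
    exact ⟨_, g.rg x hx v, sub_ne_zero.2 hv, h.q0 g hx v, by simp⟩
  | @insert y s _ _ ih =>
    obtain ⟨hy, hs⟩ := Set.insert_subset_iff.1 hs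
    obtain ⟨e, a1, a2, a3, a4⟩ := ih hs
    by_cases c : y e = e
    · exact ⟨e, a1, a2, a3, by simpa [c] using a4⟩
    refine ⟨_, g.rg y hy e, sub_ne_zero.2 c, h.q0 g hy e, Set.forall_mem_insert.2 ⟨?_, fun x hx => ?_⟩⟩
    · rw [map_sub, g.xx hy, vsub K, vsub K, add_comm]
    · rw [map_sub, g.cm (hs hx) hy, a4 x hx]

theorem card_le_orb (E : Subgroup (X ≃ₗ[K] X)) (v : X) (k : ∀ x ∈ E, x v - v ∈ A) :
    Nat.card E ≤ Nat.card K ^ finrank K A * Nat.card ((MulAction.stabilizer E v).map E.subtype) := by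
  rw [card_map_of_injective E.subtype_injective, ← (MulAction.stabilizer E v).index_mul_card, MulAction.index_stabilizer,
    ← Module.natCard_eq_pow_finrank]
  refine Nat.mul_le_mul_right _ (Set.ncard_le_ncard_of_injOn (t := A) (· - v) ?_ (fun _ _ _ _ => sub_left_inj.1) (Set.toFinite _))
  rintro _ ⟨x, rfl⟩
  exact k x x.2

theorem Sym.rkMP (h : Sym b) (k : ℕ) : ∀ Y E, SyNd b Y → SyGd b Y E → finrank K Y ≤ 2 * k + 1 →
    Nat.card E ≤ Nat.card K ^ (k * (k + 1) / 2) ∧ ∀ A ≤ Y, (∀ a ∈ A, b a a = 0) → (∀ x ∈ E, ∀ a ∈ A, x a = a) →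
      Nat.card K ^ finrank K A * Nat.card E ≤ Nat.card K ^ (k * (k + 1) / 2 + k) := by
  induction k using Nat.strong_induction_on with | _ k ih => ?_
  intro Y E hY g hk
  have q : 0 < Nat.card K := Nat.card_pos
  have T : ∀ j, (j + 1) * (j + 1 + 1) / 2 = j * (j + 1) / 2 + j + 1 := fun j => by
    have : (j + 1) * (j + 1 + 1) = j * (j + 1) + 2 * (j + 1) := by ring
    omega
  have M : Nat.card E ≤ Nat.card K ^ (k * (k + 1) / 2) := by
    rcases eq_or_ne E ⊥ with rfl | n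
    · simpa using Nat.one_le_pow _ _ q
    obtain ⟨e, he, e0, h0, fx⟩ := h.fix_ex g n
    obtain ⟨e', he', h1⟩ := hY.ex he e0
    have d := h.sp2 he he' h0 h1
    obtain ⟨j, rfl⟩ : ∃ j, k = j + 1 := ⟨k - 1, by omega⟩
    set E₀ := (MulAction.stabilizer E e').map E.subtype
    have l : E₀ ≤ E := map_subtype_le _
    have fx' : ∀ x ∈ E₀, x e' = e' := by rintro _ ⟨x, hx, rfl⟩; exact hx
    let A : Submodule K X :=
      { carrier := {a | a ∈ Y ∧ b a a = 0 ∧ b e a = 0 ∧ ∀ x ∈ E₀, x a = a}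
        add_mem' := fun ⟨a1, a2, a3, a4⟩ ⟨b1, b2, b3, b4⟩ => ⟨add_mem a1 b1, by rw [h.qadd, a2, b2, add_zero], by simp [a3, b3],
          fun x hx => by rw [map_add, a4 x hx, b4 x hx]⟩
        zero_mem' := by simp
        smul_mem' := fun c a ⟨a1, a2, a3, a4⟩ => ⟨Y.smul_mem c a1, by simp [a2], by simp [a3], fun x hx => by rw [map_smul, a4 x hx]⟩ }
    have c1 := card_le_orb (A := A) E e' fun x hx => ⟨g.rg x hx e', h.q0 g hx e', g.orth hx (fx x hx) e', fun y hy => by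
      rw [map_sub, g.cm (l hy) hx, fx' y hy]⟩
    have c2 := fr1 (A := A) (f := b e') (a := e) ⟨he, h0, h0, fun x hx => fx x (l hx)⟩ (by simp [h.symm e', h1])
    have g₀ : SyGd b Y E₀ := ⟨fun x hx => g.sq x (l hx), fun x hx => g.iso x (l hx), fun x hx => g.rg x (l hx)⟩
    have c3 := (ih j (by omega) _ _ (h.sp_nd hY he he' h0 h1) (g₀.sp (fun x hx => fx x (l hx)) fx') (by omega)).2
      (A ⊓ LinearMap.ker (b e')) (fun a ha => ⟨⟨ha.1.1, ha.1.2.2.1⟩, ha.2⟩) (fun a ha => ha.1.2.1) fun x hx a ha => ha.1.2.2.2 x hx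
    rw [← c2, pow_succ', mul_assoc] at c1
    rw [T, pow_succ']
    exact c1.trans (Nat.mul_le_mul_left _ c3)
  refine ⟨M, fun A hA h0 fx => ?_⟩
  by_cases c : ∀ u ∈ A, ∀ v ∈ A, b u v = 0
  · rw [add_comm, pow_add]
    exact Nat.mul_le_mul (Nat.pow_le_pow_right q (h.ti_le k hY hk hA c)) M
  push Not at c
  obtain ⟨e, he, z, hz, n⟩ := c
  obtain ⟨e', he', h1⟩ : ∃ e' ∈ A, b e e' = 1 := ⟨(b e z)⁻¹ • z, A.smul_mem _ hz, by simp [n]⟩
  have d := h.sp2 (hA he) (hA he') (h0 e he) h1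
  obtain ⟨j, rfl⟩ : ∃ j, k = j + 1 := ⟨k - 1, by omega⟩
  have c3 := (ih j (by omega) _ _ (h.sp_nd hY (hA he) (hA he') (h0 e he) h1) (g.sp (fun x hx => fx x hx e he) fun x hx => fx x hx e' he')
    (by omega)).2 (syP b A e e') (fun a ha => ⟨⟨hA ha.1.1, ha.1.2⟩, ha.2⟩) (fun a ha => h0 a ha.1.1) fun x hx a ha => fx x hx a ha.1.1
  rw [← h.sp2 he he' (h0 e he) h1, add_comm _ 2, pow_add, mul_assoc]
  refine (Nat.mul_le_mul_left _ c3).trans ?_
  rw [← pow_add, T]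
  exact Nat.pow_le_pow_right q (by omega)

end rk

/-- With `T k = k (k + 1) / 2`, `k = m / 2`, by simultaneous induction on `m`:
(P) if `E` fixes pointwise a subspace `A` of isotropic vectors then `|A| |E| |K| ≤ |K| ^ T (k + 1)`.  If `b A A = 0` then
`dim A ≤ k` and (M).  Otherwise `A ∋ u, u'` hyperbolic, `X = ⟨u, u'⟩ ⊥ X'`, (P) for `X'`, `T k + 1 ≤ T (k + 1) - 1`.
(M) `E ≠ 1` fixes an isotropic `e ≠ 0` (`(x - 1) v` for a fixed point modulo the fixed space, or the radical of the fixed space);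
`b e e' = 1`, `X = ⟨e, e'⟩ ⊥ X'`; `A' = K e + span {x e' - e'}` consists of isotropic vectors (`(x - 1)² = 0`, `x - 1` self-adjoint),
`|E| ≤ |A'| |E_e'|`, `E_e'` fixes `A'` pointwise (`E` is abelian) and acts faithfully on `X'`; (P) for `A = A' ⊓ X'`. -/
theorem Sym.rk2 (h : Sym b) (E : Subgroup (X ≃ₗ[K] X)) (hE : ∀ x ∈ E, x * x = 1) (hb : ∀ x ∈ E, ∀ u v, b (x u) (x v) = b u v) :
    Nat.card E ≤ Nat.card K ^ (finrank K X / 2 * (finrank K X / 2 + 1) / 2) :=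
  (h.rkMP _ ⊤ E (fun y _ k => h.nd y fun z => k z trivial) ⟨hE, hb, fun _ _ _ => trivial⟩ (by rw [finrank_top]; omega)).1

/-- The number of symmetric matrices. -/
theorem card_symm (K : Type*) [Finite K] (k : ℕ) :
    Nat.card {s : Matrix (Fin k) (Fin k) K // ∀ i j, s i j = s j i} = Nat.card K ^ (k * (k + 1) / 2) := by
  refine (Nat.card_congr (Sym2.lift (α := Fin k) (β := K))).trans ?_
  rw [Nat.card_fun, Nat.card_eq_fintype_card (α := Sym2 _), Sym2.card,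
    Nat.choose_two_right, Fintype.card_fin, mul_comm]
  rfl

end Cfsg.Lib.USt
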