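import Cfsg.Agent.Lib.USt.MB
import Cfsg.Agent.Lib.USt.Sy
import Cfsg.Agent.Lib.USt.MC2

/-!
# S3137/S3128: involutions and elementary abelian subgroups of the model.  See `docs/UST.md`.
`k = m / 2` is the Witt index.
-/

set_option autoImplicit false

namespace Cfsg.Lib.USt

open Module Subgroup G2S Cfsg.Lib.BG Cfsg.Lib.GW GSt.SLa Cfsg.Lib.Unitary
open scoped commutatorElement Cfsg.Lib.Transfer

variable {F V : Type*} [Field F] [CharP F 2] [Finite F] [AddCommGroup V] [Module F V] [Finite V] {σ : F →+* F}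
  {B : V →ₛₗ[σ] V →ₗ[F] F} {x y : SUG B} {I : Submodule F V} {α : MulAut (SUG B)} {Φ : V ≃+ V} {θ : RingAut F} {q : ℕ}
  {E : Subgroup (SUG B)}

namespace Ok
variable (h : Ok B)
include h

theorem nf1 (α : MulAut (SUG B)) (hx : x * x = 1) : IsConj x (α x) := h.cl hx (by rw [← map_mul, hx, map_one]) (h.rk_aut α x).symm

theorem θσ_fix {n : ℕ} (ho : orderOf θ = 2 ^ n) (h1 : θ ≠ 1) {c : F} (hc : θ c = c) : σ c = c := by
  rcases n with _ | n
  · exact absurd (orderOf_eq_one_iff.1 ho) h1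
  rw [← h.eq_σ (θ := θ ^ 2 ^ n) (by rw [← pow_add, ← two_mul, ← pow_succ', ← ho, pow_orderOf_eq_one])
    (pow_ne_one_of_lt_orderOf (by positivity) (by rw [ho]; exact Nat.pow_lt_pow_right one_lt_two n.lt_succ_self)), pow_apply_of_fixed θ hc]

theorem fix_basis {n : ℕ} (p : Ind B α Φ θ) (k : α ^ 2 ^ n = 1) (ho : orderOf θ = 2 ^ n) (h1 : θ ≠ 1) (hΦ : ∀ v ∈ I, Φ v ∈ I) :
    ∃ b : Basis (Fin (finrank F I)) F I, ∀ i, Φ (b i) = b i := by
  let T : AddMonoid.End I := AddMonoidHom.mk' (fun v => ⟨Φ v, hΦ v v.2⟩) fun u v => Subtype.ext (map_add Φ _ _)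
  have hT : ∀ (j : ℕ) (v : I), ((T ^ j) v : V) = Φ^[j] v := fun j => by
    induction j with
    | zero => exact fun _ => rfl
    | succ j ih => exact fun v => by rw [pow_succ, Function.iterate_succ_apply]; exact ih (T v)
  exact (exists_fixed_basis (τ := θ) (T := T) (fun s v => Subtype.ext (p.smul s v))
    (AddMonoidHom.ext fun v => Subtype.ext ((hT _ v).trans (by rw [ho, h.ind_out p k h1]; rfl))) rfl).imp fun b hb i => congrArg Subtype.val (hb i)

/-- Descent: `X` = the fixed points of `Φ`, a space over the fixed field `K₀ ⊆ K` of `θ` with the symmetric form `B`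
(`exists_fixed_basis`, `ind_out`). -/
theorem desc {n : ℕ} (p : Ind B α Φ θ) (k : α ^ 2 ^ n = 1) (ho : orderOf θ = 2 ^ n) (h1 : θ ≠ 1) :
    ∃ b : Basis (Fin (finrank F V)) F V, (∀ i, Φ (b i) = b i) ∧ ∀ i j, θ (B (b i) (b j)) = B (b i) (b j) ∧
      B (b i) (b j) = B (b j) (b i) := by
  obtain ⟨b, hb⟩ := h.fix_basis (I := ⊤) p k ho h1 fun _ _ => trivial
  have hb' : ∀ i, Φ (((b.map Submodule.topEquiv).reindex (finCongr (finrank_top F V))) i) =
      ((b.map Submodule.topEquiv).reindex (finCongr (finrank_top F V))) i := fun i => by simp [hb]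
  refine ⟨_, hb', fun i j => ?_⟩
  have := p.iso (((b.map Submodule.topEquiv).reindex (finCongr (finrank_top F V))) i)
    (((b.map Submodule.topEquiv).reindex (finCongr (finrank_top F V))) j)
  rw [hb', hb'] at this
  exact ⟨this.symm, by rw [← h.symm, h.θσ_fix ho h1 (by rw [← p.iso, hb', hb'])]⟩

/-- The fixed points of `Φ` with their symmetric form. -/
theorem fix_sp {n : ℕ} (p : Ind B α Φ θ) (k : α ^ 2 ^ n = 1) (ho : orderOf θ = 2 ^ n) (h1 : θ ≠ 1) :
    ∃ (X : Submodule (fixedField (θ : F →+* F)) V)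
      (b : X →ₗ[fixedField (θ : F →+* F)] X →ₗ[fixedField (θ : F →+* F)] fixedField (θ : F →+* F)) (c : Basis (Fin (finrank F V)) F V),
      (∀ v, v ∈ X ↔ Φ v = v) ∧ Sym b ∧ finrank (fixedField (θ : F →+* F)) X = finrank F V ∧ (∀ u v, (b u v : F) = B u v) ∧
        ∀ i, Φ (c i) = c i := by
  obtain ⟨c, hc, -⟩ := h.desc p k ho h1
  let X : Submodule (fixedField (θ : F →+* F)) V :=
    { carrier := {v | Φ v = v}
      add_mem' := fun {u v} (hu : Φ u = u) (hv : Φ v = v) => show Φ (u + v) = u + v by rw [map_add, hu, hv]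
      zero_mem' := map_zero Φ
      smul_mem' := fun a v (hv : Φ v = v) => show Φ ((a : F) • v) = (a : F) • v by rw [p.smul, hv, show θ a = a from a.2] }
  have fx : ∀ u v : X, θ (B u v) = B u v := fun u v => by rw [← p.iso, u.2, v.2]
  let b := LinearMap.mk₂ (fixedField (θ : F →+* F)) (fun u v : X => (⟨B u v, fx u v⟩ : fixedField (θ : F →+* F)))
    (fun _ _ _ => Subtype.ext (by simp)) (fun a u v => Subtype.ext (show B ((a : F) • (u : V)) v = a * B u v by
      simp [h.θσ_fix ho h1 (show θ a = a from a.2)])) (fun _ _ _ => Subtype.ext (by simp))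
    fun a u v => Subtype.ext (show B u ((a : F) • (v : V)) = a * B u v by simp)
  refine ⟨X, b, c, fun _ => Iff.rfl, ⟨fun u v => Subtype.ext ?_, fun u hu => Subtype.ext (h.nondeg _ fun v => ?_)⟩, ?_, fun _ _ => rfl, hc⟩
  · exact (h.θσ_fix ho h1 (fx u v)).symm.trans (h.symm _ _)
  · rw [← c.sum_repr v, map_sum]
    exact Finset.sum_eq_zero fun i _ => by rw [map_smul, show B u (c i) = 0 from congrArg Subtype.val (hu ⟨c i, hc i⟩), smul_zero]
  · have e : X = Submodule.span _ (Set.range c) := le_antisymm (fun v hv => (Submodule.mem_span_range_iff_exists_fun _).2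
      ⟨fun i => ⟨c.repr v i, by
        have : Φ (∑ i, c.repr v i • c i) = ∑ i, c.repr v i • c i := by rw [c.sum_repr]; exact hv
        simp only [map_sum, p.smul, hc] at this
        exact Fintype.linearIndependent_iffₛ.1 c.linearIndependent _ _ this i⟩, c.sum_repr v⟩)
      (Submodule.span_le.2 (by rintro _ ⟨i, rfl⟩; exact hc i))
    rw [e, finrank_span_eq_card (c.linearIndependent.restrict_scalars' _), Fintype.card_fin]

/-- `E` commutes with `Φ` (`Ind.fix`), its matrices in the basis of `desc` lie over `fixedField θ`; `Sym.rk2`. -/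
theorem up {i : ℕ} (ho : orderOf (h.Th α) = 2 ^ (i + 1)) (k : α ^ 2 ^ (i + 1) = 1) (hE : El E) (hα : ∀ x ∈ E, α x = x) :
    Nat.card E ≤ Nat.card (fixedField (h.Th α : F →+* F)) ^ (finrank F V / 2 * (finrank F V / 2 + 1) / 2) := by
  obtain ⟨Φ, p⟩ := h.ind_Th α
  generalize h.Th α = θ at *
  obtain ⟨X, b, c, h1, h2, h3, h4, h5⟩ := h.fix_sp p k ho fun e => by
    rw [e, orderOf_one] at ho
    exact absurd ho.symm (Nat.pow_eq_one.not.2 (by omega))
  have st : ∀ x : E, x.1.1.restrictScalars (fixedField (θ : F →+* F)) ∈ subStab X := fun x => mem_subStab_of_le fun v hv =>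
    (h1 _).2 ((p.fix.1 (hα x x.2) v).symm.trans (congrArg _ ((h1 v).1 hv)))
  let ρ : E →* (X ≃ₗ[fixedField (θ : F →+* F)] X) := MonoidHom.mk' (fun x => restr X ⟨_, st x⟩) fun _ _ => rfl
  have hρ : ∀ x v, (ρ x v : V) = x.1.1 v := fun _ _ => rfl
  have inj : Function.Injective ρ := fun x y e => Subtype.ext (Subtype.ext (LinearEquiv.toLinearMap_injective (c.ext fun j =>
    (hρ x ⟨c j, (h1 _).2 (h5 j)⟩).symm.trans (e ▸ hρ y ⟨c j, (h1 _).2 (h5 j)⟩))))
  rw [← h3, Nat.card_congr (MonoidHom.ofInjective inj).toEquiv]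
  refine h2.rk2 ρ.range ?_ ?_
  · rintro _ ⟨x, rfl⟩
    rw [← map_mul, (Subtype.ext (by rw [coe_mul, hE x.1 x.2, coe_one]) : x * x = 1), map_one]
  · rintro _ ⟨x, rfl⟩ u v
    exact Subtype.ext ((h4 _ _).trans ((iso x.1 u v).trans (h4 _ _).symm))

/-- A fixed basis `v` of `I` (`exists_fixed_basis` for `I`), `W_mat` with symmetric matrices over `fixedField θ`, `card_symm`. -/
theorem low {n : ℕ} (p : Ind B α Φ θ) (k : α ^ 2 ^ n = 1) (ho : orderOf θ = 2 ^ n) (h1 : θ ≠ 1) (hI : Ti B I) (hΦ : ∀ v ∈ I, Φ v ∈ I) :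
    ∃ E ≤ W B I, (∀ x ∈ E, α x = x) ∧
      Nat.card (fixedField (θ : F →+* F)) ^ (finrank F I * (finrank F I + 1) / 2) ≤ Nat.card E := by
  obtain ⟨b, hb⟩ := h.fix_basis p k ho h1 hΦ
  have hv := b.linearIndependent.map' I.subtype I.ker_subtype
  have e : Submodule.span F (Set.range (I.subtype ∘ b)) = I := by
    rw [Set.range_comp, ← Submodule.map_span, b.span_eq, Submodule.map_subtype_top]
  obtain ⟨φ, h2, -⟩ := h.W_mat hv fun i j => mem_perp.1 (hI (b j).2) _ (b i).2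
  have hs : ∀ s : {s : Matrix (Fin (finrank F I)) (Fin (finrank F I)) (fixedField (θ : F →+* F)) // ∀ i j, s i j = s j i},
      ∀ i j, σ (s.1.map Subtype.val i j) = s.1.map Subtype.val j i := fun s i j => by
    rw [Matrix.map_apply, Matrix.map_apply, s.2 j i]
    exact h.θσ_fix ho h1 (s.1 i j).2
  refine ⟨W B I ⊓ α.toMonoidHom.eqLocus (MonoidHom.id _), inf_le_left, fun x hx => hx.2, ?_⟩
  rw [← card_symm]
  refine Nat.card_le_card_of_injective (fun s => ⟨φ (s.1.map Subtype.val), W_mono e.le (W_mem (h2 _ (hs s))), p.fix.2 fun u => ?_⟩)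
    fun s s' c => Subtype.ext (Matrix.map_injective Subtype.val_injective (h.W_inj hv fun u => ?_))
  · simp only [h2 _ (hs s), map_add, map_sum, p.smul, map_mul, ← p.iso, Function.comp_apply, Submodule.subtype_apply, hb, Matrix.map_apply,
      fun i j => show θ (s.1 i j) = s.1 i j from (s.1 i j).2]
  · rw [← add_right_inj u, ← h2 _ (hs s), ← h2 _ (hs s'), show φ (s.1.map Subtype.val) = φ (s'.1.map Subtype.val) from congrArg Subtype.val c]

/-- `2 q ^ (k (k + 1) / 2) < q ^ k²`: `k ≥ 3`, or `k = 2`, `m = 4`, `q ≥ 4`. -/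
theorem n2 (hq : IsBar q σ) : 2 * q ^ (finrank F V / 2 * (finrank F V / 2 + 1) / 2) < q ^ (finrank F V / 2) ^ 2 := by
  have q2 := hq.two_le
  have d4 := h.d4
  have d5 := h.d5
  rcases Nat.lt_or_ge (finrank F V) 6 with c | c
  · obtain ⟨a, h1, h2, h3⟩ := h.big.resolve_right (by omega)
    have : 2 < q := by
      have := Fintype.ofFinite (fixedField σ)
      rw [← hq.card_fixedField, Nat.card_eq_fintype_card, Fintype.two_lt_card_iff]
      exact ⟨0, 1, ⟨a, h1⟩, zero_ne_one, fun e => h2 (congrArg Subtype.val e).symm, fun e => h3 (congrArg Subtype.val e).symm⟩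
    rw [show finrank F V / 2 = 2 by omega]
    calc 2 * q ^ 3 < q * q ^ 3 := Nat.mul_lt_mul_of_pos_right this (by positivity)
      _ = _ := by ring
  · obtain ⟨k, hk⟩ : ∃ k, finrank F V / 2 = k + 3 := ⟨finrank F V / 2 - 3, by omega⟩
    rw [hk]
    calc _ ≤ q ^ ((k + 3) * (k + 3 + 1) / 2 + 1) := by rw [pow_succ']; exact Nat.mul_le_mul_right _ q2
      _ < _ := Nat.pow_lt_pow_right q2 (by
        have := Nat.div_mul_le_self ((k + 3) * (k + 3 + 1)) 2
        nlinarith)

/-- `E₀ = E ⊓ ker Th` has index `≤ 2` (`RingAut F` is cyclic) and consists of inner automorphisms `conj l`, `l² = 1`; these `l` form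
an elementary abelian subgroup of the same order.  If `E₀ < E` it is fixed by an outer involution: `up`, `n2`. -/
theorem rk_aut_el (hq : IsBar q σ) {E : Subgroup (MulAut (SUG B))} (hE : El E) : Nat.card E ≤ q ^ (finrank F V / 2) ^ 2 ∧
    ((∃ α ∈ E, h.Th α ≠ 1) → Nat.card E < q ^ (finrank F V / 2) ^ 2) := by
  have cz : ∀ {x y : SUG B}, MulAut.conj x = MulAut.conj y → x⁻¹ * y ∈ center (SUG B) := fun {x y} e => mem_center_iff.2 fun g => by
    have : x * g * x⁻¹ = y * g * y⁻¹ := DFunLike.congr_fun e g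
    calc _ = x⁻¹ * (x * g * x⁻¹) * y := by group
      _ = _ := by rw [this]; group
  have fx : ∀ α ∈ E, ∀ l, l * l = 1 → MulAut.conj l ∈ E → α l = l := fun α hα l h1 h2 =>
    h.bm.two_eq (n := 1) (k := 1) (by rw [pow_one, sq, ← map_mul, h1, map_one]) (by rw [pow_one, sq, h1]) (cz (by
      rw [← mul_inv_cancel_right (MulAut.conj l) α, ← hE.comm hα h2]
      ext g; simp))
  let L : Subgroup (SUG B) :=
    { carrier := {l | l * l = 1 ∧ MulAut.conj l ∈ E}
      mul_mem' := fun {x y} hx hy => ⟨by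
        have : x * y * x⁻¹ = y := fx _ hx.2 y hy.1 hy.2
        rw [← mul_assoc, mul_assoc x, ← cjf.1 this, ← mul_assoc, hx.1, one_mul, hy.1], by rw [map_mul]; exact mul_mem hx.2 hy.2⟩
      one_mem' := ⟨mul_one 1, by rw [map_one]; exact one_mem _⟩
      inv_mem' := fun {x} hx => by rwa [inv_eq_of_mul_eq_one_left hx.1] }
  have hL : El L := fun x hx => hx.1
  let T := h.Th.comp E.subtype
  have c1 : Nat.card T.ker ≤ Nat.card L := by
    have : ∀ a : T.ker, ∃ l : L, a.1.1 = MulAut.conj l.1 := fun a => by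
      obtain ⟨l, e⟩ := h.inner (α := a.1.1) (n := 1) (by rw [pow_one, sq, hE _ a.1.2]) a.2
      obtain ⟨l', e1, e2⟩ := h.bm.sq_of (l := l) (e ▸ hE _ a.1.2)
      exact ⟨⟨l', e1, e2 ▸ e ▸ a.1.2⟩, e.trans e2⟩
    choose f hf using this
    exact Nat.card_le_card_of_injective f fun a b e => Subtype.ext (Subtype.ext (by rw [hf, hf, e]))
  have c0 := T.ker.card_mul_index
  have key : (∃ α ∈ E, h.Th α ≠ 1) → Nat.card E < q ^ (finrank F V / 2) ^ 2 := by
    rintro ⟨α, hα, h1⟩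
    have sq' : ∀ β ∈ E, h.Th β * h.Th β = 1 := fun β hβ => by rw [← map_mul, hE β hβ, map_one]
    have c2 := h.up (i := 0) (α := α) (orderOf_eq_prime (p := 2) (by rw [sq, sq' α hα]) h1) (by rw [zero_add, pow_one, sq, hE α hα]) hL
      fun l hl => fx α hα l hl.1 hl.2
    rw [show (h.Th α : F →+* F) = σ from RingHom.ext (h.eq_σ (sq' α hα) h1), hq.card_fixedField] at c2
    have c3 : T.ker.index ≤ 2 := by
      rw [index_ker]
      have := h.bm.fin
      refine (Nat.card_le_card_of_injective (fun a : T.range => (⟨a.1, ?_⟩ : ({1, h.Th α} : Set _))) fun a b e =>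
        Subtype.ext (congrArg (·.1) e)).trans (Set.ncard_insert_le _ _ |>.trans (by simp))
      obtain ⟨_, β, rfl⟩ := a
      exact or_iff_not_imp_left.2 fun c => h.bm.eq_of_inv (sq' _ β.2) (sq' α hα) c h1
    refine lt_of_le_of_lt ?_ (h.n2 hq)
    rw [← c0, mul_comm]
    exact Nat.mul_le_mul c3 (c1.trans c2)
  refine ⟨?_, key⟩
  by_cases c : ∃ α ∈ E, h.Th α ≠ 1
  · exact (key c).le
  · push Not at c
    rw [← c0, index_eq_one.2 (eq_top_iff.2 fun a _ => c a.1 a.2), mul_one]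
    exact c1.trans (h.rk0 hq hL)

/-- Two involutions of type `σ` whose symmetric forms (`desc`) are both alternating or both not are conjugate under `SUG B`:
`Sym.equiv` gives `g ∈ UG B` with `g Φ = Φ' g`.  If `Φ = l Φ₀`, `Φ' = l' Φ₀` with `l, l' ∈ SUG B` then `g l (Φ₀ g Φ₀⁻¹)⁻¹ = l'` gives
`det g = σ (det g)`, so `det g = 1`. -/
theorem nf2 {α₀ : MulAut (SUG B)} {l l' : SUG B} {Φ₀ : V ≃+ V} (p : Ind B α₀ Φ₀ θ) (h1 : θ ≠ 1)
    (k : MulAut.conj l * α₀ * (MulAut.conj l * α₀) = 1) (k' : MulAut.conj l' * α₀ * (MulAut.conj l' * α₀) = 1)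
    (ha : (∀ v, l.1 (Φ₀ v) = v → B v v = 0) ↔ ∀ v, l'.1 (Φ₀ v) = v → B v v = 0) :
    ∃ w, MulAut.conj l' * α₀ = MulAut.conj w * (MulAut.conj l * α₀) * (MulAut.conj w)⁻¹ := by
  have p1 := (Ind.conj l).mul p
  have p2 := (Ind.conj l').mul p
  rw [one_mul] at p1 p2
  have θ2 : θ * θ = 1 := (h.ind_one (k ▸ p1.mul p1)).1
  have ho : orderOf θ = 2 ^ 1 := orderOf_eq_prime (p := 2) (by rw [sq, θ2]) h1
  obtain ⟨X, b, c, a1, a2, a3, a4, a5⟩ := h.fix_sp p1 (by rw [pow_one, sq, k]) ho h1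
  obtain ⟨X', b', -, b1, b2, b3, b4, -⟩ := h.fix_sp p2 (by rw [pow_one, sq, k']) ho h1
  obtain ⟨f, hf⟩ := a2.equiv b2 (a3.trans b3.symm) (Iff.trans ⟨fun c v hv => (a4 ⟨v, (a1 v).2 hv⟩ _).symm.trans (congrArg Subtype.val (c _)),
    fun c v => Subtype.ext ((a4 v v).trans (c _ ((a1 _).1 v.2)))⟩ (ha.trans ⟨fun c v => Subtype.ext ((b4 v v).trans (c _ ((b1 _).1 v.2))),
      fun c v hv => (b4 ⟨v, (b1 v).2 hv⟩ _).symm.trans (congrArg Subtype.val (c _))⟩))
  let d : Fin (finrank F V) → V := fun i => f ⟨c i, (a1 _).2 (a5 i)⟩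
  obtain ⟨g, hg⟩ := h.herm.witt.exists_equiv (c.constr F d) fun u v => by
    rw [← c.sum_repr u, ← c.sum_repr v]
    simp only [map_sum, LinearMap.sum_apply, map_smul, LinearMap.map_smulₛₗ, LinearMap.smul_apply, Basis.constr_basis, d, ← b4, hf, a4]
  have gc : ∀ i, g (c i) = d i := fun i => by rw [hg, Basis.constr_basis]
  have gU : g ∈ UG B := fun u v => by
    rw [← c.sum_repr u, ← c.sum_repr v]
    simp only [map_sum, LinearMap.sum_apply, map_smul, LinearMap.map_smulₛₗ, LinearMap.smul_apply, gc, d, ← b4, hf, a4]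
  have gΦ : ∀ v, g (Φ₀.trans l.1.toAddEquiv v) = Φ₀.trans l'.1.toAddEquiv (g v) := fun v => by
    rw [← c.sum_repr v]
    simp only [map_sum, map_smul, p1.smul, p2.smul, a5, gc, d, (b1 _).1 (f _).2]
  have gd : LinearMap.det (g : V →ₗ[F] V) = 1 := by
    have e : LinearMap.toMatrix c c ((l * l'⁻¹).1 * g : V ≃ₗ[F] V).toLinearMap = (LinearMap.toMatrix c c g.toLinearMap).map θ := by
      ext i j
      have : ((l * l'⁻¹).1 * g) (c j) = Φ₀.trans l.1.toAddEquiv (g (c j)) := by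
        have := gΦ (c j)
        rw [a5] at this
        conv_lhs => rw [LinearEquiv.mul_apply, this]
        exact congrArg l.1 (ap_inv l' _)
      rw [Matrix.map_apply, LinearMap.toMatrix_apply, LinearMap.toMatrix_apply, LinearEquiv.coe_coe, LinearEquiv.coe_coe, this]
      conv_lhs => rw [← c.sum_repr (g (c j))]
      simp only [map_sum, p1.smul, a5]
      simp [Finsupp.single_apply]
    have e := congrArg Matrix.det e
    rw [← RingEquiv.mapMatrix_apply, ← RingEquiv.map_det, LinearMap.det_toMatrix, LinearMap.det_toMatrix, ← LinearEquiv.coe_det, map_mul,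
      (mem_SUG.1 (l * l'⁻¹).2).2, one_mul, LinearEquiv.coe_det, h.eq_σ θ2 h1] at e
    have := h.herm.det_mul_conj gU
    rw [← e] at this
    exact eq_one_of_pow_char_pow 2 (m := 1) (by rw [pow_one, sq, this])
  refine ⟨⟨g, mem_SUG'.2 ⟨gU, gd⟩⟩, ?_⟩
  rw [eq_mul_inv_iff_mul_eq]
  refine MulEquiv.ext fun x => J_ext fun v => ?_
  obtain ⟨v, rfl⟩ := g.surjective v
  obtain ⟨v, rfl⟩ := (Φ₀.trans l.1.toAddEquiv).surjective v
  change ((MulAut.conj l' * α₀) (MulAut.conj _ x)).1 _ = g (((MulAut.conj l * α₀) x).1 (g.symm (g _)))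
  rw [g.symm_apply_apply, p1.act, gΦ, gΦ, p2.act]
  exact congrArg _ (congrArg g (congrArg x.1 (g.symm_apply_apply v)))

end Ok

end Cfsg.Lib.USt
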