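import Cfsg.Agent.Lib.USt.XD
import Cfsg.Agent.Lib.USt.MF
import Cfsg.Agent.Lib.USt.SPL
import Cfsg.Agent.Lib.Chev.MinGrp

/-!
# S3137/S3128: the Steinberg relations.  See `docs/UST.md`.  `i' = rev i`; `ε i` is isotropic unless `i = i'` (the middle index).
-/

set_option autoImplicit false

namespace Cfsg.Lib.USt

open Module Matrix Subgroup G2S Cfsg.Lib.BG Cfsg.Lib.GW GSt.SLa Cfsg.Lib.Unitary
open scoped commutatorElement Cfsg.Lib.Transfer

variable {F : Type*} [Field F] [CharP F 2] [Finite F] {n : ℕ} {s : RingAut F} {i j k l : LS.I n} {G : Type*} [Group G] [Finite G]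
  {ψ : SUG (BD s n) →* G} {t : G} {O : Subgroup G} {ω : F} {y : VV n F → F → G} {X : VV n F → VV n F → G}

omit [CharP F 2] [Finite G] in
open Cfsg.Lib.Chev in
/-- As `L3C.exists_SL3`, `Pres.Frames.exists_hom`. -/
theorem exists_SL {Y : LS.I n → LS.I n → F → G} (add : ∀ i j, i ≠ j → ∀ a b, Y i j (a + b) = Y i j a * Y i j b)
    (h0 : ∀ i j k l, i ≠ j → k ≠ l → i ≠ l → j ≠ k → ∀ a b, Y i j a * Y k l b = Y k l b * Y i j a)
    (h1 : ∀ i j k, i ≠ j → j ≠ k → i ≠ k → ∀ a b, Y i j a * Y j k b = Y i k (a * b) * (Y j k b * Y i j a)) :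
    ∃ φ : LS.J n F →* G, ∀ i j, i ≠ j → ∀ a, φ (LS.xr i j a) = Y i j a := by
  have hadd : ∀ (r : RtA (n + 2 + 1)) t u, Y r.1.1 r.1.2 (t + u) = Y r.1.1 r.1.2 t * Y r.1.1 r.1.2 u := fun r => add _ _ r.2
  refine ((realSL F (n + 2)).exists_hom (full_repA _) (noA1_of_conn (conn_A _) (by omega))
    (repA _).isTab_tab (y := fun r t => Y r.1.1 r.1.2 t) (strongComm_A F hadd ?_ ?_) hadd).imp
    fun φ hφ i j h a => (LS.xr_def h a).symm ▸ hφ ⟨(i, j), h⟩ a
  · rintro ⟨⟨i, j⟩, h1⟩ ⟨⟨k, l⟩, h2⟩ a b c d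
    exact h0 i j k l h1 h2 c d a b
  · rintro ⟨⟨i, j⟩, a⟩ ⟨⟨k, l⟩, b⟩ c t u (rfl : j = k)
    exact h1 _ _ _ a b c t u

section inv
variable {H : Type*} [Group H] {x y z : H}

theorem iv_inv (hx : x * x = 1) : x⁻¹ = x := inv_eq_of_mul_eq_one_right hx
theorem cm_z (hx : x * x = 1) (hy : y * y = 1) (k : x * y = z * (y * x)) : z = x * y * x * y := by
  rw [eq_mul_inv_of_mul_eq k.symm, _root_.mul_inv_rev, iv_inv hx, iv_inv hy, ← mul_assoc]
theorem cm_of1 (hx : x * x = 1) (hy : y * y = 1) (k : y * x * y⁻¹ = x * z) : x * y = z * (y * x) := by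
  rw [iv_inv hy] at k
  rw [eq_inv_mul_of_mul_eq k.symm, iv_inv hx, mul_assoc x, mul_assoc (y * x), ← mul_assoc y y, hy, one_mul, mul_assoc y, hx, mul_one]
theorem cm_of2 (hx : x * x = 1) (hy : y * y = 1) (hz : z * z = 1) (k : x * y * x⁻¹ = y * z) : x * y = z * (y * x) := by
  have e : z = y⁻¹ * (x * y * x⁻¹) := eq_inv_mul_of_mul_eq k.symm
  rw [← iv_inv hz, e, _root_.mul_inv_rev, _root_.mul_inv_rev, _root_.mul_inv_rev, inv_inv, inv_inv, iv_inv hx, iv_inv hy]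
  simp only [mul_assoc]
  rw [← mul_assoc y y, hy, one_mul, hx, mul_one]
theorem cm_l (hx : x * x = 1) (hy : y * y = 1) (hz : z * z = 1) (k : x * y = z * (y * x)) : Commute x z := by
  have e := cm_z hx hy k
  have : x * z * x⁻¹ = z⁻¹ := by
    rw [e, _root_.mul_inv_rev, _root_.mul_inv_rev, _root_.mul_inv_rev, iv_inv hx, iv_inv hy, ← mul_assoc, ← mul_assoc, ← mul_assoc, hx,
      one_mul]
    simp only [mul_assoc]
  rwa [iv_inv hz, mul_inv_eq_iff_eq_mul] at this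
theorem cm_r (hx : x * x = 1) (hy : y * y = 1) (hz : z * z = 1) (k : x * y = z * (y * x)) : Commute y z := by
  have e := cm_z hx hy k
  have : y * z * y⁻¹ = z⁻¹ := by
    rw [e, _root_.mul_inv_rev, _root_.mul_inv_rev, _root_.mul_inv_rev, iv_inv hx, iv_inv hy, mul_assoc y, mul_assoc _ y y, hy, mul_one]
    simp only [mul_assoc]
  rwa [iv_inv hz, mul_inv_eq_iff_eq_mul] at this
theorem cm_x (hx : x * x = 1) (k : x * y = z * (y * x)) : x * y * x⁻¹ = z * y := by rw [k, ← mul_assoc, mul_inv_cancel_right]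
theorem cm_y (hx : x * x = 1) (hy : y * y = 1) (k : x * y = z * (y * x)) : y * x * y⁻¹ = x * z := by
  rw [cm_z hx hy k, iv_inv hy, ← mul_assoc, ← mul_assoc, ← mul_assoc, hx, one_mul]
theorem cj_sw {p q w : H} (h1 : q * x * q⁻¹ = w * x ∨ q * x * q⁻¹ = x * w) (h2 : p * w * p⁻¹ = w * x ∨ p * w * p⁻¹ = x * w)
    (h3 : Commute p x) (h4 : Commute x w) (hx : x * x = 1) : p * q * x * (p * q)⁻¹ = w := by
  have a : q * x * q⁻¹ = x * w := h1.elim (·.trans h4.eq.symm) id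
  have b : p * w * p⁻¹ = x * w := h2.elim (·.trans h4.eq.symm) id
  calc _ = p * (q * x * q⁻¹) * p⁻¹ := by group
    _ = p * x * p⁻¹ * (p * w * p⁻¹) := by rw [a]; group
    _ = w := by rw [b, h3.eq, mul_inv_cancel_right, ← mul_assoc, hx, one_mul]
theorem tcj {t : H} (t2 : t * t = 1) (x y : H) : t * x * t * (t * y * t) = t * (x * y) * t := by
  rw [mul_assoc (t * x), ← mul_assoc t, ← mul_assoc t, t2, one_mul]; simp only [mul_assoc]
theorem tt {t : H} (t2 : t * t = 1) (x : H) : t * (t * x * t) * t = x := by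
  rw [← mul_assoc, ← mul_assoc, t2, one_mul, mul_assoc, t2, mul_one]
theorem tcm {t : H} (t2 : t * t = 1) (k : Commute x y) : Commute (t * x * t) (t * y * t) := by
  rw [Commute, SemiconjBy, tcj t2, tcj t2, k.eq]
end inv

omit [CharP F 2] [Finite F] in
theorem mid (hi : i = i.rev) (hij : i ≠ j) : j ≠ j.rev := fun e => hij (by
  have := congrArg Fin.val hi; have := congrArg Fin.val e
  simp only [Fin.val_rev] at *
  exact Fin.ext (by omega))
omit [CharP F 2] [Finite F] in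
theorem rv (hij : i ≠ j.rev) : j ≠ i.rev := fun e => hij (by rw [e, Fin.rev_rev])
omit [CharP F 2] [Finite F] in
theorem rvi (hij : i ≠ j) : i.rev ≠ j.rev := Fin.rev_injective.ne hij
omit [CharP F 2] [Finite F] in
theorem rvr (hij : i ≠ j) : i ≠ j.rev.rev := by rwa [Fin.rev_rev]
omit [CharP F 2] [Finite F] in
theorem rvs (hi : i ≠ i.rev) : i.rev ≠ i.rev.rev := rvi hi
omit [CharP F 2] [Finite F] in
theorem Bεε (hij : j ≠ i.rev) : BD s n (ε F i) (ε F j) = 0 := by rw [BD_εε, if_neg hij.symm]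
omit [CharP F 2] [Finite F] in
theorem Bεs (hij : j ≠ i.rev) (c : F) : BD s n (ε F i) (c • ε F j) = 0 := by rw [map_smul, Bεε hij, smul_zero]
omit [CharP F 2] [Finite F] in
theorem Ok.s_s (h : Ok (BD s n)) (a : F) : s (s a) = a := h.ss a

/-- The root elements. -/
def rr (s : RingAut F) (t : G) (X : VV n F → VV n F → G) (i j : LS.I n) (c : F) : G :=
  if i = i.rev then t * X (ε F j.rev) (c • ε F i) * t else X (ε F i) (s c • ε F j.rev)

namespace XD
variable (z : XD ψ t y ω X) (h : Ok (BD s n))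
include z h

/-- `xt`, `xsmul`. -/
theorem rr' (hij : i ≠ j) (hj : j ≠ j.rev) (c : F) : rr s t X i j c = t * X (ε F j.rev) (c • ε F i) * t := by
  rw [rr]
  split_ifs with hi
  · rfl
  rcases eq_or_ne c 0 with rfl | c0
  · rw [map_zero, zero_smul, zero_smul, z.zero h (ε_ne _) (Bεε hi), z.zero h (ε_ne _) (Bεε (rvs hj)), mul_one, z.t2]
  · rw [z.xt h (ε_ne _) (Bεε (rvs hj)) (smul_ne_zero c0 (ε_ne _)) (by simp [Bεε hi]) (Bεs (rvr hij) c),
      z.xsmul h (ε_ne _) (Bεε hi) c0 (Bεε (rvi hij.symm))]; rfl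

theorem rr_t (hij : i ≠ j) (c : F) : t * rr s t X i j c * t = rr s t X j.rev i.rev (s c) := by
  by_cases hi : i = i.rev
  · rw [rr, if_pos hi, tt z.t2, rr, if_neg (rvs (mid hi hij)), h.s_s, Fin.rev_rev]
  · rw [z.rr' h (rvi hij.symm) (rvs hi), Fin.rev_rev, rr, if_neg hi]

theorem rr_add (hij : i ≠ j) (a b : F) : rr s t X i j (a + b) = rr s t X i j a * rr s t X i j b := by
  by_cases hi : i = i.rev
  · simp only [rr, if_pos hi]
    rw [tcj z.t2, add_smul, z.xadd _ _ _ (ε_ne _) (Bεε (rvs (mid hi hij))) (Bεs (rvr hij) _) (Bεs (rvr hij) _)]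
  · simp only [rr, if_neg hi]
    rw [map_add, add_smul, z.xadd _ _ _ (ε_ne _) (Bεε hi) (Bεs (rvi hij.symm) _) (Bεs (rvi hij.symm) _)]

theorem rr_zero (hij : i ≠ j) : rr s t X i j 0 = 1 := by simpa using z.rr_add h hij 0 0

theorem rr_sq (hij : i ≠ j) (a : F) : rr s t X i j a * rr s t X i j a = 1 := by rw [← z.rr_add h hij, aa, z.rr_zero h hij]

theorem rr_t' (hij : i ≠ j) (c : F) : rr s t X i j c = t * rr s t X j.rev i.rev (s c) * t := by rw [← z.rr_t h hij, tt z.t2]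

/-- `act_a` (`k ≠ k'`) or `act_b`. -/
theorem rr_act (hi : i ≠ i.rev) (hkl : k ≠ l) (hk : k ≠ i.rev) (hl : l ≠ i) (b : F) {w : VV n F} (hw : BD s n (ε F i) w = 0) :
    rr s t X k l b * X (ε F i) w * (rr s t X k l b)⁻¹ = X (ε F i) (w + (s b * w k.rev) • ε F l.rev) := by
  by_cases hk' : k = k.rev
  · rw [rr, if_pos hk', z.act_b h (ε_ne _) (Bεε hi) (ε_ne _) (Bεε (rvs (mid hk' hkl))) (Bεs (rvr hkl) _) (Bεs hk _) (Bεε (rvi hl)) hw]
    simp
  · rw [rr, if_neg hk', z.act_a h (ε_ne _) (Bεε hi) (ε_ne _) (Bεε hk') (Bεs (rvi hkl.symm) _) (Bεε hk) (Bεs (rvi hl) _) hw, BD_ε,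
      smul_smul, mul_comm]

theorem rr_row (hi : i ≠ i.rev) (hij : i ≠ j) (hik : i ≠ k) (a b : F) : Commute (rr s t X i j a) (rr s t X i k b) := by
  simp only [rr, if_neg hi]
  exact z.comm' h (ε_ne _) (Bεε hi) (Bεs (rvi hij.symm) _) (Bεs (rvi hik.symm) _)

theorem rr_col (hk : k ≠ k.rev) (hik : i ≠ k) (hjk : j ≠ k) (a b : F) : Commute (rr s t X i k a) (rr s t X j k b) := by
  rw [z.rr' h hik hk, z.rr' h hjk hk]
  exact tcm z.t2 (z.comm' h (ε_ne _) (Bεε (rvs hk)) (Bεs (rvr hik) _) (Bεs (rvr hjk) _))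

/-- `rr_act`. -/
theorem rr_C1 (hi : i ≠ i.rev) (hj : j ≠ i.rev) (hij : i ≠ j) (hjk : j ≠ k) (hik : i ≠ k) (a b : F) :
    rr s t X j k b * rr s t X i j a * (rr s t X j k b)⁻¹ = rr s t X i j a * rr s t X i k (a * b) := by
  rw [rr.eq_1 s t X i j, rr.eq_1 s t X i k, if_neg hi, if_neg hi, z.rr_act h hi hjk hj hik.symm b (Bεs (rvi hij.symm) _),
    z.xadd _ _ _ (ε_ne _) (Bεε hi) (Bεs (rvi hij.symm) _) (Bεs (rvi hik.symm) _)]
  simp [ε_apply, mul_comm]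

/-- The image of `rr_C1` under `t`. -/
theorem rr_C2 (hk : k ≠ k.rev) (hj : j ≠ k.rev) (hij : i ≠ j) (hjk : j ≠ k) (hik : i ≠ k) (a b : F) :
    rr s t X i j a * rr s t X j k b * (rr s t X i j a)⁻¹ = rr s t X j k b * rr s t X i k (a * b) := by
  have := z.rr_C1 h (rvs hk) (rvr (rv hj).symm) (rvi hjk.symm) (rvi hij.symm) (rvi hik.symm) (s b) (s a)
  rw [z.rr_t' h hij, z.rr_t' h hjk, z.rr_t' h hik, iv_inv (by rw [tcj z.t2, z.rr_sq h (rvi hij.symm), mul_one, z.t2]), tcj z.t2, tcj z.t2,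
    tcj z.t2, map_mul, mul_comm (s a), ← this, iv_inv (z.rr_sq h (rvi hij.symm) _)]

theorem cm1 (hi : i ≠ i.rev) (hj : j ≠ i.rev) (hij : i ≠ j) (hjk : j ≠ k) (hik : i ≠ k) (a b : F) :
    rr s t X i j a * rr s t X j k b = rr s t X i k (a * b) * (rr s t X j k b * rr s t X i j a) :=
  cm_of1 (z.rr_sq h hij a) (z.rr_sq h hjk b) (z.rr_C1 h hi hj hij hjk hik a b)

theorem cm2 (hk : k ≠ k.rev) (hj : j ≠ k.rev) (hij : i ≠ j) (hjk : j ≠ k) (hik : i ≠ k) (a b : F) :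
    rr s t X i j a * rr s t X j k b = rr s t X i k (a * b) * (rr s t X j k b * rr s t X i j a) :=
  cm_of2 (z.rr_sq h hij a) (z.rr_sq h hjk b) (z.rr_sq h hik _) (z.rr_C2 h hk hj hij hjk hik a b)

theorem rr_D0 (hi : i ≠ i.rev) (hij : i ≠ j) (hkl : k ≠ l) (hil : i ≠ l) (hjk : j ≠ k) (hk : k ≠ i.rev) (a b : F) :
    Commute (rr s t X i j a) (rr s t X k l b) := by
  have := z.rr_act h hi hkl hk hil.symm b (Bεs (rvi hij.symm) (s a))
  rw [rr.eq_1 s t X i j, if_neg hi]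
  refine (cjf.1 (this.trans ?_)).symm
  simp [ε_apply, hjk.symm]

theorem rr_D0' (hij : i ≠ j) (hkl : k ≠ l) (hik : i ≠ k) (hil : i ≠ l) (hjk : j ≠ k) (hk : k ≠ i.rev) (a b : F) :
    Commute (rr s t X i j a) (rr s t X k l b) := by
  by_cases hi : i = i.rev
  · exact (z.rr_D0 h (mid hi hik) hkl hij hjk.symm hil.symm (rv hk) b a).symm
  · exact z.rr_D0 h hi hij hkl hil hjk hk a b

/-- `k ≠ i'`: `rr_act` with `i` or (if `i = i'`) with the roles exchanged.  `l ≠ j'`: the image under `t`. -/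
theorem rr_D1 (hij : i ≠ j) (hkl : k ≠ l) (hik : i ≠ k) (hil : i ≠ l) (hjk : j ≠ k) (hjl : j ≠ l) (hh : k ≠ i.rev ∨ l ≠ j.rev) (a b : F) :
    Commute (rr s t X i j a) (rr s t X k l b) := by
  rcases hh with hh | hh
  · exact z.rr_D0' h hij hkl hik hil hjk hh a b
  · rw [z.rr_t' h hij, z.rr_t' h hkl]
    exact tcm z.t2 (z.rr_D0' h (rvi hij.symm) (rvi hkl.symm) (rvi hjl) (rvi hjk) (rvi hil) (rvi hh) _ _)

/-- `g = r (j, i') 1 * r (i', j) 1` conjugates `r (i, i') a` to `r (i, j) a` and `r (j, j') b` to `r (i', j') b` (`rr_C1`, `rr_C2`, rows, columns);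
`r (i, i') a = y (ε i) a` and `r (j, j') b = y (ε j) b` commute (`self`, `comm`). -/
theorem rr_D2 (hi : i ≠ i.rev) (hj : j ≠ j.rev) (hij : i ≠ j) (hij' : i ≠ j.rev) (a b : F) :
    Commute (rr s t X i j a) (rr s t X i.rev j.rev b) := by
  have hji := rv hij'
  have e : ∀ {i : LS.I n}, i ≠ i.rev → ∀ a, rr s t X i i.rev a = y (ε F i) a := fun hi a => by
    rw [rr, if_neg hi, Fin.rev_rev, z.self h (ε_ne _) (Bεε hi)]; exact congrArg _ (h.ss a)
  have c : Commute (rr s t X i i.rev a) (rr s t X j j.rev b) := by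
    rw [e hi, e hj]; exact z.comm _ _ _ _ (Bεε hi) (Bεε hj) (Bεε hji)
  have q1 := cm_y (z.rr_sq h hi a) (z.rr_sq h hji.symm 1) (z.cm2 h hj (rvi hij) hi hji.symm hij a 1)
  have p1 := cm_y (z.rr_sq h hij a) (z.rr_sq h hji 1) (z.cm1 h hi hji hij hji hi a 1)
  have q2 := cm_x (z.rr_sq h hji.symm 1) (z.cm1 h (rvs hi) (rvr hij.symm) hji.symm hj (rvi hij) 1 b)
  have p2 := cm_x (z.rr_sq h hji 1) (z.cm1 h hj (rvi hij) hji (rvi hij) hj 1 b)
  rw [mul_one] at q1 p1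
  rw [one_mul] at q2 p2
  rw [← cj_sw (.inr q1) (.inl p1) (z.rr_col h (rvs hi) hji hi _ _) (z.rr_row h hi hi hij _ _) (z.rr_sq h hi a),
    ← cj_sw (.inl q2) (.inr p2) (z.rr_row h hj hji hj _ _) (z.rr_col h (rvs hj) hj (rvi hij) _ _) (z.rr_sq h hj b)]
  exact cjc c _

theorem cm3 (hi : i = i.rev) (hij : i ≠ j) (a b : F) :
    rr s t X i j a * rr s t X j j.rev b = rr s t X i j.rev (a * b) * (rr s t X j j.rev b * rr s t X i j a) := by
  have hj := mid hi hij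
  have hij' : i ≠ j.rev := rv (hi ▸ hij.symm)
  obtain ⟨c, hc⟩ : ∃ c : LS.I n, c ∉ ({i, j, j.rev} : Finset (LS.I n)) := by
    refine Finset.exists_mem_notMem_of_card_lt_card (s := {i, j, j.rev}) (t := Finset.univ) ?_ |>.imp fun _ k => k.2
    have := h.d4
    rw [finrank_VV] at this
    have := Finset.card_le_three (a := i) (b := j) (c := j.rev)
    rw [Finset.card_fin]; omega
  simp only [Finset.mem_insert, Finset.mem_singleton, not_or] at hc
  obtain ⟨ci, cj, cj'⟩ := hc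
  have hc := mid hi (Ne.symm ci)
  have e : ∀ {j : LS.I n}, i ≠ j → c ≠ j → c ≠ j.rev → ∀ a, rr s t X c i 1 * rr s t X i c 1 * rr s t X c j a *
      (rr s t X c i 1 * rr s t X i c 1)⁻¹ = rr s t X i j a := fun {j} hij cj cj' a => by
    have q := cm_x (z.rr_sq h (Ne.symm ci) 1) (z.cm2 h (mid hi hij) cj' (Ne.symm ci) cj hij 1 a)
    have p := cm_x (z.rr_sq h ci 1) (z.cm1 h hc (rv (hi ▸ ci)) ci hij cj 1 a)
    rw [one_mul] at p q
    exact cj_sw (.inl q) (.inr p) (z.rr_row h hc ci cj _ _) (z.rr_col h (mid hi hij) cj hij _ _) (z.rr_sq h cj a)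
  have c1 := (z.rr_D1 h ci hj cj cj' hij hij' (.inr (rvi hij.symm)) 1 b).mul_left
    (z.rr_D1 h (Ne.symm ci) hj hij hij' cj cj' (.inl (hi ▸ hij.symm)) 1 b)
  have := congrArg (MulAut.conj (rr s t X c i 1 * rr s t X i c 1)).toMonoidHom (z.cm1 h hc (rv cj') cj hj cj' a b)
  simp only [map_mul (MulEquiv.toMonoidHom _)] at this
  simpa only [MulEquiv.coe_toMonoidHom, MulAut.conj_apply, e hij cj cj', e hij' cj' (rvr cj), cjf.2 c1] using this

/-- The commutator relations. -/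
theorem cmA (hij : i ≠ j) (hjk : j ≠ k) (hik : i ≠ k) (a b : F) :
    rr s t X i j a * rr s t X j k b = rr s t X i k (a * b) * (rr s t X j k b * rr s t X i j a) := by
  by_cases h1 : i ≠ i.rev ∧ j ≠ i.rev
  · exact z.cm1 h h1.1 h1.2 hij hjk hik a b
  by_cases h2 : k ≠ k.rev ∧ j ≠ k.rev
  · exact z.cm2 h h2.1 h2.2 hij hjk hik a b
  simp only [not_and_or, not_not] at h1 h2
  rcases h1 with h1 | rfl <;> rcases h2 with h2 | h2
  · exact absurd h2 (mid h1 hik)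
  · obtain rfl : k = j.rev := by rw [h2, Fin.rev_rev]
    exact z.cm3 h h1 hij a b
  · have := z.cm3 h (congrArg Fin.rev h2) (rvi hjk.symm) (s b) (s a)
    have k1 := cm_y (z.rr_sq h (rvi hjk.symm) _) (z.rr_sq h (rvi (rvs hij)) _) this
    refine cm_of2 (z.rr_sq h hij a) (z.rr_sq h hjk b) (z.rr_sq h hik _) ?_
    rw [Fin.rev_rev (i := i.rev)] at k1
    rw [z.rr_t' h hij, z.rr_t' h hjk, z.rr_t' h hik, iv_inv (by rw [tcj z.t2, z.rr_sq h (rvi hij.symm), mul_one, z.t2]), tcj z.t2, tcj z.t2,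
      tcj z.t2, map_mul, mul_comm (s a), ← k1, iv_inv (z.rr_sq h (rvi hij.symm) _)]
  · exact absurd (Fin.rev_injective h2) hik

theorem rowA (hij : i ≠ j) (hik : i ≠ k) (a b : F) : Commute (rr s t X i j a) (rr s t X i k b) := by
  rcases eq_or_ne j k with rfl | hjk
  · rw [Commute, SemiconjBy, ← z.rr_add h hij, ← z.rr_add h hij, add_comm]
  rcases eq_or_ne a 0 with rfl | a0
  · rw [z.rr_zero h hij]; exact .one_left _
  · rw [← mul_div_cancel₀ b a0]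
    exact cm_l (z.rr_sq h hij _) (z.rr_sq h hjk _) (z.rr_sq h hik _) (z.cmA h hij hjk hik _ _)

theorem colA (hik : i ≠ k) (hjk : j ≠ k) (a b : F) : Commute (rr s t X i k a) (rr s t X j k b) := by
  rw [z.rr_t' h hik, z.rr_t' h hjk]
  exact tcm z.t2 (z.rowA h (rvi hik.symm) (rvi hjk.symm) _ _)

/-- `i = i'`, so `m` is odd, `m ≥ 7`; `c ∉ {i, j, j'}`.  `g = r (c, i) 1 * r (i, c) 1` conjugates `r (c, j) a` to `r (i, j) a`, `r (c, j') a` to
`r (i, j') a`, and commutes with `r (j, j') b` (`rr_D1`); `rr_C1` and `rr_row` for `(c, j, j')`. -/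
theorem rr_C3 (hi : i = i.rev) (hij : i ≠ j) (a b : F) :
    rr s t X j j.rev b * rr s t X i j a * (rr s t X j j.rev b)⁻¹ = rr s t X i j a * rr s t X i j.rev (a * b) ∧
      ∀ k, i ≠ k → Commute (rr s t X i j a) (rr s t X i k b) :=   ⟨cm_y (z.rr_sq h hij a) (z.rr_sq h (mid hi hij) b) (z.cm3 h hi hij a b), fun _ hik => z.rowA h hij hik a b⟩

/-- `exists_SL`.  `φ (op e w) = X e w` for `e = ε ⊥`, `ε ⊤` (`sum_ε`, `op_add_right`, `xr_op`), `t φ t = φ τ` (`LS.hom_ext`, `rr_t`), `io_ei`, `ef`,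
`self`, `gen_QQ`; `mem`. -/
theorem exists_phi : ∃ φ : LS.J n F →* G, FD ψ t ⊥ φ ∧ ∀ N : Subgroup G, N.Normal → ψ.range ≤ N → φ.range ≤ N := by
  obtain ⟨φ, hφ⟩ := exists_SL (Y := rr s t X) (fun _ _ e => z.rr_add h e) (fun i j k l hij hkl hil hjk a b => by
    rcases eq_or_ne i k with rfl | hik
    · exact z.rowA h hij hil a b
    rcases eq_or_ne j l with rfl | hjl
    · exact z.colA h hij hkl a b
    by_cases hh : k ≠ i.rev ∨ l ≠ j.rev
    · exact z.rr_D1 h hij hkl hik hil hjk hjl hh a b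
    · simp only [not_or, not_not] at hh
      obtain ⟨rfl, rfl⟩ := hh
      exact z.rr_D2 h hik hjl hij hil a b) fun _ _ _ e1 e2 e3 => z.cmA h e1 e2 e3
  have ct : ∀ g, t * φ g * t = φ (τ s n g) := fun g => by
    have := LS.hom_ext (f := (MulAut.conj t).toMonoidHom.comp φ) (g := φ.comp (τ s n).toMonoidHom) fun i j c e => by
      change t * φ _ * t⁻¹ = φ (τ s n _)
      rw [τ_xr, hφ _ _ e, hφ _ _ (rvi e.symm), iv_inv z.t2, z.rr_t h e]
    exact (congrArg (t * φ g * ·) (iv_inv z.t2)).symm.trans (DFunLike.congr_fun this g)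
  have po : ∀ {i : LS.I n}, i ≠ i.rev → ∀ w, BD s n (ε F i) w = 0 → φ (op s (ε F i) w) = X (ε F i) w := fun {i} hi w hw => by
    have p0 : φ (op s (ε F i) 0) = X (ε F i) 0 := by
      have := op_add_right (s := s) (e := ε F i) (u := 0) (v := 0) (by simp) (by simp)
      rw [add_zero, left_eq_mul] at this
      rw [this, map_one, z.zero h (ε_ne _) (Bεε hi)]
    rw [← sum_ε w]
    refine (Finset.sum_induction _ (fun v => BD s n (ε F i) v = 0 ∧ φ (op s (ε F i) v) = X (ε F i) v) ?_ ⟨by simp, p0⟩ ?_).2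
    · rintro u v ⟨u1, u2⟩ ⟨v1, v2⟩
      exact ⟨by rw [map_add, u1, v1, add_zero], by
        rw [op_add_right (h.cm u1) (h.cm v1), map_mul, u2, v2, z.xadd _ _ _ (ε_ne _) (Bεε hi) u1 v1]⟩
    · intro j _
      rcases eq_or_ne j i.rev with rfl | hj
      · rw [BD_ε] at hw
        rw [hw, zero_smul]; exact ⟨by simp, p0⟩
      · have := (h.xr_op (rv hj) (s (w j))).1
        rw [h.s_s, Fin.rev_rev] at this
        exact ⟨Bεs hj _, by rw [← this, hφ _ _ (rv hj), rr, if_neg hi, h.s_s, Fin.rev_rev]⟩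
  have hQ : ∀ {i : LS.I n}, i ≠ i.rev → Q (BD s n) (ε F i) ≤ (φ.comp (io s n)).eqLocus ψ := fun {i} hi x hx => by
    obtain ⟨w, γ, p, rfl⟩ := h.Q_ex' (ε_ne _) (Bεε hi) hx
    change φ (io s n _) = _
    rw [h.io_ei p, z.ef h (ε_ne _) p.ee p, map_mul, map_mul, ← h.τ_op (h.cm p.ew), ← ct, po hi _ p.ew, po hi _ (Bεs hi _),
      z.self h (ε_ne _) p.ee]
    exact congrArg (_ * y _ ·) (h.ss γ)
  refine ⟨φ, ⟨z.toS1, fun x => ?_, ct, by simp⟩, fun N hN k => ?_⟩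
  · exact (h.gen_QQ h.hy0 (hQ (by rw [Fin.rev_bot]; exact LS.bt)) (hQ (by rw [Fin.rev_top]; exact LS.bt.symm))).ge (mem_top x)
  · rintro _ ⟨g, rfl⟩
    refine (LS.gen (N := N.comap φ) fun i j c => ?_).ge (mem_top g)
    rcases eq_or_ne i j with rfl | e
    · rw [LS.xr_self]; exact one_mem _
    rw [mem_comap, hφ _ _ e, rr]
    split_ifs with hi
    · nth_rw 2 [← iv_inv z.t2]
      exact hN.conj_mem _ (z.mem h (ε_ne _) (Bεε (rvs (mid hi e))) k (Bεs (rvr e) _)).2 _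
    · exact (z.mem h (ε_ne _) (Bεε hi) k (Bεs (rvi e.symm) _)).2

end XD

/-- `lift_O` (`mult_SL`), `ext_O`. -/
theorem S1.lift_fd (s₁ : S1 ψ t O) (h : Ok (BD s n)) (hψ : ∀ x, ψ x ∈ 𝐍(O)) (ht : t ∈ 𝐍(O)) {φ : LS.J n F →* 𝐍(O) ⧸ O.subgroupOf 𝐍(O)}
    (d : FD ((QuotientGroup.mk' (O.subgroupOf 𝐍(O))).comp (ψ.codRestrict _ hψ)) (QuotientGroup.mk' (O.subgroupOf 𝐍(O)) ⟨t, ht⟩) ⊥ φ)
    (hN : ∀ N : Subgroup (𝐍(O) ⧸ O.subgroupOf 𝐍(O)), N.Normal →
      ((QuotientGroup.mk' (O.subgroupOf 𝐍(O))).comp (ψ.codRestrict _ hψ)).range ≤ N → φ.range ≤ N) : ∃ φ, FD ψ t O φ := by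
  have hc : ∀ x, ψ x ∈ 𝐂(O) := fun x => mem_cent.2 fun o k => s₁.Oψ o k x
  have tc : t ∈ 𝐂(O) := mem_cent.2 s₁.Ot
  obtain ⟨φ', c, e⟩ := lift_O (mult_SL (by have := h.d4; rw [finrank_VV] at this; omega) fun k => by
    obtain ⟨a, a0, a1⟩ := h.s_ex
    exact a1 (((Nat.card_eq_two_iff' (0 : F)).1 k).unique a0 one_ne_zero)) LS.perfect φ hψ hc hN
  have e' : ∀ x, QuotientGroup.mk' (O.subgroupOf 𝐍(O)) (φ' x) = φ x := DFunLike.congr_fun e
  refine ⟨(𝐍(O)).subtype.comp φ', s₁, fun x => ?_, fun g => ?_, fun o k g => mem_cent.1 (c g) o k⟩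
  · refine DFunLike.congr_fun (ext_O h.perf (f := ((𝐍(O)).subtype.comp φ').comp (io s n)) (f' := ψ) (fun _ => c _) hc fun x => ?_) x
    have := QuotientGroup.eq.1 ((e' _).trans (d.ext x))
    exact this
  · have := ext_O LS.perfect (f := (MulAut.conj t).toMonoidHom.comp ((𝐍(O)).subtype.comp φ'))
      (f' := ((𝐍(O)).subtype.comp φ').comp (τ s n).toMonoidHom) (fun _ => mul_mem (mul_mem tc (c _)) (inv_mem tc)) (fun _ => c _) fun g => by
        have : QuotientGroup.mk' (O.subgroupOf 𝐍(O)) (⟨t, ht⟩ * φ' g * ⟨t, ht⟩) = QuotientGroup.mk' _ (φ' (τ s n g)) := by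
          rw [map_mul, map_mul, e', e', d.ct]
        have := QuotientGroup.eq.1 this
        change (t * _ * t⁻¹)⁻¹ * _ ∈ O
        rw [iv_inv s₁.t2]; exact this
    exact (congrArg (t * _ * ·) (iv_inv s₁.t2)).symm.trans (DFunLike.congr_fun this g)

end Cfsg.Lib.USt
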