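import Cfsg.Agent.Lib.USt.MA_a

/-!
# S3137/S3128: geometry of the model, part b: point stabilizers and the groups `W I`.  See `docs/UST.md`.
-/

set_option autoImplicit false
set_option linter.unusedSectionVars false

namespace Cfsg.Lib.USt

open Module Subgroup G2S Cfsg.Lib.BG Cfsg.Lib.GW GSt.SLa Cfsg.Lib.Unitary
open scoped commutatorElement Cfsg.Lib.Transfer

variable {F V : Type*} [Field F] [CharP F 2] [Finite F] [AddCommGroup V] [Module F V] [Finite V] {σ : F →+* F}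
  {B : V →ₛₗ[σ] V →ₗ[F] F} {e e' f f' g u v w e₁ f₁ : V} {a b c d γ : F} {x y : SUG B} {I : Submodule F V}

namespace Ok
variable (h : Ok B)
include h

/-- `eq_of_pow_char_pow`. -/
theorem two_fix {n : ℕ} (hx : x ^ 2 ^ n = 1) (k : x.1 e = a • e) : x.1 e = e :=
  eq_of_pow_char_pow 2 (g := x.1) (m := n) (congrArg Subtype.val hx) k

/-- `tv_conj`, compare the values at a partner `e'` of `e`. -/
theorem tv_eq (h0 : e ≠ 0) (he : B e e = 0) (hf : B f f = 0) (hc : σ c = c) (hd : σ d = d) (c0 : c ≠ 0) (k : tv B e c = tv B f d) :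
    ∃ a, a ≠ 0 ∧ f = a • e ∧ c = a * σ a * d := by
  obtain ⟨e', p⟩ := h.hy_ex h0 he
  have k1 := congrArg (fun x : SUG B => x.1 e') k
  simp only [h.tv_ap he hc, h.tv_ap hf hd, p.ef, mul_one, add_right_inj] at k1
  have n : d * B f e' ≠ 0 := fun z => by simp [z, c0, h0] at k1
  obtain ⟨a, a0, rfl⟩ : ∃ a : F, a ≠ 0 ∧ f = a • e :=
    ⟨c / (d * B f e'), div_ne_zero c0 n, by rw [div_eq_inv_mul, mul_smul, k1, inv_smul_smul₀ n]⟩
  rw [h.tv_smul he hd] at k
  exact ⟨a, a0, rfl, h.tv_inj h0 he hc (by rw [map_mul, h.nK, hd]) k⟩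

theorem cz (h0 : e ≠ 0) (he : B e e = 0) (hc : σ c = c) (c0 : c ≠ 0) (k : x * tv B e c = tv B e c * x) :
    ∃ a, a * σ a = 1 ∧ x.1 e = a • e := by
  obtain ⟨a, -, h1, h2⟩ := h.tv_eq h0 he (f := x.1 e) (by simp [he]) hc hc c0 (by rw [← h.tv_conj, k, mul_inv_cancel_right])
  exact ⟨a, mul_right_cancel₀ c0 (by rw [← h2, one_mul]), h1⟩

/-- `exists_transv_of_commute_QE`. -/
theorem zq (h0 : e ≠ 0) (he : B e e = 0) (hx : x ∈ Stab B e) (k : ∀ u ∈ Q B e, x * u = u * x) : ∃ c, σ c = c ∧ x = tv B e c := by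
  obtain ⟨c, hc, k'⟩ := h.herm.exists_transv_of_commute_QE h0 he x.2.1 hx fun g hg =>
    congrArg Subtype.val (k ⟨g, h.herm.QE_le_SUG h0 he hg⟩ hg)
  have hc' : σ c = c := (CharTwo.add_eq_zero.1 hc).symm
  exact ⟨c, hc', J_ext fun v => by rw [k', h.tv_ap he hc', transv_apply]⟩

theorem stab_tv (hx : x ∈ Stab B e) (c : F) : x * tv B e c = tv B e c * x := cjf.1 (by rw [h.tv_conj, hx])

theorem stab_center (h0 : e ≠ 0) (hx : x ∈ Stab B e) (k : x ∈ center (SUG B)) : x = 1 := by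
  obtain ⟨a, ha⟩ := (h.herm.mem_center_SUG (by have := h.d4; omega)).1 k
  obtain rfl : a = 1 := smul_left_injective F h0 (show a • e = (1 : F) • e by rw [← ha, one_smul, hx])
  exact J_ext fun v => by rw [ha, one_smul, one_ap]

/-- `conj_mem_QE`. -/
theorem Q_conj (k : x.1 e = a • e) (hy : y ∈ Q B e) : x * y * x⁻¹ ∈ Q B e := by
  by_cases ha : a = 0
  · obtain rfl : e = 0 := by simpa [ha] using k
    exact conj_mem_QE x.2.1 one_ne_zero (by simp) hy
  · exact conj_mem_QE x.2.1 ha k hy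

theorem Q_two (h0 : e ≠ 0) (he : B e e = 0) : IsPGroup 2 (Q B e) := (h.herm.isPGroup_QE 2 h0 he).comap_subtype

theorem tv_cm' (p : Va B e u γ) (p' : Va B e v d) : tv B e (bf B u v) = ⁅ei B e u γ, ei B e v d⁆ := by
  have k1 := h.stab_tv (Q_le (h.ei_mem_Q e u γ)) (bf B u v)
  have k2 := h.stab_tv (Q_le (h.ei_mem_Q e v d)) (bf B u v)
  rw [commutatorElement_def, h.ei_swap p p', mul_assoc (ei B e v d), k1, ← mul_assoc, k2]; group

/-- `Z = [Q, Q]` (`bf_onto`). -/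
theorem tv_cm (h0 : e ≠ 0) (he : B e e = 0) (hc : σ c = c) : ∃ u ∈ Q B e, ∃ v ∈ Q B e, tv B e c = ⁅u, v⁆ := by
  obtain ⟨f, p⟩ := h.ln_ex h0 he
  obtain ⟨w, h1, rfl⟩ := h.bf_onto he p.nm hc
  obtain ⟨γ, q⟩ := h.va_ex he h1
  exact ⟨_, h.ei_mem_Q .., _, h.ei_mem_Q .., h.tv_cm' (.zero he p.ff p.ef) q⟩

/-- The join of the conjugates of `P` under the stabilizer of the point is a normal `2`-subgroup of `Stab e`
(`IsPGroup` of a join of normal subgroups, or use `pCore`); `le_QE_of_normal`. -/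
theorem O2 (h0 : e ≠ 0) (he : B e e = 0) {P : Subgroup (Stab B e)} [P.Normal] (hP : IsPGroup 2 P) {x : Stab B e} (hx : x ∈ P) :
    x.1 ∈ Q B e := by
  refine h.herm.le_QE_of_normal 2 (by have := h.d4; omega) h0 he
    (S := ((pCore 2 (Stab B e)).map (Stab B e).subtype).map (SUG B).subtype) ((Core.pCoreOf_isPGroup 2 _).map _) ?_ ?_ ?_
    ⟨x.1, ⟨x, Core.le_pCore inferInstance hP hx, rfl⟩, rfl⟩
  · rintro _ ⟨s, -, rfl⟩; exact s.2.1
  · rintro _ ⟨_, ⟨s, -, rfl⟩, rfl⟩; exact ⟨1, by rw [one_smul]; exact s.2⟩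
  · rintro g hg ⟨a, ha⟩ _ ⟨s, hs, rfl⟩
    have a0 : a ≠ 0 := by rintro rfl; simp [h0] at ha
    lift g to SUG B using hg
    have hn : g ∈ normalizer (Stab B e : Set (SUG B)) := mem_normalizer_fintype fun n hn => by
      have : g.1 (a⁻¹ • e) = e := by rw [map_smul, ha, inv_smul_smul₀ a0]
      have hn' : n.1 e = e := hn
      refine mem_Stab.2 ?_
      rw [mul_ap, mul_ap, inv_eq_of this, map_smul, hn', this]
    exact mem_map_of_mem _ ((mem_normalizer_iff.1 (Core.normalizer_le_normalizer_pCoreOf 2 _ hn) s).1 hs)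

/-- `exists_levi` with `a = 1`. -/
theorem levi (p : Hy B e e') {T : hypPerp B e e' ≃ₗ[F] hypPerp B e e'}
    (hT : T ∈ SUG (B.domRestrict₁₂ (hypPerp B e e') (hypPerp B e e'))) :
    ∃ x : SUG B, x.1 e = e ∧ x.1 e' = e' ∧ ∀ w : hypPerp B e e', x.1 w = T w := by
  obtain ⟨l, h1, h2, h3, h4⟩ := h.herm.exists_levi p.ee p.ff p.ef hT.1 one_ne_zero (by rw [(mem_SUG'.1 hT).2]; simp)
  exact ⟨⟨l, h1⟩, by simpa using h2, by simpa using h3, h4⟩

/-- `Stab e = Q · Levi`: `exists_QE_apply` for `x e'`. -/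
theorem stab_dec (p : Hy B e e') (hx : x ∈ Stab B e) : ∃ u ∈ Q B e, ∃ y : SUG B, y.1 e = e ∧ y.1 e' = e' ∧ x = u * y := by
  obtain ⟨g, hg, k⟩ := h.herm.exists_QE_apply p.ee p.ff p.ef (u := x.1 e') (by simp [p.ff]) (by rw [← p.ef, ← iso x e e', hx])
  refine ⟨⟨g, h.herm.QE_le_SUG p.ne p.ee hg⟩, hg, _, ?_, ?_, (mul_inv_cancel_left _ x).symm⟩
  · rw [mul_ap, hx]; exact inv_eq_of hg.2.1
  · exact inv_eq_of k

omit [CharP F 2] [Finite F] [Finite V] in
theorem hy_ext (p : Hy B e e') (h1 : x.1 e = y.1 e) (h2 : x.1 e' = y.1 e') (k : ∀ w, B e w = 0 → B e' w = 0 → x.1 w = y.1 w) :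
    x = y := J_ext fun v => by
  obtain ⟨w, k1, k2, k3⟩ := h.herm.hyp_decomp p.ee p.ff p.ef v
  rw [k3]; simp only [map_add, map_smul, h1, h2, k w k1 k2]

/-- The restriction to `hypPerp` of an element fixing `e`, `e'`. -/
theorem levi' (p : Hy B e e') (h1 : y.1 e = e) (h2 : y.1 e' = e') :
    ∃ T ∈ SUG (B.domRestrict₁₂ (hypPerp B e e') (hypPerp B e e')), ∀ w : hypPerp B e e', y.1 w = T w := by
  have d := h.herm.disjoint_hypPerp p.ee p.ef
  let z : ↥(UG B ⊓ fixStab (Submodule.span F {e, e'})) := ⟨y.1, y.2.1, mem_fixStab_span.2 (by simp [h1, h2])⟩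
  exact ⟨h.herm.fixEquiv d z, ⟨(h.herm.fixEquiv d z).2, (h.herm.det_fixEquiv d z).trans y.2.2⟩, fun w => rfl⟩

/-- `Stab e` is generated by `Q e` and the transvections fixing `e`, `e'`: `stab_dec`, `TG_eq_SUG` for `hypPerp`
(dimension `m - 2 ≠ 3`). -/
theorem stab_gen (p : Hy B e e') {N : Subgroup (SUG B)} (hQ : Q B e ≤ N)
    (ht : ∀ f c, B f f = 0 → B e f = 0 → B e' f = 0 → σ c = c → tv B f c ∈ N) : Stab B e ≤ N := fun x hx => by
  obtain ⟨u, hu, y, h1, h2, rfl⟩ := h.stab_dec p hx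
  obtain ⟨T, hT, k⟩ := h.levi' p h1 h2
  obtain ⟨n, -, hq⟩ := h.bar
  rw [← (h.herm.isHerm_hypPerp p.ee p.ef).TG_eq_SUG hq (by
    have := h.herm.finrank_hypPerp p.ee p.ef; have := h.d5; omega)] at hT
  let N' : Subgroup (hypPerp B e e' ≃ₗ[F] hypPerp B e e') :=
    { carrier := {T | ∃ y ∈ N, y.1 e = e ∧ y.1 e' = e' ∧ ∀ w : hypPerp B e e', y.1 w = T w}
      mul_mem' := by
        rintro S T ⟨y, a, b, c, d⟩ ⟨z, a', b', c', d'⟩
        exact ⟨y * z, mul_mem a a', by rw [mul_ap, b', b], by rw [mul_ap, c', c], fun w => by rw [mul_ap, d', d]; rfl⟩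
      one_mem' := ⟨1, one_mem _, rfl, rfl, fun _ => rfl⟩
      inv_mem' := by
        rintro T ⟨y, a, b, c, d⟩
        exact ⟨y⁻¹, inv_mem a, inv_eq_of b, inv_eq_of c, fun w => inv_eq_of (by rw [d]; simp)⟩ }
  obtain ⟨z, a, b, c, d⟩ := TG_le (N := N') (fun f c hf hc => by
    have hc' : σ c = c := (CharTwo.add_eq_zero.1 hc).symm
    obtain ⟨k1, k2⟩ := mem_hypPerp.1 f.2
    exact ⟨tv B f c, ht f c hf k1 k2 hc', h.tv_fix (h.cm k1) c, h.tv_fix (h.cm k2) c, fun w => h.tv_ap hf hc' w⟩) hT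
  obtain rfl : y = z := h.hy_ext p (by rw [h1, b]) (by rw [h2, c]) fun w k1 k2 =>
    (k ⟨w, mem_hypPerp.2 ⟨k1, k2⟩⟩).trans (d ⟨w, _⟩).symm
  exact mul_mem (hQ hu) a

theorem top_of_TG {N : Subgroup (SUG B)} (k : TG B ≤ N.map (SUG B).subtype) : N = ⊤ := eq_top_iff.2 fun x _ => by
  obtain ⟨n, -, hq⟩ := h.bar
  obtain ⟨y, hy, e⟩ := k ((h.herm.TG_eq_SUG hq (by have := h.d4; omega)).ge x.2)
  obtain rfl : y = x := Subtype.ext e
  exact hy

/-- `TG_eq_SUG`. -/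
theorem gen_tv {N : Subgroup (SUG B)} (ht : ∀ f c, B f f = 0 → σ c = c → tv B f c ∈ N) : N = ⊤ :=
  h.top_of_TG (TG_le fun f c hf hc =>
    have hc' : σ c = c := (CharTwo.add_eq_zero.1 hc).symm
    ⟨_, ht f c hf hc', LinearEquiv.ext (h.tv_ap hf hc')⟩)

/-- `TG_le_of_QE`, `PtRel` through `e + e'` (`ptRel_QE`). -/
theorem gen_QQ (p : Hy B e e') {N : Subgroup (SUG B)} (h1 : Q B e ≤ N) (h2 : Q B e' ≤ N) : N = ⊤ := by
  have q := h.hy_symm p
  have k1 : QE B e ≤ N.map (SUG B).subtype := fun g hg => ⟨⟨g, h.herm.QE_le_SUG p.ne p.ee hg⟩, h1 hg, rfl⟩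
  have k2 : QE B e' ≤ N.map (SUG B).subtype := fun g hg => ⟨⟨g, h.herm.QE_le_SUG q.ne q.ee hg⟩, h2 hg, rfl⟩
  have u : B (e + e') (e + e') = 0 := by simp [p.ee, p.ff, p.ef, q.ef, aa]
  refine h.top_of_TG (h.herm.TG_le_of_QE p.ee p.ff (by simp [p.ef]) ((map_subtype_le _).trans SUG_le_UG) k1 ?_)
  exact ((h.herm.ptRel_QE p.ff p.ee u (by simp [q.ef]) (by simp [q.ef, p.ff])).mono k2).trans
    ((h.herm.ptRel_QE p.ee u p.ff (by simp [p.ef, p.ee]) (by simp [p.ef])).mono k1)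

omit [Finite F] [Finite V] in
/-- `(x - 1) I^⊥ = 0` since `B (x v - v) w = B (x v) (w - x w)`. -/
theorem W_fix (hx : x ∈ W B I) (hv : v ∈ perp B I) : x.1 v = v := sub_eq_zero.1 (h.herm.nondeg_right _ fun u => by
  have := hv _ (hx ((x⁻¹).1 u))
  rw [map_sub, iso_r]
  simp only [map_sub, LinearMap.sub_apply, inv_ap] at this
  linear_combination - this)

theorem W_of_fix (k : ∀ v ∈ perp B I, x.1 v = v) : x ∈ W B I := fun w => by
  rw [← h.herm.perp_perp I]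
  exact fun v hv => by rw [map_sub, ← iso x v w, k v hv, sub_self]

omit [Finite F] [Finite V] in
theorem W_el (hI : Ti B I) : El (W B I) := fun x hx => J_ext fun v => by
  have := h.W_fix hx (hI (hx v))
  rw [map_sub] at this
  rw [mul_ap, one_ap]
  linear_combination (norm := module) this + vv F (x.1 v) - vv F v

omit [Finite F] [Finite V] in
theorem W_le (hI : Ti B I) : W B I ≤ Fix B I := fun _ hx => mem_Fix.2 fun _ hv => h.W_fix hx (hI hv)

/-- `x` is trivial on `I` and on `V / I^⊥`. -/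
theorem Fix_W (hx : x ∈ Fix B I) (hy : y ∈ W B I) : x * y = y * x := J_ext fun v => by
  have k1 := mem_Fix.1 hx _ (hy v)
  have k2 := h.W_fix hy (v := x.1 v - v) fun i hi => by rw [map_sub, ← iso x i v, mem_Fix.1 hx i hi, sub_self]
  rw [map_sub] at k1 k2
  rw [mul_ap, mul_ap]
  linear_combination (norm := module) k1 - k2

omit [Finite F] in
theorem ei_W (he : e ∈ I) (hw : w ∈ I) (γ : F) : ei B e w γ ∈ W B I := by
  by_cases p : Va B e w γ
  · intro v
    rw [h.ei_ap p, add_assoc, add_assoc, add_sub_cancel_left]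
    exact add_mem (I.smul_mem _ hw) (add_mem (I.smul_mem _ he) (I.smul_mem _ he))
  · exact ei_junk p ▸ one_mem _

omit [Finite F] in
theorem tv_W (hv : v ∈ I) (c : F) : tv B v c ∈ W B I := h.ei_W hv I.zero_mem c

/-- `exists_eq_of_range_le`, `exists_eq_transv`. -/
theorem mem_We (he : B e e = 0) : x ∈ W B (F ∙ e) ↔ ∃ c, σ c = c ∧ x = tv B e c := by
  refine ⟨fun hx => ?_, by rintro ⟨c, -, rfl⟩; exact h.tv_W (Submodule.mem_span_singleton_self e) c⟩
  obtain ⟨c, k⟩ := h.herm.exists_eq_of_range_le x.2.1 (mem_W'.1 hx)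
  obtain ⟨c, hc, k'⟩ := h.herm.exists_eq_transv x.2.1 he k
  have hc' : σ c = c := (CharTwo.add_eq_zero.1 hc).symm
  exact ⟨c, hc', J_ext fun v => by rw [k', h.tv_ap he hc', transv_apply]⟩

omit [Finite F] [Finite V] in
theorem ln_ti (p : Ln B e f) : Ti B (Submodule.span F {e, f}) ∧ finrank F (Submodule.span F {e, f}) = 2 :=
  ⟨Submodule.span_le.2 fun v hv => mem_perp_span.2 (by rcases hv with rfl | rfl <;> simp [p.ee, p.ff, p.ef, h.cm p.ef]),
    finrank_span_pair_of_linearIndependent p.li⟩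

omit [Finite F] [Finite V] in
theorem pl_ti (p : Pl B e f g) : Ti B (Submodule.span F {e, f, g}) ∧ finrank F (Submodule.span F {e, f, g}) = 3 := by
  refine ⟨Submodule.span_le.2 fun v hv => mem_perp_span.2 (by
    rcases hv with rfl | rfl | rfl <;> simp [p.ee, p.ff, p.ef, h.cm p.ef, p.gg, p.eg, p.fg, h.cm p.eg, h.cm p.fg]), ?_⟩
  rw [show ({e, f, g} : Set V) = Set.range ![e, f, g] by ext; simp; tauto, finrank_span_eq_card p.li, Fintype.card_fin]

omit [Finite F] in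
theorem Wl_ap (p : Fr B e e' f f') {α β α' : F} (h1 : σ α = α) (h2 : σ α' = α') :
    (ei B e (β • f) α * tv B f α').1 e' = e' + (α • e + β • f) ∧ (ei B e (β • f) α * tv B f α').1 f' = f' + (σ β • e + α' • f) := by
  have q : Va B e (β • f) α := ⟨p.he.ee, by simp [p.ef], by simp [h1, aa, p.hf.ee]⟩
  constructor <;> simp only [mul_ap, h.tv_ap p.hf.ee h2, h.ei_ap q, map_add, map_smul, LinearMap.map_smulₛₗ, LinearMap.smul_apply,
    smul_eq_mul, h.fr_all p] <;> module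

/-- In a frame `x e' = e' + α e + β f`, `x f' = f' + σ β e + α' f`. -/
theorem mem_Wl (p : Ln B e f) : x ∈ W B (Submodule.span F {e, f}) ↔
    ∃ α β α' : F, σ α = α ∧ σ α' = α' ∧ x = ei B e (β • f) α * tv B f α' := by
  have m1 : e ∈ Submodule.span F {e, f} := Submodule.subset_span (by simp)
  have m2 : f ∈ Submodule.span F {e, f} := Submodule.subset_span (by simp)
  have m := fun α β α' : F => mul_mem (h.ei_W m1 (Submodule.smul_mem _ β m2) α) (h.tv_W m2 α')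
  refine ⟨fun hx => ?_, by rintro ⟨α, β, α', -, -, rfl⟩; exact m α β α'⟩
  obtain ⟨e', f', q⟩ := h.fr_ex p
  obtain ⟨α, β, k1⟩ := Submodule.mem_span_pair.1 (hx e')
  obtain ⟨β', α', k2⟩ := Submodule.mem_span_pair.1 (hx f')
  rw [eq_sub_iff_add_eq'] at k1 k2
  have a1 := iso x e' e'
  have a2 := iso x f' f'
  have a3 := iso x e' f'
  simp [← k1, ← k2, h.fr_all q] at a1 a2 a3
  have s1 : σ α = α := (CharTwo.add_eq_zero.1 a1).symm
  have s2 : σ α' = α' := (CharTwo.add_eq_zero.1 a2).symm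
  obtain rfl : β' = σ β := CharTwo.add_eq_zero.1 a3
  refine ⟨α, β, α', s1, s2, J_ext fun v => ?_⟩
  have hv : v - B e v • e' - B f v • f' ∈ perp B (Submodule.span F {e, f}) := mem_perp_span.2 (by simp [h.fr_all q])
  have b1 := h.W_fix hx hv
  have b2 := h.W_fix (m α β α') hv
  simp only [map_sub, map_smul, h.Wl_ap q s1 s2, ← k1, ← k2] at b1 b2
  linear_combination (norm := module) b1 - b2

theorem Wl_inj (p : Ln B e f) {α β α' δ ε δ' : F} (h1 : σ α = α) (h2 : σ α' = α') (h3 : σ δ = δ) (h4 : σ δ' = δ')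
    (k : ei B e (β • f) α * tv B f α' = ei B e (ε • f) δ * tv B f δ') : α = δ ∧ β = ε ∧ α' = δ' := by
  obtain ⟨e', f', q⟩ := h.fr_ex p
  obtain ⟨a1, a2⟩ := h.Wl_ap q (β := β) h1 h2
  obtain ⟨b1, b2⟩ := h.Wl_ap q (β := ε) h3 h4
  rw [k] at a1 a2
  have c1 := p.indep (a := α - δ) (b := β - ε) (by linear_combination (norm := module) b1 - a1)
  have c2 := p.indep (a := σ β - σ ε) (b := α' - δ') (by linear_combination (norm := module) b2 - a2)
  exact ⟨sub_eq_zero.1 c1.1, sub_eq_zero.1 c1.2, sub_eq_zero.1 c2.2⟩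

omit [Finite F] in
theorem Wl_mul (p : Ln B e f) {α β α' δ ε δ' : F} (h1 : σ α = α) (h2 : σ α' = α') (h3 : σ δ = δ) (h4 : σ δ' = δ') :
    ei B e (β • f) α * tv B f α' * (ei B e (ε • f) δ * tv B f δ') = ei B e ((β + ε) • f) (α + δ) * tv B f (α' + δ') := by
  have q : Va B e (β • f) α := ⟨p.ee, by simp [p.ef], by simp [h1, aa, p.ff]⟩
  have q' : Va B e (ε • f) δ := ⟨p.ee, by simp [p.ef], by simp [h3, aa, p.ff]⟩
  have c : tv B f α' * ei B e (ε • f) δ = ei B e (ε • f) δ * tv B f α' :=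
    cjf.1 (by rw [h.ei_conj, h.tv_fix (h.cm p.ef), h.tv_fix (by simp [p.ff])])
  rw [mul_assoc, ← mul_assoc (tv B f α'), c, mul_assoc, ← mul_assoc, h.ei_mul q q', h.tv_add p.ff h2 h4, add_smul]
  simp [p.ff]

omit [Finite F] in
theorem tv_ln (he : B e e = 0) (hf : B f f = 0) (hef : B e f = 0) (hc : σ c = c) (a b : F) :
    tv B (a • e + b • f) c = ei B e ((σ a * b * c) • f) (a * σ a * c) * tv B f (b * σ b * c) := J_ext fun v => by
  have q : Va B e ((σ a * b * c) • f) (a * σ a * c) := ⟨he, by simp [hef], by rw [map_mul, h.nK, hc, aa]; simp [hf]⟩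
  simp only [mul_ap, h.tv_ap (show B (a • e + b • f) (a • e + b • f) = 0 by simp [he, hf, hef, h.cm hef]) hc,
    h.tv_ap hf (show σ (b * σ b * c) = _ by rw [map_mul, h.nK, hc]), h.ei_ap q, map_add, map_smul, LinearMap.map_smulₛₗ,
    LinearMap.add_apply, LinearMap.smul_apply, smul_eq_mul, hef, hf, map_mul, h.ss, hc]
  module

omit [Finite F] [Finite V] in
/-- `B (x u - u) (x v - v) = 0` as `x⁻¹ = x`. -/
theorem rg_ti (hx : x * x = 1) : Ti B (rg B x) := by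
  rintro _ ⟨v, rfl⟩ _ ⟨u, rfl⟩
  have k : B (x.1 u) v = B u (x.1 v) := by rw [← iso x, ← mul_ap, hx, one_ap]
  rw [dev_apply, dev_apply]
  simp only [map_sub, LinearMap.sub_apply, iso, k]
  linear_combination aa (B u v) - aa (B u (x.1 v))

theorem rk_tv (h0 : e ≠ 0) (he : B e e = 0) (hc : σ c = c) (c0 : c ≠ 0) : rg B (tv B e c) = F ∙ e ∧ rk B (tv B e c) = 1 :=
  have k : rg B (tv B e c) = F ∙ e := h.herm.range_dev_eq c0 (h.tv_ap he hc)
  ⟨k, by rw [rk, k, finrank_span_singleton h0]⟩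

/-- `exists_transv_of_rank_one`, `tv_smul`, `nrm`. -/
theorem rk_one (k : rk B x = 1) : ∃ e, e ≠ 0 ∧ B e e = 0 ∧ x = tv B e 1 := by
  obtain ⟨u, c, hu, hc, u0, c0, k'⟩ := h.herm.exists_transv_of_rank_one x.2 k
  have hc' : σ c = c := (CharTwo.add_eq_zero.1 hc).symm
  obtain ⟨a, rfl⟩ := h.nrm hc'
  refine ⟨a • u, smul_ne_zero (left_ne_zero_of_mul c0) u0, by simp [hu], ?_⟩
  rw [h.tv_smul hu (map_one σ), mul_one]
  exact J_ext fun v => by rw [k', h.tv_ap hu hc', transv_apply]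

end Ok

end Cfsg.Lib.USt
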