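import Cfsg.Agent.Lib.USt.MSa

/-!
# S3137/S3128: the Sylow `2`-subgroup `U` of `SU`, and the instance of `SM`.  See `docs/UST.md`.
`m = n + 3`, `k = m / 2`, `e₀ = ε ⊥`, `e₀' = ε ⊤`, `e₁ = ε 1`, `V₀ = hypPerp e₀ e₀' ≅ Q / Z`, `Q = Q e₀ ≤ U`, `Z = {tv e₀ c}`.
`Fl r` = the vectors supported on the indices `< r`; `(Fl r)^⊥ = Fl (m - r)`.
-/

set_option autoImplicit false

noncomputable section

namespace Cfsg.Lib.USt

open Module Matrix Subgroup G2S Cfsg.Lib.BG Cfsg.Lib.GW GSt.SLa Cfsg.Lib.Unitary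
open scoped commutatorElement Cfsg.Lib.Transfer

variable {F : Type*} [Field F] [CharP F 2] [Finite F] {n q : ℕ} {s θ : RingAut F} {x y : SUG (BD s n)} {i : LS.I n} {w : VV n F} {c γ : F}

omit [CharP F 2] [Finite F] in
theorem mem_Fl {r : ℕ} : w ∈ Fl F n r ↔ ∀ j : LS.I n, r ≤ j.1 → w j = 0 := Iff.rfl

omit [CharP F 2] [Finite F] in
theorem ε_ne' {i j : LS.I n} (k : j.1 ≠ i.1) : ε F i j = 0 := by rw [ε_apply, if_neg fun e => k (congrArg _ e)]

omit [CharP F 2] [Finite F] in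
theorem ε_eq' {i j : LS.I n} (k : j.1 = i.1) : ε F i j = 1 := by rw [ε_apply, if_pos (Fin.ext k)]

omit [Finite F] in
theorem mem_der {u : US s n} : u ∈ commutator (US s n) ↔ u.1 ∈ ⁅US s n, US s n⁆ := by
  rw [← map_subtype_commutator]; exact (mem_map_iff_mem Subtype.val_injective).symm

omit [Finite F] in
theorem US_co (hx : x ∈ US s n) {j : LS.I n} (hw : w ∈ Fl F n (j + 1)) : x.1 w j = w j := sub_eq_zero.1 (mem_US'.1 hx _ _ hw j le_rfl)

omit [Finite F] in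
theorem US_lo (hx : x ∈ US s n) {a b : LS.I n} (k : b.1 < a.1) : x.1 (ε F b) a = 0 := by
  simpa [ε_ne' k.ne'] using mem_US.1 hx b a k.le

omit [Finite F] in
theorem US_dg (hx : x ∈ US s n) (a : LS.I n) : x.1 (ε F a) a = 1 := by
  simpa [sub_eq_zero, ε_apply] using mem_US.1 hx a a le_rfl

omit [CharP F 2] [Finite F] in
theorem ent_mul (x y : SUG (BD s n)) (a b : LS.I n) : (x * y).1 (ε F b) a = ∑ k, x.1 (ε F k) a * y.1 (ε F b) k := by
  conv_lhs => rw [mul_ap, ← sum_ε (y.1 (ε F b)), map_sum]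
  simp [mul_comm]

omit [Finite F] in
/-- The superdiagonal is additive. -/
theorem sd_mul (hx : x ∈ US s n) (hy : y ∈ US s n) {a b : LS.I n} (k : a.1 + 1 = b.1) :
    (x * y).1 (ε F b) a = x.1 (ε F b) a + y.1 (ε F b) a := by
  rw [ent_mul, Fintype.sum_eq_add b a (fun e => by rw [e] at k; omega), US_dg hx, US_dg hy, mul_one, one_mul]
  rintro j ⟨p, p'⟩
  rw [ne_eq, Fin.ext_iff] at p p'
  rcases lt_or_gt_of_ne p' with z | z
  · rw [US_lo hx z, zero_mul]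
  · rw [US_lo hy (by omega), mul_zero]

omit [Finite F] in
theorem sd_mul2 (hx : x ∈ US s n) (hy : y ∈ US s n) {a b c : LS.I n} (k : a.1 + 1 = b.1) (k' : b.1 + 1 = c.1) :
    (x * y).1 (ε F c) a = x.1 (ε F c) a + y.1 (ε F c) a + x.1 (ε F b) a * y.1 (ε F c) b := by
  rw [ent_mul, ← Finset.add_sum_erase _ _ (Finset.mem_univ b), add_comm, Finset.sum_eq_add c a (fun e => by rw [e] at k'; omega),
    US_dg hx, US_dg hy, mul_one, one_mul]
  · intro j p ⟨p1, p2⟩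
    have p := (Finset.mem_erase.1 p).1
    rw [ne_eq, Fin.ext_iff] at p p1 p2
    rcases lt_or_gt_of_ne p2 with z | z
    · rw [US_lo hx z, zero_mul]
    · rw [US_lo hy (by omega), mul_zero]
  · exact fun p => (p (by simp [Fin.ext_iff]; omega)).elim
  · exact fun p => (p (by simp [Fin.ext_iff]; omega)).elim

omit [Finite F] in
theorem sd_comm (hx : x ∈ US s n) (hy : y ∈ US s n) {a b c : LS.I n} (k : a.1 + 1 = b.1) (k' : b.1 + 1 = c.1) (e : x * y = y * x) :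
    x.1 (ε F b) a * y.1 (ε F c) b = y.1 (ε F b) a * x.1 (ε F c) b := by
  have := sd_mul2 hx hy k k'
  rw [e, sd_mul2 hy hx k k'] at this
  linear_combination -this

omit [Finite F] in
theorem sd_der (hx : x ∈ ⁅US s n, US s n⁆) {a b : LS.I n} (k : a.1 + 1 = b.1) : x.1 (ε F b) a = 0 := by
  let f : US s n →* Multiplicative F := MonoidHom.mk' (fun u => .ofAdd (u.1.1 (ε F b) a)) fun u v => sd_mul u.2 v.2 k
  exact Abelianization.commutator_subset_ker f (mem_der (u := ⟨x, commutator_le_self _ hx⟩).2 hx)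

omit [CharP F 2] [Finite F] in
theorem det0 {p₁ p₂ a₁ a₂ b₁ b₂ : F} (h : p₁ = 0 → p₂ ≠ 0) (ha : a₁ * p₂ = p₁ * a₂) (hb : b₁ * p₂ = p₁ * b₂) : a₁ * b₂ = b₁ * a₂ := by
  by_cases z : p₁ = 0
  · exact mul_left_cancel₀ (h z) (by rw [z] at ha hb; linear_combination b₂ * ha - a₂ * hb)
  · exact mul_left_cancel₀ z (by linear_combination b₁ * ha - a₁ * hb)

namespace Ok
variable (h : Ok (BD s n))
include h

omit [CharP F 2] [Finite F] in
theorem n_pos : 1 ≤ n := by have := h.d4; rw [finrank_VV] at this; omega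

omit [CharP F 2] [Finite F] h in
theorem εε (hi : i < i.rev) : BD s n (ε F i) (ε F i) = 0 := by rw [BD_εε, if_neg hi.ne']

theorem va_ε (hi : i < i.rev) (hw : w i.rev = 0) : ∃ γ, Va (BD s n) (ε F i) w γ := h.va_ex (εε hi) (by rwa [BD_ε])

theorem ei_ε (p : Va (BD s n) (ε F i) w γ) (b a : LS.I n) : (ei (BD s n) (ε F i) w γ).1 (ε F b) a =
    ε F b a + ε F b i.rev * w a + s (w b.rev) * ε F i a + γ * ε F b i.rev * ε F i a := by
  simp only [h.ei_ap p, BD_ε, BD_ε' w, Pi.add_apply, Pi.smul_apply, smul_eq_mul]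

/-- `tv (ε i) c` is a commutator of two `ei (ε i) w _` if `i + 1 < rev i`. -/
theorem tv_der (hi : i.1 + 1 < i.rev.1) (hc : s c = c) : tv (BD s n) (ε F i) c ∈ ⁅US s n, US s n⁆ := by
  have hi' : i < i.rev := Fin.lt_def.2 (by omega)
  obtain ⟨a, ha⟩ := h.herm.exists_trace_eq (show (s : F →+* F) c = c from hc)
  obtain ⟨j, hj⟩ : ∃ j : LS.I n, j.1 = i.1 + 1 := ⟨⟨i.1 + 1, hi.trans i.rev.2⟩, rfl⟩
  have r1 := Fin.val_rev i
  have r2 := Fin.val_rev j
  obtain ⟨γ, p⟩ := h.va_ε (w := ε F j) hi' (ε_ne' (by omega))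
  obtain ⟨δ, p'⟩ := h.va_ε (w := a • ε F j.rev) hi' (by simp [ε_ne' (show i.rev.1 ≠ j.rev.1 by omega)])
  have := h.tv_cm' p p'
  rw [h.bf_eq, BD_ε, Pi.smul_apply, ε_eq' rfl, smul_eq_mul, mul_one, ha] at this
  exact this ▸ commutator_mem_commutator (h.ei_US hi' (fun k (z : k.1 ≤ i.1 ∨ i.rev.1 ≤ k.1) => ε_ne' (by omega)) _)
    (h.ei_US hi' (fun k (z : k.1 ≤ i.1 ∨ i.rev.1 ≤ k.1) => by simp [ε_ne' (show k.1 ≠ j.rev.1 by omega)]) _)

theorem ei_any (hi : i.1 + 1 < i.rev.1) (p : Va (BD s n) (ε F i) w γ) (k : ei (BD s n) (ε F i) w γ ∈ ⁅US s n, US s n⁆) (δ : F) :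
    ei (BD s n) (ε F i) w δ ∈ ⁅US s n, US s n⁆ := by
  by_cases p' : Va (BD s n) (ε F i) w δ
  · have hc : (s : F →+* F) (γ + δ) = γ + δ := by rw [map_add]; linear_combination p.tr - p'.tr + aa ((s : F →+* F) δ) - aa γ
    have := mul_mem k (h.tv_der hi hc)
    rwa [h.ei_tv p hc, ← add_assoc, aa, zero_add] at this
  · exact ei_junk p' ▸ one_mem _

theorem ei_cm (hi : i.1 + 1 < i.rev.1) (hx : x ∈ US s n) (k : x.1 (ε F i) = ε F i) (hw : ∀ j, j ≤ i ∨ i.rev ≤ j → w j = 0) (δ : F) :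
    ei (BD s n) (ε F i) (x.1 w + w) δ ∈ ⁅US s n, US s n⁆ := by
  have hi' : i < i.rev := Fin.lt_def.2 (by omega)
  obtain ⟨γ, p⟩ := h.va_ε hi' (hw _ (.inr le_rfl))
  have p' := p.map x
  rw [k] at p'
  have := commutator_mem_commutator hx (h.ei_US hi' hw γ)
  rw [commutatorElement_def, h.ei_conj, k, h.ei_inv p, h.ei_mul p' (h.va_inv p)] at this
  exact h.ei_any hi (h.va_mul p' (h.va_inv p)) this δ

/-- If `w (rev i - 1) = 0`: `w` is a sum of vectors `(x - 1) (a ε (rev (i + 1)))`, `x = ei (ε (i + 1)) w'' γ` or `tv (ε (i + 1)) 1`,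
and `⁅x, ei (ε i) w' _⁆` has the class `x w' + w'`; `tv_der`.  (If `i + 1 = rev (i + 1)` then `w = 0`.) -/
theorem ei_der (hi : i.1 + 1 < i.rev.1) (hw : ∀ j : LS.I n, j ≤ i ∨ i.rev.1 ≤ j.1 + 1 → w j = 0) (γ : F) :
    ei (BD s n) (ε F i) w γ ∈ ⁅US s n, US s n⁆ := by
  have hi' : i < i.rev := Fin.lt_def.2 (by omega)
  change ∀ j : LS.I n, j.1 ≤ i.1 ∨ i.rev.1 ≤ j.1 + 1 → w j = 0 at hw
  obtain ⟨j, hj⟩ : ∃ j : LS.I n, j.1 = i.1 + 1 := ⟨⟨i.1 + 1, hi.trans i.rev.2⟩, rfl⟩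
  have r1 := Fin.val_rev i
  have r2 := Fin.val_rev j
  by_cases e : i.1 + 2 = i.rev.1
  · obtain rfl : w = 0 := funext fun k => hw k (by omega)
    exact h.ei_any hi (.zero (εε hi') (by simp) (by simp)) (h.ei_zero _ ▸ one_mem _) γ
  have hj' : j < j.rev := Fin.lt_def.2 (by omega)
  have hw' : ∀ k : LS.I n, k.1 ≤ j.1 ∨ j.rev.1 ≤ k.1 → (w + w j • ε F j) k = 0 := fun k z => by
    by_cases e : k.1 = j.1
    · simp [Fin.ext e, ε_apply, aa]
    · simp [ε_ne' e, hw k (by omega)]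
  have hu : ∀ (a : F) (k : LS.I n), k.1 ≤ i.1 ∨ i.rev.1 ≤ k.1 → (a • ε F j.rev) k = 0 := fun a k z => by simp [ε_ne' (show k.1 ≠ j.rev.1 by omega)]
  obtain ⟨δ, p⟩ := h.va_ε hj' (hw' _ (.inr le_rfl))
  have b0 : BD s n (ε F j) (ε F i) = 0 := by rw [BD_ε, ε_ne' (by omega)]
  have k1 := h.ei_cm hi (h.ei_US hj' hw' δ) (h.ei_fix p b0 (by rw [BD_ε', hw' _ (by omega), map_zero])) (hu 1)
  have k2 := h.ei_cm hi (h.ei_US hj' (w := 0) (fun _ _ => rfl) 1) (h.tv_fix b0 1) (hu (w j + δ))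
  rw [h.ei_ap p] at k1
  rw [h.ei_ap (.tv (εε hj') (map_one s))] at k2
  simp only [BD_ε, BD_ε' (w + _), map_smul, Pi.smul_apply, ε_eq' rfl, Fin.rev_rev, hw' j (.inl le_rfl), map_zero, smul_eq_mul, mul_one,
    LinearMap.zero_apply, smul_zero, add_zero, zero_smul, one_smul, one_mul, mul_zero] at k1 k2
  rw [add_right_comm, add_right_comm (ε F j.rev), vv F, zero_add] at k1
  rw [add_right_comm, vv F, zero_add] at k2
  obtain ⟨a, q1⟩ := h.va_ε (w := w + w j • ε F j + δ • ε F j) hi' (by simp [hw i.rev (by omega), ε_ne' (show i.rev.1 ≠ j.1 by omega)])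
  obtain ⟨b, q2⟩ := h.va_ε (w := (w j + δ) • ε F j) hi' (by simp [ε_ne' (show i.rev.1 ≠ j.1 by omega)])
  have := mul_mem (k1 a) (k2 b)
  have q := h.va_mul q1 q2
  rw [h.ei_mul q1 q2] at this
  rw [add_assoc w, ← add_smul, add_assoc w, vv F, add_zero] at this q
  exact h.ei_any hi q this γ

/-- `US_gen` in `U / U'`; `ei_sq`, `tv_der`. -/
theorem sqc (u : US s n) : u * u ∈ commutator (US s n) := by
  let N := (((powMonoidHom 2).comp (Abelianization.of (G := US s n))).ker).map (US s n).subtype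
  have m : ∀ u : US s n, u.1 ∈ N ↔ u * u ∈ commutator (US s n) := fun u => by
    rw [← Abelianization.ker_of, MonoidHom.mem_ker, ← sq, map_pow]; exact mem_map_iff_mem Subtype.val_injective
  refine (m u).1 (h.US_gen (fun i w γ hi hw p => (m ⟨_, h.ei_US hi hw γ⟩).2 (mem_der.2 ?_)) u.2)
  rw [MulMemClass.coe_mul, h.ei_sq p]
  by_cases e : i.1 + 1 < i.rev.1
  · exact h.tv_der e (h.herm.self_fixed w)
  · obtain rfl : w = 0 := funext fun k => hw k (show k.1 ≤ i.1 ∨ i.rev.1 ≤ k.1 by omega)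
    simp [h.tv_zero]

/-- `x` centralizes `ei e₀ w _`, `w ∈ V₀ ∩ e₁^⊥` (`ei_der`): `x w = w + c(w) e₀`, `Tr c(w) = 0` for all `w`, so `c = 0`; `W_of_fix`. -/
theorem cen_der {u : US s n} (hu : u ∈ 𝐂(commutator (US s n))) : u.1 ∈ W (BD s n) (Fl F n 2) := by
  have r1 := Fin.val_rev (⊥ : LS.I n)
  have r0 : (⊥ : LS.I n).1 = 0 := rfl
  have hi : (⊥ : LS.I n) < Fin.rev ⊥ := Fin.lt_def.2 (by omega)
  have s0 : u.1.1 (ε F ⊥) = ε F ⊥ := h.US_stab u.2
  have k : ∀ w : VV n F, (∀ j : LS.I n, j.1 ≤ 0 ∨ (Fin.rev (⊥ : LS.I n)).1 ≤ j.1 + 1 → w j = 0) →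
      ∃ a, u.1.1 w = w + a • ε F ⊥ ∧ a + s a = 0 := fun w hw => by
    obtain ⟨γ, p⟩ := h.va_ε hi (hw _ (by omega))
    have p' := p.map u.1
    have := congrArg Subtype.val (hu ⟨_, h.ei_US hi (fun j (z : j.1 ≤ 0 ∨ (Fin.rev (⊥ : LS.I n)).1 ≤ j.1) => hw j (by omega)) γ⟩ (mem_der.2 (h.ei_der (by omega) hw γ)))
    rw [MulMemClass.coe_mul, MulMemClass.coe_mul, ← mul_inv_eq_iff_eq_mul.trans eq_comm, eq_comm, h.ei_conj, s0] at this
    rw [s0] at p'
    obtain ⟨a, e1, e2⟩ := h.ei_inj (ε_ne _) p p' this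
    exact ⟨a, e1, left_eq_add.1 e2⟩
  refine h.W_of_fix fun v hv => ?_
  rw [Fl_perp (by omega)] at hv
  have hw : ∀ j : LS.I n, j.1 ≤ 0 ∨ (Fin.rev (⊥ : LS.I n)).1 ≤ j.1 + 1 → (v + v ⊥ • ε F ⊥ : VV n F) j = 0 := fun j z => by
    by_cases e : j.1 = (⊥ : LS.I n).1
    · simp [Fin.ext e, ε_apply, aa]
    · simp [ε_ne' e, hv j (by omega)]
  obtain ⟨a, e, -⟩ := k _ hw
  obtain rfl : a = 0 := h.tr_nd fun c => by
    obtain ⟨b, e1, e2⟩ := k (c • (v + v ⊥ • ε F ⊥)) fun j z => by rw [Pi.smul_apply, hw j z, smul_zero]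
    rw [map_smul, e, smul_add, add_right_inj, smul_smul, mul_comm] at e1
    rwa [smul_left_injective F (ε_ne _) e1]
  simpa [s0] using e

/-- One step of the reduction of `x ∈ U` to `1`. -/
theorem step (hx : x ∈ US s n) (hi : i < i.rev) (k : ∀ j : LS.I n, j.1 < i.1 → x.1 (ε F j) = ε F j ∧ x.1 (ε F j.rev) = ε F j.rev) :
    ∃ w γ, (∀ j : LS.I n, j.1 ≤ i.1 ∨ i.rev.1 ≤ j.1 → w j = 0) ∧ Va (BD s n) (ε F i) w γ ∧ x.1 (ε F i.rev) = ε F i.rev + w + γ • ε F i ∧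
      ∀ j : LS.I n, j.1 < i.1 + 1 → x.1 (ε F j) = (ei (BD s n) (ε F i) w γ).1 (ε F j) ∧
        x.1 (ε F j.rev) = (ei (BD s n) (ε F i) w γ).1 (ε F j.rev) := by
  have r1 := Fin.val_rev i
  have hi' : i.1 < i.rev.1 := hi
  have c1 : ∀ (j : LS.I n) v, x.1 (ε F j) = ε F j → x.1 v j.rev = v j.rev := fun j v e => by
    rw [← BD_ε (s := s) j (x.1 v), ← e, iso, BD_ε]
  have c2 : ∀ j : LS.I n, j.1 < i.1 → ∀ v, x.1 v j = v j := fun j hj v => by simpa using c1 j.rev v (k j hj).2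
  have e1 : x.1 (ε F i) = ε F i := funext fun j => by
    rcases lt_trichotomy j.1 i.1 with z | z | z
    · exact c2 j z _
    · rw [Fin.ext z, US_dg hx, ε_eq' rfl]
    · rw [US_lo hx z, ε_ne' z.ne']
  obtain ⟨γ, hγ⟩ : ∃ γ, x.1 (ε F i.rev) i = γ := ⟨_, rfl⟩
  obtain ⟨w, e2⟩ : ∃ w, x.1 (ε F i.rev) = ε F i.rev + w + γ • ε F i := ⟨x.1 (ε F i.rev) - ε F i.rev - γ • ε F i, by abel⟩
  have hw : ∀ j : LS.I n, j.1 ≤ i.1 ∨ i.rev.1 ≤ j.1 → w j = 0 := fun j z => by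
    have := congrFun e2 j
    have r2 := Fin.val_rev j
    rcases lt_trichotomy j.1 i.1 with y | y | y
    · simpa [c2 j y, ε_ne' y.ne] using this
    · simpa [Fin.ext y, hγ, ε_ne' hi'.ne, ε_eq'] using this
    · have y' : j.rev.1 ≤ i.1 := by omega
      have := c1 j.rev (ε F i.rev) (y'.lt_or_eq.elim (fun y => (k _ y).1) fun y => Fin.ext y ▸ e1)
      simpa [e2, ε_ne' y.ne'] using this
  have p : Va (BD s n) (ε F i) w γ := ⟨εε hi, by rw [BD_ε, hw _ (.inr le_rfl)], by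
    have := iso x (ε F i.rev) (ε F i.rev)
    simp only [e2, map_add, LinearMap.map_smulₛₗ, LinearMap.add_apply, LinearMap.smul_apply, BD_ε, BD_ε' w, Fin.rev_rev, hw i (.inl le_rfl),
      hw i.rev (.inr le_rfl), ε_ne' hi'.ne, ε_ne' hi'.ne', ε_eq' rfl, smul_eq_mul, map_zero, RingHom.id_apply] at this
    linear_combination this - aa (BD s n w w)⟩
  refine ⟨w, γ, hw, p, e2, fun j hj => ?_⟩
  have r2 := Fin.val_rev j
  rcases (Nat.lt_succ_iff.1 hj).lt_or_eq with y | y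
  · rw [(k j y).1, (k j y).2, h.ei_fix p (by rw [BD_ε, ε_ne' (by omega)]) (by rw [BD_ε', hw _ (by omega), map_zero]),
      h.ei_fix p (by rw [BD_ε, ε_ne' (by omega)]) (by rw [BD_ε', Fin.rev_rev, hw _ (by omega), map_zero])]
    exact ⟨rfl, rfl⟩
  · obtain rfl : j = i := Fin.ext y
    rw [e1, e2, h.ei_fix p p.ee (h.cm p.ew), h.ei_ap p]
    simp [BD_ε' w, hw j (.inl le_rfl), ε_eq']

/-- The kernel of the superdiagonal. -/
theorem ker_sd (hx : x ∈ US s n) (k : ∀ a b : LS.I n, a.1 + 1 = b.1 → x.1 (ε F b) a = 0) : x ∈ ⁅US s n, US s n⁆ := by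
  suffices ∀ r m, r + m = n + 3 → ∀ x ∈ US s n, (∀ a b : LS.I n, a.1 + 1 = b.1 → x.1 (ε F b) a = 0) →
    (∀ j : LS.I n, j.1 < m → x.1 (ε F j) = ε F j ∧ x.1 (ε F j.rev) = ε F j.rev) → x ∈ ⁅US s n, US s n⁆ from
      this _ 0 rfl x hx k fun _ z => absurd z (Nat.not_lt_zero _)
  intro r
  induction r with
  | zero =>
    intro m e x _ _ k
    obtain rfl : x = 1 := J_ext fun v => by
      rw [← sum_ε v]; simp only [map_sum, map_smul, fun j : LS.I n => (k j (by have := j.2; omega)).1, one_ap]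
    exact one_mem _
  | succ r ih =>
    intro m e x hx k k'
    obtain ⟨i, rfl⟩ : ∃ i : LS.I n, i.1 = m := ⟨⟨m, by omega⟩, rfl⟩
    have r1 := Fin.val_rev i
    by_cases hi : i.1 < i.rev.1
    · obtain ⟨w, γ, hw, p, e1, e2⟩ := h.step hx hi k'
      have hU := h.ei_US hi hw γ
      obtain ⟨j, hj⟩ : ∃ j : LS.I n, j.1 + 1 = i.rev.1 := ⟨⟨i.rev.1 - 1, by omega⟩, by simp only; omega⟩
      have z := k j _ hj
      rw [e1] at z
      have d : ei (BD s n) (ε F i) w γ ∈ ⁅US s n, US s n⁆ := by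
        by_cases c : i.1 + 1 < i.rev.1
        · refine h.ei_der c (fun l (y : l.1 ≤ i.1 ∨ _) => ?_) γ
          by_cases c' : l.1 = j.1
          · simpa [Fin.ext c', ε_ne' (show j.1 ≠ i.rev.1 by omega), ε_ne' (show j.1 ≠ i.1 by omega)] using z
          · exact hw l (by omega)
        · obtain rfl : w = 0 := funext fun l => hw l (by omega)
          obtain rfl : γ = 0 := by simpa [ε_ne' (show j.1 ≠ i.rev.1 by omega), ε_eq' (show j.1 = i.1 by omega)] using z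
          exact h.ei_zero _ ▸ one_mem _
      rw [← mul_mem_cancel_left (inv_mem d)]
      refine ih (i + 1) (by omega) _ (mul_mem (inv_mem hU) hx) (fun a b y => ?_) fun l y => ⟨inv_eq_of (e2 l y).1.symm, inv_eq_of (e2 l y).2.symm⟩
      rw [sd_mul (inv_mem hU) hx y, k a b y, sd_der (inv_mem d) y, add_zero]
    · refine ih (i + 1) (by omega) x hx k fun l y => ?_
      rcases (Nat.lt_succ_iff.1 y).lt_or_eq with y | y
      · exact k' l y
      obtain rfl : l = i := Fin.ext y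
      by_cases c : l.rev.1 < l.1
      · exact ⟨by simpa using (k' _ c).2, (k' _ c).1⟩
      obtain c : l.rev = l := Fin.ext (by omega)
      rw [c, and_self]
      funext a
      rcases lt_trichotomy a.1 l.1 with y | y | y
      · have := iso x (ε F a.rev) (ε F l)
        rwa [(k' a y).2, BD_ε, BD_ε, Fin.rev_rev] at this
      · rw [Fin.ext y, US_dg hx, ε_eq' rfl]
      · rw [US_lo hx y, ε_ne' y.ne']

/-- Simple root elements: `a + 1 = b`. -/
theorem sroot {a b : LS.I n} (k : a.1 + 1 = b.1) (hc : b = a.rev → s c = c) : ∃ x ∈ US s n, ∀ a' b' : LS.I n, a'.1 + 1 = b'.1 →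
    x.1 (ε F b') a' = if a'.1 = a.1 then c else if b'.1 = a.rev.1 then s c else 0 := by
  have r1 := Fin.val_rev a
  have r2 := Fin.val_rev b
  rcases lt_trichotomy b.1 a.rev.1 with y | y | y
  · have hi : a < a.rev := Fin.lt_def.2 (by omega)
    obtain ⟨γ, p⟩ := h.va_ε (w := s c • ε F b.rev) hi (by simp [ε_ne' (show a.rev.1 ≠ b.rev.1 by omega)])
    refine ⟨_, h.ei_US hi (w := s c • ε F b.rev) (fun l (z : l.1 ≤ a.1 ∨ a.rev.1 ≤ l.1) => by simp [ε_ne' (show l.1 ≠ b.rev.1 by omega)]) γ, fun a' b' z => ?_⟩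
    have r3 := Fin.val_rev b'
    have := h.ss c
    rw [h.ei_ε p]
    simp only [ε_apply, Pi.smul_apply, Fin.ext_iff, smul_eq_mul]
    split_ifs <;> first | omega | simpa using this | simp
  · have hi : a < a.rev := Fin.lt_def.2 (by omega)
    refine ⟨_, h.ei_US hi (w := 0) (fun _ _ => rfl) c, fun a' b' z => ?_⟩
    rw [h.ei_ε (.tv (εε hi) (hc (Fin.ext y)))]
    simp only [ε_apply, Pi.zero_apply, Fin.ext_iff]
    split_ifs <;> first | omega | simp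
  · have hi : b.rev < b.rev.rev := Fin.lt_def.2 (by rw [Fin.rev_rev]; omega)
    obtain ⟨γ, p⟩ := h.va_ε (w := c • ε F a) hi (by simp [ε_ne' (show b.1 ≠ a.1 by omega)])
    refine ⟨_, h.ei_US hi (w := c • ε F a) (fun l (z : l.1 ≤ b.rev.1 ∨ b.rev.rev.1 ≤ l.1) => by
      rw [Fin.rev_rev] at z; simp [ε_ne' (show l.1 ≠ a.1 by omega)]) γ, fun a' b' z => ?_⟩
    have r3 := Fin.val_rev b'
    rw [h.ei_ε p]
    simp only [ε_apply, Pi.smul_apply, Fin.ext_iff, smul_eq_mul, Fin.rev_rev]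
    split_ifs <;> first | omega | simp

/-- Two consecutive superdiagonal entries of `U` are not proportional. -/
theorem two_sd {a b c : LS.I n} (k : a.1 + 1 = b.1) (k' : b.1 + 1 = c.1) : ∃ u ∈ US s n, ∃ v ∈ US s n,
    u.1 (ε F b) a * v.1 (ε F c) b ≠ v.1 (ε F b) a * u.1 (ε F c) b := by
  have r1 := Fin.val_rev a
  have r2 := Fin.val_rev b
  obtain ⟨u, hu, e⟩ := h.sroot (c := 1) k fun _ => map_one s
  refine ⟨u, hu, ?_⟩
  by_cases z : c.1 = a.rev.1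
  · obtain ⟨ω, hω⟩ := h.om
    obtain ⟨v, hv, e'⟩ := h.sroot (c := ω) k fun y => by rw [Fin.ext_iff] at y; omega
    refine ⟨v, hv, ?_⟩
    rw [e a b k, e b c k', e' a b k, e' b c k', if_pos rfl, if_pos rfl, if_neg (by omega), if_pos z, if_neg (by omega), if_pos z, map_one,
      one_mul, mul_one]
    exact fun y => by simp [RingHom.coe_coe, y, aa] at hω
  · obtain ⟨v, hv, e'⟩ := h.sroot (c := 1) k' fun _ => map_one s
    refine ⟨v, hv, ?_⟩
    rw [e a b k, e b c k', e' b c k', if_pos rfl, if_pos rfl, if_neg (by omega), if_neg z]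
    simp

/-- If `sd Y = 0` then `Y ≤ U' ≤ Φ(U)`. -/
theorem CP0 {X Y : Subgroup (US s n)} (e : X ⊔ Y = ⊤) (k : ∀ a b : LS.I n, a.1 + 1 = b.1 → ∀ y ∈ Y, y.1.1 (ε F b) a = 0) : X = ⊤ :=
  frattini_nongenerating (top_le_iff.1 (e.ge.trans (sup_le_sup_left (fun y hy => PGroup.commutator_le_frattini (p := 2) h.US_syl.pgroup
    (mem_der.2 (h.ker_sd y.2 fun a b z => k a b z y hy))) X)))

/-- `⁅x, y⁆ = 1` gives `sd x i · sd y (i + 1) = sd y i · sd x (i + 1)`.  By `two_sd`, for every `i` one of `sd X`, `sd Y` vanishes at `i`, `i + 1`. -/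
theorem CP (X Y : Subgroup (US s n)) (k : ∀ x ∈ X, ∀ y ∈ Y, x * y = y * x) (e : X ⊔ Y = ⊤) : X = ⊤ ∨ Y = ⊤ := by
  have dec : ∀ u ∈ US s n, ∃ x ∈ X, ∃ y ∈ Y, ∀ a b : LS.I n, a.1 + 1 = b.1 → u.1 (ε F b) a = x.1.1 (ε F b) a + y.1.1 (ε F b) a := by
    intro u hu
    have : (⟨u, hu⟩ : US s n) ∈ (X ⊔ Y : Subgroup _) := e ▸ mem_top _
    rw [← SetLike.mem_coe, coe_mul_of_left_le_normalizer_right X Y fun x hx => mem_normalizer_iff.2 fun y =>
      ⟨fun hy => by rwa [k x hx y hy, mul_inv_cancel_right], fun hy => by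
        have := k x hx _ hy
        rw [inv_mul_cancel_right, mul_assoc x y, mul_right_inj, ← mul_assoc] at this
        rwa [← this]⟩] at this
    obtain ⟨x, hx, y, hy, z⟩ := this
    exact ⟨x, hx, y, hy, fun a b r => by rw [← sd_mul x.2 y.2 r]; exact congrArg (fun t : US s n => t.1.1 (ε F b) a) z.symm⟩
  have pr : ∀ a b c : LS.I n, a.1 + 1 = b.1 → b.1 + 1 = c.1 → (∀ x ∈ X, x.1.1 (ε F b) a = 0 ∧ x.1.1 (ε F c) b = 0) ∨
      ∀ y ∈ Y, y.1.1 (ε F b) a = 0 ∧ y.1.1 (ε F c) b = 0 := fun a b c r r' => by_contra fun z => by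
    push Not at z
    obtain ⟨⟨x0, hx0, z1⟩, y0, hy0, z2⟩ := z
    obtain ⟨u, hu, v, hv, ne⟩ := h.two_sd r r'
    obtain ⟨x, hx, y, hy, e1⟩ := dec u hu
    obtain ⟨x', hx', y', hy', e2⟩ := dec v hv
    have d := fun x hx y hy => sd_comm x.2 y.2 r r' (congrArg Subtype.val (k x hx y hy))
    rw [e1 a b r, e1 b c r', e2 a b r, e2 b c r'] at ne
    refine ne ?_
    linear_combination det0 z2 (d x hx y0 hy0) (d x' hx' y0 hy0) + det0 z1 (d x0 hx0 y hy).symm (d x0 hx0 y' hy').symm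
      + d x hx y' hy' - d x' hx' y hy
  have no : ∀ a b : LS.I n, a.1 + 1 = b.1 → (∀ x ∈ X, x.1.1 (ε F b) a = 0) → (∀ y ∈ Y, y.1.1 (ε F b) a = 0) → False := fun a b r z z' => by
    obtain ⟨u, hu, e⟩ := h.sroot (c := 1) r fun _ => map_one s
    obtain ⟨x, hx, y, hy, e1⟩ := dec u hu
    simpa [e a b r, z x hx, z' y hy] using e1 a b r
  have ind : ∀ X Y : Subgroup (US s n), (∀ a b c : LS.I n, a.1 + 1 = b.1 → b.1 + 1 = c.1 → (∀ x ∈ X, x.1.1 (ε F b) a = 0 ∧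
      x.1.1 (ε F c) b = 0) ∨ ∀ y ∈ Y, y.1.1 (ε F b) a = 0 ∧ y.1.1 (ε F c) b = 0) → (∀ a b : LS.I n, a.1 + 1 = b.1 →
      (∀ x ∈ X, x.1.1 (ε F b) a = 0) → (∀ y ∈ Y, y.1.1 (ε F b) a = 0) → False) → (∀ y ∈ Y, y.1.1 (ε F 1) 0 = 0) →
      ∀ (m : ℕ) (a b : LS.I n), a.1 = m → a.1 + 1 = b.1 → ∀ y ∈ Y, y.1.1 (ε F b) a = 0 := fun X Y pr no z m => by
    induction m with
    | zero => intro a b r r'; rwa [show a = 0 from Fin.ext r, show b = 1 from Fin.ext (by rw [← r', r]; rfl)]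
    | succ m ih =>
      intro b c r r'
      obtain ⟨a, ha⟩ : ∃ a : LS.I n, a.1 = m := ⟨⟨m, by omega⟩, rfl⟩
      exact (pr a b c (by omega) r').elim (fun p => (no a b (by omega) (fun x hx => (p x hx).1) (ih a b ha (by omega))).elim)
        fun p y hy => (p y hy).2
  exact (pr 0 1 2 rfl rfl).symm.imp (fun p => h.CP0 e fun a b => ind X Y pr no (fun y hy => (p y hy).1) _ a b rfl)
    fun p => h.CP0 (sup_comm X Y ▸ e) fun a b => ind Y X (fun a b c r r' => (pr a b c r r').symm) (fun a b r p q => no a b r q p)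
      (fun y hy => (p y hy).1) _ a b rfl

/-- An element of `Q` fixed by `conj u ∘ fl σ` has `σ`-fixed leading coefficient. -/
theorem fix_co {u : SUG (BD s n)} (hu : u ∈ US s n) (p : Va (BD s n) (ε F ⊥) w γ)
    (k : u * h.fl s (ei (BD s n) (ε F ⊥) w γ) * u⁻¹ = ei (BD s n) (ε F ⊥) w γ) {j : LS.I n} (j0 : j.1 ≠ 0) (hw : w ∈ Fl F n (j + 1)) :
    s (w j) = w j := by
  have e : cw s n (ε F ⊥) = ε F ⊥ := funext fun l => by simp [cw, ε_apply, apply_ite s]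
  have e' : u.1 (ε F ⊥) = ε F ⊥ := h.US_stab hu
  have p' := ((h.ind_va (h.fl_ind s)).2 p).map u
  rw [h.ind_ei (h.fl_ind s), h.ei_conj, e, e'] at k
  rw [e, e'] at p'
  obtain ⟨a, z, -⟩ := h.ei_inj (ε_ne _) p p' k.symm
  have := congrFun z j
  rwa [US_co hu fun l y => by simp [cw, hw l y], Pi.add_apply, Pi.smul_apply, ε_ne' j0, smul_zero, add_zero] at this

/-- The elements `ei e₀ (a ω e₁ + b ω e₁') _`, `a, b ∈ K`, `ω ∉ K`, lie in distinct cosets of `X`. -/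
theorem IDX (hq : IsBar q (s : F →+* F)) (u : US s n) (X : Subgroup (US s n)) (k : ∀ x ∈ X, u.1 * h.fl s x.1 * u.1⁻¹ = x.1) :
    Nat.card X * q ^ 2 ≤ Nat.card (US s n) := by
  obtain ⟨ω, hω : ω + s ω = 1⟩ := h.om
  have n1 := h.n_pos
  have r0 : (⊥ : LS.I n).1 = 0 := rfl
  have r1 : (1 : LS.I n).1 = 1 := rfl
  have r2 := Fin.val_rev (⊥ : LS.I n)
  have r3 := Fin.val_rev (1 : LS.I n)
  have hi : (⊥ : LS.I n) < Fin.rev ⊥ := Fin.lt_def.2 (by omega)
  let W : F → F → VV n F := fun a b => (a * ω) • ε F 1 + (b * ω) • ε F (Fin.rev 1)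
  have hW : ∀ a b (j : LS.I n), j.1 ≠ 1 → j.1 ≠ n + 1 → W a b j = 0 := fun a b j y z => by
    simp [W, ε_ne' (show j.1 ≠ (1 : LS.I n).1 from y), ε_ne' (show j.1 ≠ (Fin.rev 1 : LS.I n).1 by omega)]
  choose γ p using fun a b => h.va_ε (w := W a b) hi (hW a b _ (by omega) (by omega))
  have hU := fun a b => h.ei_US hi (fun j (z : j.1 ≤ 0 ∨ (Fin.rev (⊥ : LS.I n)).1 ≤ j.1) => hW a b j (by omega) (by omega)) (γ a b)
  have o : ∀ a : F, s a = a → s (a * ω) = a * ω → a = 0 := fun a y z => by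
    rw [map_mul, y] at z; linear_combination -a * hω + z + aa (a * ω)
  let t : fixedField (s : F →+* F) × fixedField (s : F →+* F) → US s n ⧸ X := fun a => (⟨_, hU a.1 a.2⟩ : US s n)
  have inj : Function.Injective t := fun a b e => by
    have z := k _ (QuotientGroup.eq.1 e)
    have q := h.va_mul (h.va_inv (p a.1 a.2)) (p b.1 b.2)
    have w : W a.1 a.2 + W b.1 b.2 = W (a.1 + b.1) (a.2 + b.2) := by simp only [W]; module
    rw [MulMemClass.coe_mul, InvMemClass.coe_inv, h.ei_inv (p _ _), h.ei_mul (h.va_inv (p _ _)) (p _ _), w] at z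
    rw [w] at q
    have z2 := h.fix_co u.2 q z (j := Fin.rev 1) (by omega) fun l y => hW _ _ l (by omega) (by omega)
    have e2 := o _ (add_mem a.2.2 b.2.2) (by simpa [W, ε_eq', ε_ne' (show (Fin.rev 1 : LS.I n).1 ≠ (1 : LS.I n).1 by omega)] using z2)
    rw [e2] at q z
    have z1 := h.fix_co u.2 q z (j := 1) (by omega) fun l y => by simp [W, ε_ne' (show l.1 ≠ (1 : LS.I n).1 by omega)]
    have e1 := o _ (add_mem a.1.2 b.1.2) (by simpa [W, ε_eq'] using z1)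
    exact Prod.ext (Subtype.ext (CharTwo.add_eq_zero.1 e1)) (Subtype.ext (CharTwo.add_eq_zero.1 e2))
  have := Nat.card_le_card_of_injective t inj
  rw [Nat.card_prod, hq.card_fixedField] at this
  rw [← X.card_mul_index, sq]
  exact Nat.mul_le_mul_left _ this

/-- `nf2` with `l' = fl θ l`; the fixed vectors of `l' ∘ σ` are the images under `cw θ` of those of `l ∘ σ`. -/
theorem NF2 (l : SUG (BD s n)) (θ : RingAut F) (k : MulAut.conj l * h.fl s * (MulAut.conj l * h.fl s) = 1) :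
    ∃ w, h.fl θ * (MulAut.conj l * h.fl s) * (h.fl θ)⁻¹ = MulAut.conj w * (MulAut.conj l * h.fl s) * (MulAut.conj w)⁻¹ := by
  have c : θ * s = s * θ := RingEquiv.ext (h.θσ θ)
  have e : h.fl θ * (MulAut.conj l * h.fl s) * (h.fl θ)⁻¹ = MulAut.conj (h.fl θ l) * h.fl s := by
    rw [mul_inv_eq_iff_eq_mul, mul_assoc, ← map_mul, ← c, map_mul, ← mul_assoc, ← mul_assoc]
    exact congrArg (· * _) (MulEquiv.ext fun x => by simp)
  have p := h.fl_ind θ
  have a : ∀ v, (h.fl θ l).1 (cw s n (cw θ n v)) = cw θ n (l.1 (cw s n v)) := fun v => by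
    rw [← p.act]; exact congrArg _ (funext fun j => (h.θσ θ _).symm)
  rw [e]
  refine h.nf2 (h.fl_ind s) (fun z => h.ne_id (RingHom.ext fun a => DFunLike.congr_fun z a)) k
    (by rw [← e, conj_mul, k, mul_one, mul_inv_cancel]) ⟨fun z v y => ?_, fun z v y => ?_⟩
  · obtain ⟨v, rfl⟩ := (cw θ n).surjective v
    rw [p.iso, z v ((cw θ n).injective ((a v).symm.trans y)), map_zero]
  · simpa [p.iso] using z (cw θ n v) (by rw [a, y])

end Ok

end Cfsg.Lib.USt
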