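import Cfsg.Agent.Lib.USt.SB_a

/-!
# S3137/S3128, split case II.  Port of the first half of `GSt/SB` (reuse its generic lemmas `two_mul_le`, `SN.zp2`, `Ac.pow`, `N0_symm`, ...).
`U₁ = (μ.comp j).range`, `U₂ = (ν.comp j).range`, `Z = center U`, `b = m.bb 0`; a *swap* is an element of `HH \ N0`.
-/

set_option autoImplicit false
set_option linter.unusedSectionVars false

namespace Cfsg.Lib.USt

open Subgroup G2S Cfsg.Lib.BG Cfsg.Lib.GW GSt.SLa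
open GSt (N0 HH)
open scoped commutatorElement Cfsg.Lib.Transfer

variable {J U A G : Type*} [Group J] [Finite J] [Group U] [Finite U] [Group A] [Group G] [Finite G] {m : SM J U A}
  {ψ μ ν : J →* G} {t g φ : G} {P T Γ N : Subgroup G} {α β : MulAut J} {θ η ι : A}

namespace SN
variable (s : SN m ψ t μ ν T Γ N)
include s

/-- `r` may be taken in `Γ` (conjugate into `T` by `HH`, `r = u γ`, `γ² ∈ Γ ⊓ S' = 1`), `r t` has type `(θ, θ⁻¹)`.  Let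
`D ≤ A × A` be the group of types of `{w ∈ T ⊓ N0 | w ∈ N ∨ w t ∈ N}`.  `D ≠ ⊤`: for `w ∈ Γ` of type `(θ, 1)`, `⁅w, t⁆ ∈ N ⊓ Γ` equals `r t`
(`Γ_eq`), so `t ∈ N`.  `|P| ≤ |D| |P ⊓ S'|` (as `GSt.SN.card_TN`: the types of `T ⊓ N ⊓ N0` have index `≥ 2` in `D`, missing that of `r t`),
and `2 |D| ≤ |A|²`.  For `P = ⟨r, φ⟩` (order `4`, `P ⊓ S' = 1`): `8 ≤ |A|²`. -/
theorem card_TN (p : Ph m μ ν Γ N φ ι) {r : G} (hr : r ∈ HH μ ν t) (r0 : r ∉ N0 μ ν) (rN : r ∈ N) (r2 : r * r = 1) :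
    4 ∣ Nat.card A ∧ ∀ P ≤ T ⊓ N, 2 * Nat.card P ≤ Nat.card A ^ 2 * Nat.card ↥(P ⊓ SS m μ ν) := by
  have := m.fin
  have := s.nN
  obtain ⟨τ, hτ⟩ := s.sq.exists_τ m.toBM
  have ty : ∀ {g θ η} (h : Ty m μ ν g θ η) (h0 : g ∈ N0 μ ν), τ ⟨g, h0⟩ = (θ, η) := fun ⟨_, _, h⟩ h0 =>
    (hτ h h0).trans (Prod.ext (m.Θ_spec _ _) (m.Θ_spec _ _))
  obtain ⟨h, hh, e⟩ := Syl.exists_conj_le (s.syl.of_le s.T_HH le_top) (Inv.isPGroup_zpowers_of_mul_self r2) (zpowers_le.2 hr)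
  replace hr := Transfer.conj_le_iff.1 e r (mem_zpowers r)
  replace r0 := mt (mem_normalizer_iff.1 (s.HH_N0 hh) r).2 r0
  replace rN := s.cjN rN h
  replace r2 := cj2 r2 h
  generalize h * r * h⁻¹ = r at hr r0 rN r2
  have h1 := (s.sq.mem_HH.1 (s.T_HH hr)).resolve_left r0
  obtain ⟨θ, η, e⟩ := s.ty (mul_mem hr s.tT) h1
  obtain ⟨u, hu, γ, hγ, e1, a⟩ := s.dec (mul_mem hr s.tT) e
  have γN : γ ∉ N := fun c => s.t_notN ((mul_mem_cancel_left rN).1 (e1 ▸ mul_mem (s.SS_N hu) c))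
  obtain rfl : η = θ⁻¹ := by
    obtain ⟨α, β, a'⟩ := h1
    have := (s.sq.uniq m.toBM (a'.mul (s.sq.ac_t a')) (by simpa [mul_assoc, s.sq.tt, s.t2, r2] using GSt.Ac.one)).1
    rw [eq_inv_iff_mul_eq_one, m.comm, ← (s.sq.ty_Θ m e a').1, ← (s.sq.ty_Θ m e a').2, ← map_mul, this, map_one]
  have h2 : ((T ⊓ N).subgroupOf (N0 μ ν)).map τ < ((T ⊓ (N ⊔ zpowers t)).subgroupOf (N0 μ ν)).map τ :=
    (map_mono (comap_mono (inf_le_inf_left _ le_sup_left))).lt_of_ne fun c => by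
    obtain ⟨⟨y, y0⟩, hy, e'⟩ := c.ge ⟨⟨_, h1⟩, ⟨mul_mem hr s.tT, mul_mem_sup rN (mem_zpowers t)⟩, ty e _⟩
    obtain ⟨θ', η', e''⟩ := s.ty hy.1 y0
    obtain ⟨e3, e4⟩ := Prod.mk.inj ((ty e'' y0).symm.trans e')
    rw [e3, e4] at e''
    obtain ⟨u', hu', γ', hγ', rfl, a'⟩ := s.dec hy.1 e''
    exact γN (s.Γ_eq hγ' hγ a' a ▸ (mul_mem_cancel_left (s.SS_N hu')).1 hy.2)
  have h3 : ((T ⊓ (N ⊔ zpowers t)).subgroupOf (N0 μ ν)).map τ < ⊤ := lt_top_iff_ne_top.2 fun c => by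
    obtain ⟨⟨y, y0⟩, hy, e'⟩ := c.ge (mem_top (θ, 1))
    obtain ⟨θ', η', e''⟩ := s.ty hy.1 y0
    obtain ⟨e3, e4⟩ := Prod.mk.inj ((ty e'' y0).symm.trans e')
    rw [e3, e4] at e''
    obtain ⟨u', hu', σ, hσ, rfl, a'⟩ := s.dec hy.1 e''
    refine γN (s.Γ_eq (mul_mem hσ (mul_mem (mul_mem s.tΓ (inv_mem hσ)) s.tΓ)) hγ
      (by simpa using a'.mul (s.sq.ac_t a'.inv)) a ▸ ?_)
    rcases (sup_t s.t2).1 ((mul_mem_cancel_left (mem_sup_left (s.SS_N hu'))).1 hy.2) with c | c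
    · simpa [s.it] using mul_mem c (s.cjN (inv_mem c) t)
    · simpa [mul_assoc, s.sq.tt, s.it] using mul_mem c (s.cjN (inv_mem c) t)
  have h4 := GSt.two_mul_le h2
  have h5 := GSt.two_mul_le h3
  rw [card_top, Nat.card_prod, ← _root_.sq] at h5
  refine ⟨?_, fun P h => ?_⟩
  · obtain ⟨k, hk⟩ := IsPGroup.iff_card.1 m.p2
    have h6 := (one_lt_card_iff_ne_bot _).2 (ne_bot_of_mem (show (ι, ι) ∈ ((T ⊓ N).subgroupOf (N0 μ ν)).map τ from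
      ⟨⟨φ, _, _, p.ac⟩, ⟨s.Γ_T p.mem, p.memN⟩, ty (ty_fl p.ac) _⟩) fun c => p.ι1 (congrArg Prod.fst c))
    rw [hk] at h5 ⊢
    exact pow_dvd_pow 2 (show 2 ≤ k from by_contra fun c => by interval_cases k <;> omega)
  have h6 := s.sq.card_ty s.toSY (P := P ⊓ N0 μ ν) (inf_le_inf_right _ (h.trans inf_le_left))
    (D := ((T ⊓ N).subgroupOf (N0 μ ν)).map τ) fun g hg θ η e => ⟨⟨g, hg.2⟩, h hg.1, ty e _⟩
  have h7 := card_le_of_le (inf_le_inf_right (SS m μ ν) (inf_le_left : P ⊓ N0 μ ν ≤ P))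
  calc _ ≤ _ := Nat.mul_le_mul_left 2 ((s.sq.half (h.trans (inf_le_left.trans s.T_HH))).trans (Nat.mul_le_mul_left _ h6))
    _ ≤ _ := by rw [← mul_assoc, ← mul_assoc]; exact Nat.mul_le_mul (by omega) h7

theorem not_SS {e : G} (h : Ty m μ ν e θ η) (h1 : θ ≠ 1) : e ∉ SS m μ ν := fun c =>
  h1 (s.sq.ty_uniq m h ((s.sq.ty_one s.toSY (s.SS_T c)).2 c)).1

theorem A_inf {b : U →* G} {e : G} (e2 : e * e = 1) (bi : Function.Injective b) (hT : e ∈ T) (h0 : e ∈ N0 μ ν)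
    (he : e ∉ SS m μ ν) (hb : e ∉ b.range) :
    ((μ.comp m.j).range ⊔ zpowers e).comap b ⊓ ((ν.comp m.j).range ⊔ zpowers e).comap b = ⊥ := eq_bot_iff.2 fun x hx => by
  obtain ⟨u, hu, c, hc, e1⟩ := (mem_sup_left_norm (zp_norm.2 (s.T_U1 hT h0))).1 hx.1
  obtain ⟨u', hu', c', hc', e1'⟩ := (mem_sup_left_norm (zp_norm.2 (s.T_U2 hT h0))).1 hx.2
  have h1 : c * c'⁻¹ = u⁻¹ * u' := by rw [eq_inv_mul_of_mul_eq e1, eq_mul_inv_of_mul_eq e1']; group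
  rcases GSt.SN.zp2 e2 (mul_mem hc (inv_mem hc')) with h | h
  · obtain rfl : u = u' := inv_mul_eq_one.1 (h1 ▸ h)
    rw [mem_bot.1 ((s.sq.U12 m).le ⟨hu, hu'⟩), one_mul] at e1
    rcases GSt.SN.zp2 e2 hc with rfl | rfl
    exacts [bi (e1.symm.trans (map_one b).symm), absurd ⟨x, e1.symm⟩ hb]
  · exact absurd (h ▸ h1 ▸ mul_mem_sup (inv_mem hu) hu') he

/-- The second projection of `P ⊓ S'` has kernel `P ⊓ U₁`. -/
theorem card_pr : Nat.card ↥(P ⊓ SS m μ ν) ≤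
    Nat.card ((P.comap (s.sq.i m)).map (.snd _ _)) * Nat.card ↥(P ⊓ (μ.comp m.j).range) := by
  choose f hf using fun x : ↥(P ⊓ SS m μ ν) => (s.sq.i_range m).ge x.2.2
  refine (GSt.fx_card _ (μ.comp m.j).range (fun x => (⟨(f x).2, f x, mem_comap.2 ((hf x).symm ▸ x.2.1), rfl⟩ :
    (P.comap (s.sq.i m)).map (.snd _ _))) fun x y e => ⟨(f x).1⁻¹ * (f y).1, ?_⟩).trans
    (Nat.mul_le_mul_left _ (card_le_of_le (inf_le_inf_right _ inf_le_left)))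
  rw [← hf, ← hf, ← map_inv, ← map_mul, SQ.i_apply, Prod.snd_mul, Prod.snd_inv, show (f x).2 = (f y).2 from congrArg Subtype.val e]
  simp

section
variable (p : Pt m μ ν t φ ι)
include p

/-- As `GSt.SN.into_T`. -/
theorem into_T (hP : IsPGroup 2 P) (h : ∀ x ∈ P, x * (g * φ * g⁻¹) = g * φ * g⁻¹ * x) :
    ∃ c, c ⋆ P ≤ T ∧ c * (g * φ * g⁻¹) * c⁻¹ ∈ T ∧ Ty m μ ν (c * (g * φ * g⁻¹) * c⁻¹) ι ι := by
  obtain ⟨R, hR, h1⟩ := Syl.exists_ge (Inv.isPGroup_zpowers_of_mul_self s.t2) (zpowers_le.2 (mem_cent1.2 p.ct.symm))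
  have l : g⁻¹ ⋆ P ≤ 𝐂[φ] := by
    rw [Transfer.conj_le_iff_le_inv_conj, inv_inv, conj_cent1]; exact fun x hx => mem_cent1.2 (h x hx)
  obtain ⟨c₁, hc₁, h2⟩ := hR.exists_conj_le ((pgroup_conj _).2 hP) l
  obtain ⟨c₂, hc₂, h3⟩ := Syl.exists_conj_le (s.syl.of_le s.T_HH le_top) hR.pgroup (s.two hR.pgroup (h1 (mem_zpowers t)))
  have e : c₂ * c₁ * g⁻¹ * (g * φ * g⁻¹) * (c₂ * c₁ * g⁻¹)⁻¹ = c₂ * φ * c₂⁻¹ := by
    conv_rhs => rw [← mul_inv_eq_iff_eq_mul.2 (mem_cent1.1 hc₁)]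
    group
  have hφ := Transfer.conj_le_iff.1 h3 φ (hR.ge_of_norm_p (zpowers_le.2 (self_mem_cent1 φ)) (Inv.isPGroup_zpowers_of_mul_self p.sq)
    (norm_of_cent (cent_zpowers φ ▸ hR.le)) (mem_zpowers φ))
  refine ⟨c₂ * c₁ * g⁻¹, ?_, e ▸ hφ, e ▸ ?_⟩
  · rw [← Transfer.conj_conj, ← Transfer.conj_conj]; exact (Transfer.conj_mono _ h2).trans h3
  obtain ⟨c, ⟨α, β, a⟩, e'⟩ : ∃ c ∈ N0 μ ν, c₂ * φ * c₂⁻¹ = c * φ * c⁻¹ := (s.sq.mem_HH.1 hc₂).elim (fun h => ⟨_, h, rfl⟩) fun h =>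
    ⟨_, h, by rw [mul_assoc c₂ t, ← p.ct]; group⟩
  obtain ⟨α', β', a', e3, e4⟩ := p.ac
  have a' := e' ▸ (a.mul a').mul a.inv
  obtain ⟨θ, η, h⟩ := s.ty hφ ⟨_, _, a'⟩
  obtain ⟨e1, e2⟩ := s.sq.ty_Θ m h a'
  rwa [← e1, ← e2, m.Θ_cj, m.Θ_cj, e3, e4] at h
/-- `into_T`.  `E ≤ C_T(e)`, `e` of type `(ι, ι)`.  If `E ≤ N0`: `card_four`, `E ⊓ S'` embeds in the product of its projections, `fix_pr`,
`up` (`i = 0`).  If `E` contains a swap, the first projection is injective on `E ⊓ S'` (`T_sw`, `U12`): `|E| ≤ 2 · 4 · b ≤ 4 b²`. -/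
theorem rk4 {E : Subgroup G} (hE : El E) (h : ∀ x ∈ E, x * (g * φ * g⁻¹) = g * φ * g⁻¹ * x) : Nat.card E ≤ 4 * m.bb 0 ^ 2 := by
  obtain ⟨c, h1, -, h3⟩ := s.into_T p hE.pgroup h
  have e2 := cj2 (cj2 p.sq g) c
  have hc : ∀ x ∈ c ⋆ E, c * (g * φ * g⁻¹) * c⁻¹ * x = x * (c * (g * φ * g⁻¹) * c⁻¹) := by
    rintro _ ⟨x, hx, rfl⟩; exact cjc (h x hx).symm c
  rw [← Transfer.card_conj c E]
  replace hE := hE.map (MulAut.conj c).toMonoidHom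
  generalize c * (g * φ * g⁻¹) * c⁻¹ = e at h3 e2 hc
  generalize c ⋆ E = E at h1 hc hE
  have k : ∀ {μ ν : J →* G} (s : SN m ψ t μ ν T Γ N), Ty m μ ν e ι ι → ∀ X ≤ E,
      Nat.card ((X.comap (s.sq.i m)).map (.snd _ _)) ≤ m.bb 0 := fun s ⟨a, d, h⟩ X hX => by
    rw [← card_map_of_injective m.em.inj]
    refine m.up _ 0 ((congrArg _ (m.Θ_spec (m.j d) ι)).trans (Inv.orderOf_eq_two_iff.2 ⟨p.ι1, p.ι2⟩))
      ((_root_.sq _).trans (s.sq.ac_sq m.toBM h e2).2) _ (El.map (El.map (fun x hx => s.sq.i_inj m (by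
        rw [map_mul, hE _ (hX hx), map_one])) _) _) ?_
    rintro _ ⟨_, ⟨x, hx, rfl⟩, rfl⟩
    exact (m.R_j _ _ _).trans (congrArg _ (s.sq.fix_pr m h (hc _ (hX hx))).2)
  have f := s.four (P := E ⊓ N0 μ ν) fun x hx => ⟨h1 hx.1, s.I4_sq hx.2 (hE x hx.1)⟩
  have f1 := (s.card_pr (P := E ⊓ N0 μ ν)).trans (Nat.mul_le_mul_right _ (k s h3 _ inf_le_left))
  have b2 := m.two_lt_b
  by_cases c : E ≤ N0 μ ν
  · have f2 := (s.symm.card_pr (P := E ⊓ (μ.comp m.j).range)).trans (Nat.mul_le_mul_right _ (k s.symm h3.symm _ inf_le_left))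
    rw [inf_assoc E _ (ν.comp m.j).range, s.sq.U12 m, inf_bot_eq, card_bot, mul_one,
      inf_eq_left.2 (show E ⊓ _ ≤ SS m ν μ from inf_le_right.trans le_sup_right)] at f2
    rw [inf_eq_left.2 c] at f f1
    nlinarith
  obtain ⟨y, hy, c⟩ := SetLike.not_le_iff_exists.1 c
  rw [show E ⊓ N0 μ ν ⊓ (μ.comp m.j).range = ⊥ from eq_bot_iff.2 fun x hx => (s.sq.U12 m).le
    ⟨hx.2, cjf.2 (hE.comm hy hx.1.1) ▸ s.T_sw (h1 hy) c hx.2⟩, card_bot] at f1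
  nlinarith [s.sq.half (h1.trans s.T_HH)]
theorem ty_ph1 (h : Ac μ ν (g * φ * g⁻¹) α β) : m.Θ α ≠ 1 := fun h1 => by
  have e2 := cj2 p.sq g
  obtain ⟨a2, b2⟩ := s.sq.ac_sq m.toBM h e2
  obtain ⟨P₁, p1, c1, n1, -⟩ := m.fix_el a2
  obtain ⟨P₂, p2, c2, n2, n3⟩ := m.fix_el b2
  replace n1 := n1 h1
  have c : ∀ x ∈ (P₁.prod P₂).map s.sq.pr, x * (g * φ * g⁻¹) = g * φ * g⁻¹ * x := by
    rintro _ ⟨x, hx, rfl⟩
    rw [eq_comm, ← mul_inv_eq_iff_eq_mul, s.sq.pr_apply, SQ.ac_apply h, c1 _ hx.1, c2 _ hx.2]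
  have m2 := m.n2
  have m0 := m.b0 0
  by_cases h2 : m.Θ β = 1
  · have := s.rk4 p ((p1.prod p2).map _) c
    rw [s.sq.card_prod m.toBM p1.pgroup p2.pgroup] at this
    nlinarith [Nat.mul_le_mul n1 (n2 h2)]
  have := (GSt.two_mul_le (left_lt_sup.2 fun e => by
    obtain ⟨x, -, e⟩ := e (mem_zpowers _)
    exact h2 (by rw [(s.sq.uniq m.toBM h ((show μ x.1 * ν x.2 = _ from e) ▸ s.sq.ac_μν x.1 x.2)).2, m.Θ_conj]))).trans
    (s.rk4 p (((p1.prod p2).map _).sup e2 c) fun x hx => mem_cent1.1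
      (sup_le (fun x hx => mem_cent1.2 (c x hx)) (zpowers_le.2 (self_mem_cent1 _)) hx))
  rw [s.sq.card_prod m.toBM p1.pgroup p2.pgroup] at this
  nlinarith [Nat.mul_le_mul n1 (n3 h2)]
/-- `fix_el`: if `Θ α = Θ β = 1` we get order `a² > 4 b²`; if only `Θ α = 1`, order `2 a b > 4 b²` (adjoin `g φ g⁻¹ ∉ M`). -/
theorem ty_ph (h : Ac μ ν (g * φ * g⁻¹) α β) : m.Θ α = ι ∧ m.Θ β = ι := by
  obtain ⟨a2, b2⟩ := s.sq.ac_sq m.toBM h (cj2 p.sq g)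
  exact ⟨m.eq_of_inv (by rw [← map_mul, a2, map_one]) p.ι2 (s.ty_ph1 p h) p.ι1,
    m.eq_of_inv (by rw [← map_mul, b2, map_one]) p.ι2 (s.symm.ty_ph1 p.symm (And.symm h)) p.ι1⟩
end

variable (p : Ph m μ ν Γ N φ ι)
include p

/-- As `GSt.SN.alpha` up to the numerics.  `r = g φ g⁻¹` a swap; `card_TN`, so `2 < |Z|`.  `b : U → T` injective, centralizing `e` of type
`(ι, ι)`, `P = b U ⊔ ⟨e⟩`, `2 |U| ≤ |P|`, `A_i = (U_i ⊔ ⟨e⟩).comap b`, `A₁ ⊓ A₂ = 1`, `|P ⊓ S'| |Z|² ≤ |P ⊓ U₁| |U| ≤ |A₁| |U|` (`fix_pr`, `IDX`), the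
same for `A₂`.  If `b U ≤ N0`: `NZ_card`, `card_four` (`sqc`): `2 |U| |Z|² ≤ 4 |Z| |U|`.  If `b y` is a swap, it exchanges `A₁` and `A₂`.
`A₁ = 1` contradicts `card_TN` and `n4`.  Otherwise take `1 ≠ x ∈ A₁ ⊓ Z(B₀)`, `B₀ = N0.comap b` of index `≤ 2`: `x ∉ Z` (else
`x = y x y⁻¹ ∈ A₂`), against `CLS`. -/
theorem alpha (h : g * φ * g⁻¹ ∈ HH μ ν t) : g * φ * g⁻¹ ∈ N0 μ ν := by
  by_contra h0
  obtain ⟨α, β, a⟩ := (s.sq.mem_HH.1 h).resolve_left h0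
  have r2 := cj2 p.sq g
  obtain ⟨h4, hN⟩ := s.card_TN p h h0 (s.cjN p.memN g) r2
  have e := fun x => (s.sq.swap a x).1
  let b₀ : U →* G := (s.sq.pr.comp ((MonoidHom.id J).prod β.toMonoidHom)).comp m.j
  have hb : ∀ x, b₀ x = μ (m.j x) * ν (β (m.j x)) := fun _ => rfl
  have c0 : ∀ x, b₀ x * (g * φ * g⁻¹) = g * φ * g⁻¹ * b₀ x := fun x => by
    conv_rhs => rw [hb, s.comm]
    generalize g * φ * g⁻¹ = r at r2 e
    simp only [hb, ← e, mul_assoc, inv_eq_of_mul_eq_one_left r2, ← mul_assoc r r, r2, one_mul, mul_one]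
  obtain ⟨c, h1, h2, h3⟩ := s.into_T (s.pt p) (P := b₀.range) (m.pU.of_surjective _ b₀.rangeRestrict_surjective)
    (by rintro _ ⟨x, rfl⟩; exact c0 x)
  let b := (MulAut.conj c).toMonoidHom.comp b₀
  have bi : Function.Injective b := (MulAut.conj c).injective.comp ((injective_iff_map_eq_one _).2 fun x e =>
    (map_eq_one_iff _ m.em.inj).1 (m.two_center (s.sq.eq_one m.toBM e).1 (m.j_two _).choose_spec))
  have bT : ∀ x, b x ∈ T := fun x => h1 ⟨_, ⟨x, rfl⟩, rfl⟩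
  have hc : ∀ x, c * (g * φ * g⁻¹) * c⁻¹ * b x = b x * (c * (g * φ * g⁻¹) * c⁻¹) := fun x => cjc (c0 x).symm c
  have hr : c * (g * φ * g⁻¹) * c⁻¹ ∉ b.range := fun ⟨x, e⟩ =>
    h0 (s.sq.M_le (s.sq.mem_M.2 ⟨_, _, ((MulAut.conj c).injective e).symm⟩))
  have eN := s.cjN (s.cjN p.memN g) c
  have e2 := cj2 r2 c
  generalize c * (g * φ * g⁻¹) * c⁻¹ = r at *
  have hS := s.not_SS h3 p.ι1
  have i := s.A_inf e2 bi h2 h3.N0 hS hr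
  have n0 := P_card bi hr
  have n1 := hN (b.range ⊔ zpowers r) (sup_le (by
    rintro _ ⟨x, rfl⟩; exact ⟨bT x, s.cjN (mul_mem (s.μN ⟨_, rfl⟩) (s.νN ⟨_, rfl⟩)) c⟩) (zpowers_le.2 ⟨h2, eN⟩))
  have k : ∀ {μ ν : J →* G} (s : SN m ψ t μ ν T Γ N), Ty m μ ν r ι ι → Nat.card ↥((b.range ⊔ zpowers r) ⊓ SS m μ ν) *
      Nat.card (center U) ^ 2 ≤ Nat.card U * Nat.card (((μ.comp m.j).range ⊔ zpowers r).comap b) := fun s h => by
    obtain ⟨a, d, h'⟩ := id h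
    refine (Nat.mul_le_mul_right _ (s.card_pr.trans (Nat.mul_le_mul_left _ (A_card e2 hc fun c =>
      s.not_SS h p.ι1 (mem_sup_left c))))).trans ?_
    rw [mul_right_comm]
    refine Nat.mul_le_mul_right _ (m.IDX d ι p.ι2 p.ι1 _ ?_)
    rintro _ ⟨x, hx, rfl⟩
    exact (s.sq.fix_pr m h' (P_cen hc _ hx)).2
  have n2 := k s h3
  have n3 := k s.symm h3.symm
  rw [SS_symm] at n3
  have z2 := m.two_lt_Z h4
  have u0 : 0 < Nat.card U := Nat.card_pos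
  by_cases c : ∀ x, b x ∈ N0 μ ν
  · have : Normal _ := ⟨fun x hx y => A_norm hc (s.T_U1 (bT y) (c y)) hx⟩
    have : Normal _ := ⟨fun x hx y => A_norm hc (s.T_U2 (bT y) (c y)) hx⟩
    have n4 := n0.trans (s.four (sup_le (by rintro _ ⟨x, rfl⟩; exact ⟨bT x, s.I4_of c x⟩) (zpowers_le.2 ⟨h2, s.I4_sq h3.N0 e2⟩)))
    have n5 := (m.NZ_card i).elim (fun h => n2.trans (Nat.mul_le_mul_left _ h)) fun h => n3.trans (Nat.mul_le_mul_left _ h)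
    nlinarith [Nat.mul_le_mul_right (Nat.card (center U) ^ 2) n4, Nat.mul_lt_mul_of_pos_left z2 (Nat.mul_pos u0 (zero_lt_two.trans z2))]
  obtain ⟨y, c⟩ := not_forall.1 c
  by_cases c1 : ((μ.comp m.j).range ⊔ zpowers r).comap b = ⊥
  · rw [c1, card_bot, mul_one] at n2
    nlinarith [Nat.mul_le_mul_right (Nat.card (center U) ^ 2) ((Nat.mul_le_mul_left 2 n0).trans n1),
      Nat.mul_le_mul_left (Nat.card A ^ 2) n2, Nat.mul_lt_mul_of_pos_left (m.n4 h4) u0]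
  obtain ⟨x, hx, x1⟩ := exists_ne_one (nil_meet_center (pgroup_nil (m.pU.to_subgroup ((N0 μ ν).comap b)))
    (comap_mono (sup_le (le_sup_left.trans s.SS_N0) (zpowers_le.2 h3.N0)))
    (le_norm_iff.2 fun y hy x hx => A_norm hc (s.T_U1 (bT y) hy) hx) c1)
  refine ((m.CLS x fun z => x1 (mem_bot.1 (i.le ⟨hx.1, mem_comap.2 ?_⟩))).trans ((Nat.le_of_dvd
    (Nat.pos_of_ne_zero FiniteIndex.index_ne_zero) (index_dvd_of_le (le_cent1_iff.2 hx.2))).trans ?_)).not_gt z2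
  · obtain ⟨u, hu, d, hd, e⟩ := (mem_sup_left_norm (zp_norm.2 (s.T_U1 h2 h3.N0))).1 hx.1
    rw [← cjf.2 (mem_center_iff.1 z y), map_mul, map_mul, map_inv, ← e, ← conj_mul]
    refine mul_mem_sup (s.T_sw (bT y) c hu) ?_
    rcases GSt.SN.zp2 e2 hd with rfl | rfl
    exacts [by simp, by rw [← hc, mul_inv_cancel_right]; exact mem_zpowers _]
  have := s.sq.half (P := b.range) (by rintro _ ⟨x, rfl⟩; exact s.T_HH (bT x))
  rw [← Nat.card_congr (MonoidHom.ofInjective bi).toEquiv, ← map_comap_eq, card_map_of_injective bi,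
    ← ((N0 μ ν).comap b).index_mul_card] at this
  exact Nat.le_of_mul_le_mul_right this Nat.card_pos
/-- As `GSt.SN.case1`. -/
theorem case1 (h : T ⊓ N ≤ N0 μ ν) : False := by
  have := s.nN
  obtain ⟨τ, hτ⟩ := s.sq.exists_τ m.toBM
  obtain ⟨S, hS⟩ := Syl.iff_sylow.1 (s.syl.inf le_top (le_normalizer_of_normal (H := N)))
  have mS : ∀ x : N, x ∈ (S : Subgroup N) ↔ x.1 ∈ T ⊓ N := fun x => by rw [← hS]; exact (mem_map_iff_mem N.subtype_injective).symm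
  let f := (MonoidHom.fst _ _).comp τ
  have mK : ∀ {x : N} {α β}, Ac μ ν x α β → (x ∈ (f.ker.map (N0 μ ν).subtype).subgroupOf N ↔ m.Θ α = 1) := fun {x α β} a =>
    ⟨fun ⟨⟨y, h0⟩, hy, e⟩ => by subst e; exact (congrArg Prod.fst (hτ a h0)).symm.trans hy,
      fun e => ⟨⟨x, _, _, a⟩, (congrArg Prod.fst (hτ a _)).trans e, rfl⟩⟩
  refine Transfer.not_mem_pResidual_sup_commutator_of_conj_mem_coset S (K := (f.ker.map (N0 μ ν).subtype).subgroupOf N)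
    (g := ⟨φ, p.memN⟩) (commutator_le.2 fun x hx y hy => ?_) ((mS _).2 ⟨s.Γ_T p.mem, p.memN⟩)
    (fun c => p.ι1 ((m.Θ_fl ι).symm.trans ((mK p.ac).1 c))) (Subtype.ext ((_root_.sq φ).trans p.sq)) (fun a ha => ?_) (mem_sup_right ?_)
  · obtain ⟨α, β, a⟩ := h ((mS x).1 hx)
    obtain ⟨α', β', a'⟩ := h ((mS y).1 hy)
    exact (mK (x := ⁅x, y⁆) (((a.mul a').mul a.inv).mul a'.inv)).2 (by rw [map_mul, m.Θ_cj, map_inv, mul_inv_cancel])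
  · obtain ⟨α, β, a'⟩ := h ((mS _).1 ha)
    exact (mK (x := a * _ * a⁻¹ * _) (a'.mul p.ac.inv)).2 (by
      rw [map_mul, map_inv, (s.ty_ph (s.pt p) a').1, m.Θ_fl, mul_inv_cancel])
  · rw [← mem_map_iff_mem N.subtype_injective, map_subtype_commutator, s.pN]; exact p.memN
end SN

end Cfsg.Lib.USt
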