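import Cfsg.Agent.Lib.USt.Z1b

/-!
# S3137/S3128: the groups `Y v`.  See `docs/UST.md`.  Here `O = 1`.  Compare `GSt/Z1`.
`Hy e e'`, `V₀ = hypPerp B e e' ≅ Q / Z`, `γ` the automorphism of `Stab e` induced by `g` (`gd_aut`).
The lemmas are in `USt/Z1a`, `USt/Z1b`.
-/

set_option autoImplicit false

namespace Cfsg.Lib.USt

open Module Subgroup G2S Cfsg.Lib.BG Cfsg.Lib.GW GSt.SLa Cfsg.Lib.Unitary
open scoped commutatorElement Cfsg.Lib.Transfer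

variable {F V : Type*} [Field F] [CharP F 2] [Finite F] [AddCommGroup V] [Module F V] [Finite V] {σ : F →+* F}
  {B : V →ₛₗ[σ] V →ₗ[F] F} {G : Type*} [Group G] [Finite G] {ψ : SUG B →* G} {t g : G} {e : V}

namespace S1
variable (s : S1 ψ t ⊥) (h : Ok B)
include s h

/-- `Y v = ψ x Y₀ (ψ x)⁻¹`, `x e = v` (`vec`); or `Y v = ⨆ (x) (x e = v), Y₀.map (conj (ψ x))`. -/
theorem exists_zp (h0 : e ≠ 0) (he : B e e = 0) (p : Gd ψ t e g) : ∃ Y, ZP ψ t Y := by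
  obtain ⟨w, c, c0, pw⟩ : ∃ w c, c ≠ 0 ∧ W0 ψ t e w c := by
    by_cases hq : ∃ c, σ c = c ∧ c ≠ 0 ∧ c ≠ 1
    · exact s.toSt.w0_big h h0 he hq p
    · obtain ⟨w, k⟩ := s.toSt.w0_two h (fun c hc => by_contra fun z => hq ⟨c, hc, not_or.1 z⟩) h0 he p
      exact ⟨w, 1, one_ne_zero, k⟩
  obtain ⟨w, pw⟩ := s.exists_w h h0 he pw
  obtain ⟨Y, y1, y2, y3, y4, y5⟩ := s.exists_y0 h h0 he c0 pw
  let Z : V → Subgroup G := fun v => ⨅ (x : SUG B) (_ : x.1 e = v), Y.comap (MulAut.conj (ψ x)⁻¹).toMonoidHom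
  have m0 : ∀ v y, y ∈ Z v ↔ ∀ x : SUG B, x.1 e = v → (ψ x)⁻¹ * y * ψ x ∈ Y := fun v y => by simp [Z, mem_iInf]
  have m1 : ∀ (x x' : SUG B) (a b : F) v y, b ≠ 0 → x.1 e = a • v → x'.1 e = b • v → (ψ x)⁻¹ * y * ψ x ∈ Y →
      (ψ x')⁻¹ * y * ψ x' ∈ Y := fun x x' a b v y b0 k k' q => by
    have := y5 (x'⁻¹ * x) (a / b) (inv_eq_of (by rw [map_smul, k', smul_smul, div_mul_cancel₀ _ b0]; exact k.symm)) _ q
    simpa [mul_assoc] using this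
  have m2 : ∀ (x : SUG B) v y, x.1 e = v → (y ∈ Z v ↔ (ψ x)⁻¹ * y * ψ x ∈ Y) := fun x v y k =>
    (m0 v y).trans ⟨fun q => q x k, fun q x' k' => m1 x x' 1 1 v y one_ne_zero (by rw [k, one_smul]) (by rw [k', one_smul]) q⟩
  have tz : ∀ (x : SUG B) y d, E1 ψ t e ((ψ x)⁻¹ * y * ψ x) d → y * t * y⁻¹ = t * ψ (tv B (x.1 e) d) := fun x y d q => by
    calc _ = y * (ψ x * t * (ψ x)⁻¹) * y⁻¹ := by rw [cjf.2 (s.tψ x).symm]
      _ = ψ x * ((ψ x)⁻¹ * y * ψ x * t * ((ψ x)⁻¹ * y * ψ x)⁻¹) * (ψ x)⁻¹ := by group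
      _ = _ := by rw [q.xt, ← conj_mul, cjf.2 (s.tψ x).symm, ← h.tv_conj, map_mul, map_mul, map_inv]
  refine ⟨Z, s, fun x v _ _ y hy => (m0 ..).2 fun x' k => ?_, fun a v a0 v0 hv => ?_, fun v v0 hv y hy x hx => ?_,
    fun v v0 hv c => (m0 ..).2 fun x k => ?_, fun v v0 hv y hy => ?_, fun v v0 hv y hy k => ?_, fun v v0 hv d hd => ?_⟩
  · simpa [mul_assoc] using (m0 ..).1 hy (x⁻¹ * x') (inv_eq_of k.symm)
  · obtain ⟨x, k⟩ := h.vec h0 v0 he hv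
    obtain ⟨x', k'⟩ := h.vec h0 (smul_ne_zero a0 v0) he (by simp [hv])
    ext y
    rw [m2 x _ y k, m2 x' _ y k']
    exact ⟨m1 x' x a 1 v y one_ne_zero k' (by rw [k, one_smul]), m1 x x' 1 a v y a0 (by rw [k, one_smul]) k'⟩
  · obtain ⟨n, rfl⟩ := h.vec h0 v0 he hv
    obtain ⟨d, q⟩ := y1 _ ((m2 n _ y rfl).1 hy)
    simpa [mul_assoc] using cjc (s.e1_cS h h0 he q (n⁻¹ * x * n) (inv_eq_of (mem_Stab.1 hx).symm)) (ψ n)
  · have := y2 c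
    rwa [← inv_eq_of k, ← h.tv_conj, map_mul, map_mul, inv_inv, map_inv] at this
  · obtain ⟨n, rfl⟩ := h.vec h0 v0 he hv
    obtain ⟨d, q⟩ := y1 _ ((m2 n _ y rfl).1 hy)
    exact ⟨d, hy, q.K, tz n y d q⟩
  · obtain ⟨n, rfl⟩ := h.vec h0 v0 he hv
    have hy' := (m2 n _ y rfl).1 hy
    obtain ⟨d, q⟩ := y1 _ hy'
    obtain rfl : d = 0 := Z1.tvi h s.toSt v0 hv q.K (map_zero σ) (by
      rw [h.tv_zero, map_one, ← mul_right_inj t, ← tz n y d q, cjf.2 k, mul_one])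
    obtain ⟨c, hc, r | r⟩ := s.e1_zero h h0 he q
    · exact ⟨c, hc, by rw [← h.tv_conj, map_mul, map_mul, map_inv, ← r]; group⟩
    · exact (y3 ((mul_mem_cancel_left (y2 c)).1 (r ▸ hy'))).elim
  · obtain ⟨n, rfl⟩ := h.vec h0 v0 he hv
    obtain ⟨y, hy, q⟩ := y4 d hd
    have k : (ψ n)⁻¹ * (ψ n * y * (ψ n)⁻¹) * ψ n = y := by group
    exact ⟨ψ n * y * (ψ n)⁻¹, (m2 n _ _ rfl).2 (k.symm ▸ hy), hd, tz n _ d (k.symm ▸ q)⟩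

end S1

end Cfsg.Lib.USt
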