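import Cfsg.Agent.Lib.USt.S0

/-!
# S3137/S3128: the groups `Y v`, part a: the action on `Q / Z`, the elements `E1`.  See `docs/UST.md`.
-/

set_option autoImplicit false
set_option linter.unusedSectionVars false

namespace Cfsg.Lib.USt

open Module Subgroup G2S Cfsg.Lib.BG Cfsg.Lib.GW GSt.SLa Cfsg.Lib.Unitary
open scoped commutatorElement Cfsg.Lib.Transfer

variable {F V : Type*} [Field F] [CharP F 2] [Finite F] [AddCommGroup V] [Module F V] [Finite V] {σ : F →+* F}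
  {B : V →ₛₗ[σ] V →ₗ[F] F} {G : Type*} [Group G] [Finite G] {ψ : SUG B →* G} {t g k k' w x y : G} {e e' f : V} {a c d : F}

/-- `k` normalizes `ψ Q` and acts as `T` on `Q / Z`. -/
def AQ (ψ : SUG B →* G) (e e' : V) (k : G) (T : hypPerp B e e' ≃+ hypPerp B e e') : Prop :=
  ∀ (v : hypPerp B e e') γ, Va B e v γ → ∃ γ', Va B e (T v) γ' ∧ k * ψ (ei B e v γ) * k⁻¹ = ψ (ei B e (T v) γ')

namespace Z1

/-- `AQ` for a function. -/
def AF (ψ : SUG B →* G) (e e' : V) (k : G) (T : hypPerp B e e' → hypPerp B e e') : Prop :=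
  ∀ (v : hypPerp B e e') γ, Va B e v γ → ∃ γ', Va B e (T v) γ' ∧ k * ψ (ei B e v γ) * k⁻¹ = ψ (ei B e (T v) γ')

/-- `k` normalizes `ψ Q`. -/
def NQ (ψ : SUG B →* G) (e : V) (k : G) : Prop := ∀ u ∈ Q B e, ∃ u' ∈ Q B e, k * ψ u * k⁻¹ = ψ u'

variable {T T' : hypPerp B e e' → hypPerp B e e'}

theorem h1 (v : hypPerp B e e') : B e v = 0 := (mem_hypPerp.1 v.2).1
theorem h2 (v : hypPerp B e e') : B e' v = 0 := (mem_hypPerp.1 v.2).2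

theorem lmem {x : SUG B} (hx : x.1 e = e) (hx' : x.1 e' = e') (v : hypPerp B e e') : x.1 v ∈ hypPerp B e e' :=
  mem_hypPerp.2 ⟨by simpa [hx, h1 v] using iso x e v, by simpa [hx', h2 v] using iso x e' v⟩

theorem AF.mul (a : AF ψ e e' k T) (a' : AF ψ e e' k' T') : AF ψ e e' (k * k') (T ∘ T') := fun v γ p =>
  let ⟨_, p1, q1⟩ := a' v γ p
  let ⟨γ2, p2, q2⟩ := a _ _ p1
  ⟨γ2, p2, by rw [Function.comp, ← q2, ← q1]; group⟩

theorem AF.congr (a : AF ψ e e' k T) (q : ∀ v, T v = T' v) : AF ψ e e' k T' := funext q ▸ a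

theorem AF.cen (q : ∀ u ∈ Q B e, k * ψ u = ψ u * k) (h : Ok B) : AF ψ e e' k id := fun v γ p =>
  ⟨γ, p, cjf.2 (q _ (h.ei_mem_Q ..))⟩

theorem NQ.inv (q : NQ ψ e k) : NQ ψ e k⁻¹ := by
  have : k ∈ 𝐍((Q B e).map ψ) := mem_normalizer_fintype (S := ((Q B e).map ψ : Set G)) (by
    rintro _ ⟨u, hu, rfl⟩
    obtain ⟨u', hu', k⟩ := q u hu
    exact ⟨u', hu', k.symm⟩)
  intro u hu
  obtain ⟨u', hu', k⟩ := (mem_normalizer_iff.1 (inv_mem this) (ψ u)).1 ⟨u, hu, rfl⟩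
  exact ⟨u', hu', k.symm⟩

theorem va_diff {v : V} {γ γ' : F} (p : Va B e v γ) (p' : Va B e v γ') : σ (γ + γ') = γ + γ' := by
  rw [map_add]; linear_combination p.tr - p'.tr - aa γ + aa (σ γ')

variable (h : Ok B)
include h

theorem AF.nq (a : AF ψ e e' k T) (p : Hy B e e') : NQ ψ e k := fun u hu => by
  obtain ⟨w, γ, q, h3, rfl⟩ := h.Q_ex p hu
  obtain ⟨γ', -, r⟩ := a ⟨w, mem_hypPerp.2 ⟨q.ew, h3⟩⟩ γ q
  exact ⟨_, h.ei_mem_Q .., r⟩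

theorem Qex (p : Hy B e e') {u : SUG B} (hu : u ∈ Q B e) : ∃ (v : hypPerp B e e') (γ : F), Va B e v γ ∧ u = ei B e v γ :=
  let ⟨w, γ, q, h3, r⟩ := h.Q_ex p hu; ⟨⟨w, mem_hypPerp.2 ⟨q.ew, h3⟩⟩, γ, q, r⟩

theorem vex (p : Hy B e e') (v : hypPerp B e e') : ∃ γ, Va B e v γ := h.va_ex p.ee (h1 v)

/-- The action of an element of the point stabilizer. -/
theorem af_lin {x : SUG B} (hx : x.1 e = a • e) (q : ∀ v : hypPerp B e e', (T v).1 = σ a • x.1 v) : AF ψ e e' (ψ x) T := fun v γ p => by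
  have a0 : a ≠ 0 ∨ e = 0 := by
    by_cases z : a = 0
    · exact .inr (by simpa [z] using hx)
    · exact .inl z
  have p1 : Va B e (x.1 v) γ := ⟨p.ee, by
    have := (p.map x).ew
    rcases a0 with a0 | rfl
    · simpa [hx, a0] using this
    · simp, by simp [p.tr]⟩
  refine ⟨a * σ a * γ, q v ▸ h.va_smul p1 a, ?_⟩
  rw [← map_inv, ← map_mul, ← map_mul, h.ei_conj, hx, h.ei_smul p1, q]

theorem ei_cj {u v : V} {γ δ : F} (p : Va B e u γ) (q : Va B e v δ) :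
    ei B e u γ * ei B e v δ * (ei B e u γ)⁻¹ = ei B e v δ * tv B e (bf B u v) := by
  rw [h.ei_swap p q, mul_assoc (ei B e v δ), h.stab_tv (Q_le (h.ei_mem_Q ..))]; group

theorem af_Q (p : Hy B e e') {u : SUG B} (hu : u ∈ Q B e) : AF ψ e e' (ψ u) id := fun v γ q => by
  obtain ⟨w, δ, r, rfl⟩ := Qex h p hu
  exact ⟨_, h.va_add q (h.bfK w v), by rw [← map_inv, ← map_mul, ← map_mul, ei_cj h r q, h.ei_tv q (h.bfK ..)]; rfl⟩

/-- A torus element acting as a scalar on `Q / Z`. -/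
theorem xa_ex (p : Hy B e e') (ha : σ a = a) (a0 : a ≠ 0) : ∃ x : SUG B, x.1 e = a • e ∧ ∀ v : hypPerp B e e', x.1 v = v := by
  obtain ⟨f, f', r⟩ := h.fr_ex' p
  obtain ⟨x, hx⟩ := h.tq_ex r a0 one_ne_zero (by simpa using ha)
  exact ⟨x, (h.tq_ap r hx).1, fun v => by rw [hx]; simp [h1 v, h2 v, aa]⟩

theorem xa_ex' (h0 : e ≠ 0) (he : B e e = 0) (ha : σ a = a) (a0 : a ≠ 0) : ∃ x : SUG B, x.1 e = a • e :=
  let ⟨_, p⟩ := h.hy_ex h0 he; let ⟨x, k, _⟩ := xa_ex h p ha a0; ⟨x, k⟩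

theorem hnt (p : Hy B e e') : ∃ v : hypPerp B e e', v ≠ 0 :=
  let ⟨f, _, r⟩ := h.fr_ex' p
  ⟨⟨f, mem_hypPerp.2 ⟨r.ef, r.e'f⟩⟩, fun z => r.hf.ne (congrArg Subtype.val z)⟩

variable (s : St ψ t)
include s

theorem Qinj (h0 : e ≠ 0) {u u' : SUG B} (hu : u ∈ Q B e) (hu' : u' ∈ Q B e) (k : ψ u = ψ u') : u = u' :=
  s.stab_inj h h0 (Q_le hu) (Q_le hu') k

theorem tvi (h0 : e ≠ 0) (he : B e e = 0) (hc : σ c = c) (hd : σ d = d) (k : ψ (tv B e c) = ψ (tv B e d)) : c = d :=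
  h.tv_inj h0 he hc hd (Qinj h s h0 (h.tv_mem_Q ..) (h.tv_mem_Q ..) k)

theorem eii (p : Hy B e e') {v w : hypPerp B e e'} {γ δ : F} (q : Va B e v γ) (q' : Va B e w δ)
    (k : ψ (ei B e v γ) = ψ (ei B e w δ)) : v = w ∧ γ = δ :=
  let r := h.ei_inj' p (h2 v) (h2 w) q q' (Qinj h s p.ne (h.ei_mem_Q ..) (h.ei_mem_Q ..) k)
  ⟨Subtype.ext r.1, r.2⟩

theorem AF.uniq (p : Hy B e e') (a : AF ψ e e' k T) (a' : AF ψ e e' k T') (v : hypPerp B e e') : T v = T' v := by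
  obtain ⟨γ, q⟩ := vex h p v
  obtain ⟨_, q1, r1⟩ := a v γ q
  obtain ⟨_, q2, r2⟩ := a' v γ q
  exact (eii h s p q1 q2 (r1.symm.trans r2)).1

theorem NQ.z (h0 : e ≠ 0) (he : B e e = 0) (q : NQ ψ e k) (c : F) : ∃ d, σ d = d ∧ k * ψ (tv B e c) * k⁻¹ = ψ (tv B e d) := by
  obtain ⟨u, hu, r⟩ := q _ (h.tv_mem_Q e c)
  obtain ⟨d, hd, rfl⟩ := h.zq h0 he (Q_le hu) fun v hv => by
    obtain ⟨v', hv', r'⟩ := q.inv v hv
    refine Qinj h s h0 (mul_mem hu hv) (mul_mem hv hu) ?_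
    have e1 : ψ v = k * ψ v' * k⁻¹ := by rw [← r']; group
    rw [map_mul, map_mul, ← r, e1]
    exact cjc (by rw [← map_mul, ← map_mul, h.stab_tv (Q_le hv')]) k
  exact ⟨d, hd, r⟩

theorem af_ex (p : Hy B e e') (q : NQ ψ e k) : ∃ T, AF ψ e e' k T := by
  have key : ∀ v : hypPerp B e e', ∃ w : hypPerp B e e', ∀ γ, Va B e v γ → ∃ γ', Va B e w γ' ∧
      k * ψ (ei B e v γ) * k⁻¹ = ψ (ei B e w γ') := fun v => by
    obtain ⟨γ, r⟩ := vex h p v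
    obtain ⟨u, hu, r1⟩ := q _ (h.ei_mem_Q e v γ)
    obtain ⟨w, δ, r2, rfl⟩ := Qex h p hu
    refine ⟨w, fun γ' r' => ?_⟩
    obtain ⟨d, hd, r3⟩ := q.z h s p.ne p.ee (γ + γ')
    refine ⟨_, h.va_add r2 hd, ?_⟩
    rw [show γ' = γ + (γ + γ') by rw [← add_assoc, aa, zero_add], ← h.ei_tv r (va_diff r r'), ← h.ei_tv r2 hd, map_mul, map_mul,
      ← r1, ← r3, conj_mul]
  choose T hT using key
  exact ⟨T, hT⟩

theorem AF.add (p : Hy B e e') (a : AF ψ e e' k T) (v w : hypPerp B e e') : T (v + w) = T v + T w := by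
  obtain ⟨γ, q⟩ := vex h p v
  obtain ⟨δ, q'⟩ := vex h p w
  obtain ⟨_, q1, r1⟩ := a v γ q
  obtain ⟨_, q2, r2⟩ := a w δ q'
  obtain ⟨_, q3, r3⟩ := a (v + w) _ (h.va_mul q q')
  refine (eii h s p q3 (w := T v + T w) (h.va_mul q1 q2) ?_).1
  rw [← r3, Submodule.coe_add, Submodule.coe_add, ← h.ei_mul q q', ← h.ei_mul q1 q2, map_mul, map_mul, ← r1, ← r2, conj_mul]

theorem AF.inv (p : Hy B e e') {T : hypPerp B e e' ≃+ hypPerp B e e'} (a : AF ψ e e' k T) : AF ψ e e' k⁻¹ T.symm := by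
  obtain ⟨T', a'⟩ := af_ex h s p (a.nq h p).inv
  refine a'.congr fun v => ?_
  obtain ⟨v, rfl⟩ := T.surjective v
  have := (a'.mul a).uniq h s p (AF.cen (by simp) h) v
  simpa using this

theorem AF.cm (p : Hy B e e') (a : AF ψ e e' k T) (v w : hypPerp B e e') :
    k * ψ (tv B e (bf B v.1 w.1)) * k⁻¹ = ψ (tv B e (bf B (T v).1 (T w).1)) := by
  obtain ⟨γ, q⟩ := vex h p v
  obtain ⟨δ, q'⟩ := vex h p w
  obtain ⟨_, q1, r1⟩ := a v γ q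
  obtain ⟨_, q2, r2⟩ := a w δ q'
  rw [h.tv_cm' q q', h.tv_cm' q1 q2, map_commutatorElement, map_commutatorElement, ← r1, ← r2, conjugate_commutatorElement]

theorem AF.chi (p : Hy B e e') (a : AF ψ e e' k T) : ∃ χ : F → F, χ 0 = 0 ∧ (∀ c, σ (χ c) = χ c) ∧
    (∀ c, k * ψ (tv B e c) * k⁻¹ = ψ (tv B e (χ c))) ∧ ∀ v w, bf B (T v).1 (T w).1 = χ (bf B v.1 w.1) := by
  choose χ h1 h2 using (a.nq h p).z h s p.ne p.ee
  refine ⟨χ, tvi h s p.ne p.ee (h1 0) (map_zero σ) (by rw [← h2]; simp [h.tv_zero]), h1, h2, fun v w => ?_⟩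
  exact tvi h s p.ne p.ee (h.bfK ..) (h1 _) (by rw [← h2, a.cm h s p])

omit h in
theorem tz (x : SUG B) : ψ x * t = t * ψ x := (s.tψ x).symm

/-- `k⁻¹ t k` if `k t k⁻¹ = t z` and `k` centralizes `z`. -/
theorem inv_t (c : F) (k1 : k * t * k⁻¹ = t * ψ (tv B e c)) (k2 : k * ψ (tv B e c) = ψ (tv B e c) * k) :
    k⁻¹ * t * k = t * ψ (tv B e c) := by
  have e1 : ψ (tv B e c) * ψ (tv B e c) = 1 := by rw [← map_mul, h.tv_sq, map_one]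
  calc k⁻¹ * t * k = k⁻¹ * (t * ψ (tv B e c)) * (ψ (tv B e c) * k) := by
        simp only [mul_assoc]; rw [← mul_assoc (ψ _), e1, one_mul]
    _ = k⁻¹ * (k * t * k⁻¹) * (k * ψ (tv B e c)) := by rw [k1, k2]
    _ = _ := by group

theorem w0_of (p : Hy B e e') (hc : σ c = c) (h1 : w * t * w⁻¹ = t * ψ (tv B e c)) (a : AF ψ e e' w id) : W0 ψ t e w c := by
  refine ⟨hc, h1, fun d => ?_, fun u hu => ?_⟩
  · by_cases hd : σ d = d
    · obtain ⟨u, hu, v, hv, r⟩ := h.tv_cm p.ne p.ee hd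
      obtain ⟨u, γ, q, rfl⟩ := Qex h p hu
      obtain ⟨v, δ, q', rfl⟩ := Qex h p hv
      rw [r, ← h.tv_cm' q q']
      exact cjf.1 (a.cm h s p u v)
    · simp [tv, ei_junk fun k => hd (Va.fix k)]
  · obtain ⟨u, γ, q, rfl⟩ := Qex h p hu
    obtain ⟨γ', q', r⟩ := a u γ q
    exact ⟨γ + γ', va_diff q q', by rw [r, h.ei_tv q (va_diff q q'), ← add_assoc, aa, zero_add]; rfl⟩

end Z1

open Z1

namespace St
variable (s : St ψ t) (h : Ok B)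
include s h

/-- The centre of `Q` is `Z` (`zq`), so `k` normalizes `ψ Z`; `Q_ex`, `ei_inj'`, `inj2` (`ei_two`); finiteness. -/
theorem aq_ex (p : Hy B e e') (hk : ∀ u ∈ Q B e, ∃ u' ∈ Q B e, k * ψ u * k⁻¹ = ψ u') : ∃ T, AQ ψ e e' k T := by
  obtain ⟨T, a⟩ := af_ex h s p hk
  obtain ⟨T', a'⟩ := af_ex h s p (NQ.inv hk)
  exact ⟨⟨⟨T, T', fun v => (a'.mul a).uniq h s p (AF.cen (by simp) h) v, fun v => (a.mul a').uniq h s p (AF.cen (by simp) h) v⟩,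
    a.add h s p⟩, a⟩

/-- `O2`. -/
theorem gd_Q (h0 : e ≠ 0) (he : B e e = 0) (p : Gd ψ t e g) : (∀ u ∈ Q B e, ∃ u' ∈ Q B e, g * ψ u * g⁻¹ = ψ u') ∧
    ∀ u ∈ Q B e, ∃ u' ∈ Q B e, g⁻¹ * ψ u * g = ψ u' := by
  obtain ⟨γ, hγ⟩ := s.gd_aut h h0 p
  have n : ((Q B e).subgroupOf (Stab B e)).Normal :=
    ⟨fun u hu x => h.Q_conj (a := 1) (by rw [one_smul]; exact x.2) hu⟩
  have n' : (((Q B e).subgroupOf (Stab B e)).map γ.toMonoidHom).Normal := n.map _ γ.surjective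
  have q : NQ ψ e g := fun u hu => ⟨_, h.O2 h0 he (P := ((Q B e).subgroupOf (Stab B e)).map γ.toMonoidHom)
    ((h.Q_two h0 he).comap_subtype.map _) ⟨⟨u, Q_le hu⟩, hu, rfl⟩, hγ ⟨u, Q_le hu⟩⟩
  exact ⟨q, by simpa [NQ] using q.inv⟩

/-- Commutators (`ei_swap`). -/
theorem aq_cm (p : Hy B e e') {T : hypPerp B e e' ≃+ hypPerp B e e'} (a : AQ ψ e e' k T) (v w : hypPerp B e e') :
    k * ψ (tv B e (bf B v.1 w.1)) * k⁻¹ = ψ (tv B e (bf B (T v).1 (T w).1)) := AF.cm h s p a v w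

/-- `tv_cm`. -/
theorem w0_of (p : Hy B e e') (hc : σ c = c) (h1 : w * t * w⁻¹ = t * ψ (tv B e c)) (a : AQ ψ e e' w (.refl _)) : W0 ψ t e w c :=
  Z1.w0_of h s p hc h1 a

/-- `x_a = Tq (a, 1)`, `a ∈ K`, `a ≠ 0, 1`, acts on `V₀` as `a`.  `g x_a g⁻¹` acts as `M = T a T⁻¹`, and `bf (M v) w = φ (bf v w)`
(`φ` = the action of `g (tv e c ↦ tv e (a c)) g⁻¹`), `centroid`: `M = ρ ∈ K`.  `w = g x_a g⁻¹ x_ρ⁻¹` is trivial on `V₀`;
`w t w⁻¹ = t z γ (tv e a²)`, and `γ (tv e a²) ≠ γ z = z`. -/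
theorem w0_big (h0 : e ≠ 0) (he : B e e = 0) (hq : ∃ c, σ c = c ∧ c ≠ 0 ∧ c ≠ 1) (p : Gd ψ t e g) : ∃ w c, c ≠ 0 ∧ W0 ψ t e w c := by
  obtain ⟨a, ha, a0, a1⟩ := hq
  obtain ⟨e', q⟩ := h.hy_ex h0 he
  obtain ⟨T, hT⟩ := s.aq_ex h q (s.gd_Q h h0 he p).1
  have hT' := AF.inv h s q hT
  obtain ⟨χ, c0, cK, c1, c2⟩ := AF.chi h s q hT
  obtain ⟨χ', c0', cK', -, c2'⟩ := hT'.chi h s q
  obtain ⟨ρ, hρ, r⟩ := h.centroid q (T.toAddMonoidHom.comp ((DistribSMul.toAddMonoidHom _ a).comp T.symm.toAddMonoidHom))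
    (fun d => χ (a * χ' d)) (by simp [c0, c0']) fun v w => by
      have := c2 (a • T.symm v) (T.symm w)
      rw [Submodule.coe_smul, bf_smul_left ha, c2', T.apply_symm_apply] at this
      exact this
  replace r : ∀ v, T (a • T.symm v) = ρ • v := r
  have ρ0 : ρ ≠ 0 := by
    rintro rfl
    obtain ⟨v, hv⟩ := hnt h q
    simpa [a0, hv] using r v
  obtain ⟨x, x1, x2⟩ := xa_ex h q ha a0
  obtain ⟨y, y1, y2⟩ := xa_ex h q (a := ρ⁻¹) (by rw [map_inv₀, hρ]) (inv_ne_zero ρ0)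
  have ax : AF ψ e e' (ψ x) (fun v => a • v) := af_lin h x1 fun v => by rw [x2, ha]; rfl
  have ay : AF ψ e e' (ψ y) (fun v => ρ⁻¹ • v) := af_lin h y1 fun v => by rw [y2, map_inv₀, hρ]; rfl
  have K : σ (1 + χ (a * a)) = 1 + χ (a * a) := by rw [map_add, map_one, cK]
  refine ⟨g * ψ x * g⁻¹ * ψ y, 1 + χ (a * a), fun z => a1 ?_, Z1.w0_of h s q K ?_ ?_⟩
  · have e1 := c1 (a * a)
    rw [← CharTwo.add_eq_zero.1 z, ← cjf.2 p.gz] at e1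
    have e2 := tvi h s h0 he (by rw [map_mul, ha]) (map_one σ) (by simpa using e1)
    exact sq_inj (by rw [e2, one_mul])
  · have e1 := inv_t h s 1 p.gt p.gz
    have e2 : ψ x * ψ (tv B e 1) * (ψ x)⁻¹ = ψ (tv B e (a * a)) := by
      rw [← map_inv, ← map_mul, ← map_mul, h.tv_conj, x1, h.tv_smul he (map_one σ), ha, mul_one]
    calc _ = g * (ψ x * (g⁻¹ * (ψ y * t * (ψ y)⁻¹) * g) * (ψ x)⁻¹) * g⁻¹ := by group
      _ = g * (ψ x * t * (ψ x)⁻¹) * g⁻¹ * (g * (ψ x * ψ (tv B e 1) * (ψ x)⁻¹) * g⁻¹) := by rw [cjf.2 (tz s y), e1]; group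
      _ = _ := by rw [cjf.2 (tz s x), e2, p.gt, c1, h.tv_add he (map_one σ) (cK _), map_mul, mul_assoc]
  · exact (((AF.mul hT ax).mul hT').mul ay).congr fun v => by simp [r, ρ0]

end St

namespace S1
variable (s : S1 ψ t ⊥) (h : Ok B)
include s h

theorem cq0 (h0 : e ≠ 0) (he : B e e = 0) (h1 : k * t = t * k) (h2 : ∀ u ∈ Q B e, k * ψ u = ψ u * k) :
    ∃ c, σ c = c ∧ (k = ψ (tv B e c) ∨ k = ψ (tv B e c) * t) := by
  simpa using s.cq h h0 he h1 h2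

theorem cq0' (h0 : e ≠ 0) (he : B e e = 0) (h1 : k * t = t * k)
    (h2 : ∀ u ∈ Q B e, ∃ d, σ d = d ∧ k * ψ u * k⁻¹ = ψ (u * tv B e d)) : ∃ u ∈ Q B e, k = ψ u ∨ k = ψ u * t := by
  simpa using s.cq' h h0 he h1 h2

/-- `w ψ (ei e v γ) w⁻¹ = ψ (ei e v γ · tv e (δ v))`, `δ : V₀ →+ K`.  For `x ∈ Stab e` fixing `e'`, `⁅w, ψ x⁆ ∈ C(t)` is trivial on `Q / Z`,
so lies in `ψ Q ⟨t⟩` (`cq'`): `v ↦ δ (x v + v)` is `bf v₀`.  `q ≥ 4`: `x = Tq (1, a)` on a frame through an isotropic `f ∈ V₀` shows that `δ` is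
`K`-linear on `F f`; `indH`.  (`q = 2`: additive is `K`-linear.)  `bf_dual`: `δ = bf v₀`, replace `w` by `(ψ (ei e v₀ _))⁻¹ w`. -/
theorem exists_w (h0 : e ≠ 0) (he : B e e = 0) (p : W0 ψ t e w c) : ∃ w, E1 ψ t e w c := by
  obtain ⟨e', q⟩ := h.hy_ex h0 he
  have s' := s.toSt
  have key : ∀ v : hypPerp B e e', ∃ d, σ d = d ∧ ∀ γ, Va B e v γ →
      w * ψ (ei B e v γ) * w⁻¹ = ψ (ei B e v γ) * ψ (tv B e d) := fun v => by
    obtain ⟨γ, r⟩ := vex h q v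
    obtain ⟨d, hd, r1⟩ := p.wQ _ (h.ei_mem_Q e v γ)
    refine ⟨d, hd, fun γ' r' => ?_⟩
    rw [show γ' = γ + (γ + γ') by rw [← add_assoc, aa, zero_add], ← h.tv_ei r (va_diff r r'), map_mul, ← conj_mul, r1,
      cjf.2 (p.wz _), map_mul, mul_assoc]
  choose δ dK hδ using key
  have zc : ∀ d, ∀ u ∈ Stab B e, ψ (tv B e d) * ψ u = ψ u * ψ (tv B e d) := fun d u hu => by
    rw [← map_mul, ← map_mul, h.stab_tv hu]
  have zq : ∀ d v γ, ψ (tv B e d) * ψ (ei B e v γ) = ψ (ei B e v γ) * ψ (tv B e d) := fun d v γ => zc _ _ (Q_le (h.ei_mem_Q ..))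
  have zz : ∀ d, ψ (tv B e d) * ψ (tv B e d) = 1 := fun d => by rw [← map_mul, h.tv_sq, map_one]
  have add : ∀ v v', δ (v + v') = δ v + δ v' := fun v v' => by
    obtain ⟨γ, r⟩ := vex h q v
    obtain ⟨γ', r'⟩ := vex h q v'
    have e1 := hδ (v + v') _ (h.va_mul r r')
    rw [Submodule.coe_add, ← h.ei_mul r r', map_mul, ← conj_mul, hδ _ _ r, hδ _ _ r', mul_assoc, ← mul_assoc (ψ (tv ..)), zq,
      mul_assoc, ← mul_assoc, mul_right_inj, ← map_mul, ← h.tv_add he (dK _) (dK _)] at e1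
    exact tvi h s' h0 he (dK _) (by rw [map_add, dK, dK]) e1.symm
  have zero : δ 0 = 0 := by simpa using add 0 0
  have inv : ∀ (v : hypPerp B e e') γ, Va B e v γ → w⁻¹ * ψ (ei B e v γ) * w = ψ (ei B e v γ) * ψ (tv B e (δ v)) := fun v γ r => by
    calc _ = w⁻¹ * (ψ (ei B e v γ) * ψ (tv B e (δ v))) * (ψ (tv B e (δ v)) * w) := by
          simp only [mul_assoc]; rw [← mul_assoc (ψ (tv ..)), zz, one_mul]
      _ = w⁻¹ * (w * ψ (ei B e v γ) * w⁻¹) * (w * ψ (tv B e (δ v))) := by rw [hδ v γ r, p.wz]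
      _ = _ := by group
  -- commutators with the Levi factor
  have lev : ∀ x : SUG B, x.1 e = e → x.1 e' = e' → ∃ v₀ : hypPerp B e e', ∀ v v' : hypPerp B e e', x.1 v = v' → δ (v' + v) = bf B v₀.1 v.1 := by
    intro x hx hx'
    have act : ∀ (v : hypPerp B e e') γ, Va B e v γ → ∀ v' : hypPerp B e e', x.1 v = v' →
        (w * (ψ x)⁻¹ * w⁻¹ * ψ x) * ψ (ei B e v γ) * (w * (ψ x)⁻¹ * w⁻¹ * ψ x)⁻¹ = ψ (ei B e v γ * tv B e (δ (v' + v))) := by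
      intro v γ r v' hv
      have r' : Va B e v' γ := by simpa [hx, hv] using r.map x
      have e1 : ψ x * ψ (ei B e v γ) * (ψ x)⁻¹ = ψ (ei B e v' γ) := by rw [← map_inv, ← map_mul, ← map_mul, h.ei_conj, hx, hv]
      calc _ = w * ((ψ x)⁻¹ * (w⁻¹ * (ψ x * ψ (ei B e v γ) * (ψ x)⁻¹) * w) * ψ x) * w⁻¹ := by group
        _ = w * ((ψ x)⁻¹ * (ψ x * ψ (ei B e v γ) * (ψ x)⁻¹) * (ψ (tv B e (δ v')) * ψ x)) * w⁻¹ := by
          rw [e1, inv v' γ r']; group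
        _ = w * ψ (ei B e v γ) * w⁻¹ * (w * ψ (tv B e (δ v')) * w⁻¹) := by rw [zc _ x hx]; group
        _ = _ := by rw [hδ v γ r, cjf.2 (p.wz _), add, add_comm, h.tv_add he (dK _) (dK _), map_mul, map_mul, mul_assoc]
    have kt : w * (ψ x)⁻¹ * w⁻¹ * ψ x * t = t * (w * (ψ x)⁻¹ * w⁻¹ * ψ x) := cjf.1 (by
      calc _ = w * ((ψ x)⁻¹ * (w⁻¹ * (ψ x * t * (ψ x)⁻¹) * w) * ψ x) * w⁻¹ := by group
        _ = w * ((ψ x)⁻¹ * (ψ x * t * (ψ x)⁻¹) * (ψ (tv B e c) * ψ x)) * w⁻¹ := by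
          rw [cjf.2 (tz s' x), inv_t h s' c p.wt (p.wz c)]; group
        _ = w * t * w⁻¹ * (w * ψ (tv B e c) * w⁻¹) := by rw [zc _ x hx]; group
        _ = t := by rw [p.wt, cjf.2 (p.wz _), mul_assoc, zz, mul_one])
    obtain ⟨u, hu, r⟩ := s.cq0' h h0 he kt fun u hu => by
      obtain ⟨v, γ, r, rfl⟩ := Qex h q hu
      exact ⟨_, dK _, act v γ r ⟨x.1 v, lmem hx hx' v⟩ rfl⟩
    obtain ⟨v₀, γ₀, r₀, rfl⟩ := Qex h q hu
    refine ⟨v₀, fun v v' hv => ?_⟩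
    obtain ⟨γ, r1⟩ := vex h q v
    have e1 := act v γ r1 v' hv
    have e2 : ψ (ei B e v₀ γ₀) * ψ (ei B e v γ) * (ψ (ei B e v₀ γ₀))⁻¹ = ψ (ei B e v γ * tv B e (bf B v₀.1 v.1)) := by
      rw [← map_inv, ← map_mul, ← map_mul, ei_cj h r₀ r1]
    refine tvi h s' h0 he (dK _) (h.bfK ..) (mul_left_cancel (a := ψ (ei B e v γ)) ?_)
    rw [← map_mul, ← map_mul, ← e1, ← e2]
    rcases r with r | r <;> rw [r]
    rw [mul_assoc _ t, s.tψ]; group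
  have lin : ∀ a (v : hypPerp B e e'), σ a = a → δ (a • v) = a * δ v := fun a v ha => by
    by_cases a0 : a = 0
    · simp [a0, zero]
    by_cases a1 : a = 1
    · simp [a1]
    refine h.indH q (P := fun v => ∀ hv : v ∈ hypPerp B e e', δ (a • ⟨v, hv⟩) = a * δ ⟨v, hv⟩) (fun u uu u1 u2 hu => ?_)
      (fun u v u1 u2 v1 v2 pu pv huv => ?_) (h1 v) (h2 v) v.2
    · by_cases u0 : u = 0
      · subst u0; simp [show (⟨0, hu⟩ : hypPerp B e e') = 0 from rfl, zero]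
      obtain ⟨f', r⟩ := h.fr_ex'' q u0 uu u1 u2
      obtain ⟨x, hx⟩ := h.tq_ex r one_ne_zero a0 (by simpa using ha)
      obtain ⟨x1, x2, x3, -⟩ := h.tq_ap r hx
      obtain ⟨v₀, hv₀⟩ := lev x (by simpa using x1) (by simpa using x2)
      have a1' : a + 1 ≠ 0 := fun z => a1 (CharTwo.add_eq_zero.1 z)
      have key : ∀ b : F, δ (b • ⟨u, hu⟩) = bf B v₀.1 ((b / (a + 1)) • u) := fun b => by
        refine Eq.trans ?_ (hv₀ ((b / (a + 1)) • ⟨u, hu⟩) ((a * (b / (a + 1))) • ⟨u, hu⟩) (by simp [x3, smul_smul, mul_comm]))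
        rw [← add_smul]; congr 2; field_simp
      have := key 1
      rw [one_smul] at this
      rw [key, this, ← bf_smul_right ha, smul_smul, mul_one_div]
    · have := add (a • ⟨u, mem_hypPerp.2 ⟨u1, u2⟩⟩) (a • ⟨v, mem_hypPerp.2 ⟨v1, v2⟩⟩)
      rw [pu, pv, ← mul_add, ← add, ← smul_add] at this
      exact this
  obtain ⟨v₀, hv₀⟩ := h.bf_dual q (AddMonoidHom.mk' δ add) dK lin
  obtain ⟨γ₀, r₀⟩ := vex h q v₀
  refine ⟨ψ (ei B e v₀ γ₀) * w, p.K, ?_, fun u hu => cjf.1 ?_⟩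
  · calc _ = ψ (ei B e v₀ γ₀) * (w * t * w⁻¹) * (ψ (ei B e v₀ γ₀))⁻¹ := by group
      _ = _ := by rw [p.wt, ← mul_assoc, tz s', mul_assoc t, ← zq]; group
  · obtain ⟨v, γ, r, rfl⟩ := Qex h q hu
    calc _ = ψ (ei B e v₀ γ₀) * (w * ψ (ei B e v γ) * w⁻¹) * (ψ (ei B e v₀ γ₀))⁻¹ := by group
      _ = ψ (ei B e v₀ γ₀ * ei B e v γ * (ei B e v₀ γ₀)⁻¹) * ψ (tv B e (δ v)) := by
        rw [hδ v γ r, map_mul, map_mul, map_inv, mul_assoc _ _ (ψ (tv ..)), ← map_inv, ← zc _ _ (inv_mem (Q_le (h.ei_mem_Q ..)))]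
        group
      _ = _ := by rw [ei_cj h r₀ r, map_mul, mul_assoc, ← hv₀ v, AddMonoidHom.mk'_apply, zz, mul_one]

omit [Finite F] [Finite G] in
theorem e1_mul (he : B e e = 0) (p : E1 ψ t e x c) (p' : E1 ψ t e y d) : E1 ψ t e (x * y) (c + d) := by
  refine ⟨by rw [map_add, p.K, p'.K], ?_, fun u hu => by rw [mul_assoc, p'.cQ u hu, ← mul_assoc, p.cQ u hu, mul_assoc]⟩
  calc _ = x * (y * t * y⁻¹) * x⁻¹ := by group
    _ = x * t * x⁻¹ * (x * ψ (tv B e d) * x⁻¹) := by rw [p'.xt]; group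
    _ = _ := by rw [p.xt, cjf.2 (p.cQ _ (h.tv_mem_Q ..)), h.tv_add he p.K p'.K, map_mul, mul_assoc]

omit [Finite F] [Finite G] in
theorem e1_inv (he : B e e = 0) (p : E1 ψ t e x c) : E1 ψ t e x⁻¹ c := by
  refine ⟨p.K, ?_, fun u hu => (show Commute x (ψ u) from p.cQ u hu).inv_left⟩
  have e1 : ψ (tv B e c) * ψ (tv B e c) = 1 := by rw [← map_mul, h.tv_sq, map_one]
  calc _ = x⁻¹ * (t * ψ (tv B e c)) * (ψ (tv B e c) * x) := by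
        simp only [mul_assoc]; rw [← mul_assoc (ψ _), e1, one_mul, inv_inv]
    _ = x⁻¹ * (x * t * x⁻¹) * (x * ψ (tv B e c)) := by rw [p.xt, p.cQ _ (h.tv_mem_Q ..)]
    _ = _ := by group

theorem e1_conj (h0 : e ≠ 0) (he : B e e = 0) (p : E1 ψ t e x c) (n : SUG B) {a : F} (k : n.1 e = a • e) :
    E1 ψ t e (ψ n * x * (ψ n)⁻¹) (a * σ a * c) := by
  have a0 : a ≠ 0 := fun z => h0 (by simpa [z] using k)
  refine ⟨by rw [map_mul, h.nK, p.K], ?_, fun u hu => ?_⟩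
  · calc _ = ψ n * (x * ((ψ n)⁻¹ * t * ψ n) * x⁻¹) * (ψ n)⁻¹ := by group
      _ = ψ n * t * (ψ n)⁻¹ * ψ (n * tv B e c * n⁻¹) := by
        rw [mul_assoc _ t, s.tψ, inv_mul_cancel_left, p.xt, map_mul, map_mul, map_inv]; group
      _ = _ := by rw [cjf.2 (s.tψ n).symm, h.tv_conj, k, h.tv_smul he p.K]
  · have := cjc (p.cQ _ (h.Q_conj (x := n⁻¹) (a := a⁻¹) (inv_eq_of (by rw [map_smul, k, inv_smul_smul₀ a0])) hu)) (ψ n)
    simpa [mul_assoc] using this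

theorem e1_uniq (h0 : e ≠ 0) (he : B e e = 0) (p : E1 ψ t e x c) (p' : E1 ψ t e x d) : c = d :=
  tvi h s.toSt h0 he p.K p'.K (mul_left_cancel (p.xt.symm.trans p'.xt))

theorem e1_zero (h0 : e ≠ 0) (he : B e e = 0) (p : E1 ψ t e x 0) : ∃ c, σ c = c ∧ (x = ψ (tv B e c) ∨ x = ψ (tv B e c) * t) :=
  s.cq0 h h0 he (cjf.1 (by simpa [h.tv_zero] using p.xt)) p.cQ

theorem e1_tv (e : V) (c : F) : E1 ψ t e (ψ (tv B e c)) 0 :=
  ⟨map_zero σ, by rw [cjf.2 (s.tψ _).symm, h.tv_zero, map_one, mul_one], fun u hu => by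
    rw [← map_mul, ← map_mul, h.stab_tv (Q_le hu)]⟩

theorem e1_t (e : V) : E1 ψ t e t 0 := ⟨map_zero σ, by simp [h.tv_zero], fun u _ => s.tψ u⟩

theorem zsq (e : V) (c : F) : ψ (tv B e c) * ψ (tv B e c) = 1 := by rw [← map_mul, h.tv_sq, map_one]

theorem zt_sq (e : V) (c : F) : ψ (tv B e c) * t * (ψ (tv B e c) * t) = 1 := by
  rw [mul_assoc, ← mul_assoc t, s.tψ, mul_assoc, s.t2, mul_one, s.zsq h]

theorem t_ne (x : SUG B) : t ≠ ψ x := fun k => s.not_mem h.bm ⟨x, k.symm⟩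

/-- `x² ∈ ψ Z t` is impossible: `x` commutes with `x²`. -/
theorem e1_sq (h0 : e ≠ 0) (he : B e e = 0) (p : E1 ψ t e x d) : ∃ c, σ c = c ∧ x * x = ψ (tv B e c) := by
  obtain ⟨c, hc, k | k⟩ := s.e1_zero h h0 he (aa d ▸ s.e1_mul h he p p)
  · exact ⟨c, hc, k⟩
  have k1 : x * t * x⁻¹ = t := by
    refine mul_left_cancel (a := ψ (tv B e c)) ?_
    rw [← k, ← mul_assoc, ← mul_assoc, ← p.cQ _ (h.tv_mem_Q ..), mul_assoc x, ← k]; group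
  obtain ⟨c', -, k' | k'⟩ := s.cq0 h h0 he (cjf.1 k1) p.cQ
  · exact ⟨0, map_zero σ, by rw [k', s.zsq h, h.tv_zero, map_one]⟩
  · exact ⟨0, map_zero σ, by rw [k', s.zt_sq h, h.tv_zero, map_one]⟩

/-- `u ↦ ⁅ψ u, x⁆` is a homomorphism from `Stab e` to the elementary abelian group `⟨t⟩ ψ Z`; it kills triangle involutions; `gen`. -/
theorem e1_cS (h0 : e ≠ 0) (he : B e e = 0) (p : E1 ψ t e x d) : ∀ u ∈ Stab B e, x * ψ u = ψ u * x := by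
  have A : ∀ u ∈ Stab B e, ∃ c, ψ u * x * (ψ u)⁻¹ * x⁻¹ = ψ (tv B e c) ∨ ψ u * x * (ψ u)⁻¹ * x⁻¹ = ψ (tv B e c) * t := fun u hu => by
    have := s.e1_mul h he (s.e1_conj h h0 he p u (a := 1) (by rw [one_smul]; exact hu)) (s.e1_inv h he p)
    rw [map_one, one_mul, one_mul, aa] at this
    exact let ⟨c, _, k⟩ := s.e1_zero h h0 he this; ⟨c, k⟩
  have c1 : ∀ u ∈ Stab B e, ∀ v ∈ Stab B e, Commute (ψ u * x * (ψ u)⁻¹ * x⁻¹) (ψ v) := fun u hu v hv => by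
    have z : ∀ c, Commute (ψ (tv B e c)) (ψ v) := fun c => (show Commute (tv B e c) v from (h.stab_tv hv c).symm).map ψ
    obtain ⟨c, k | k⟩ := A u hu <;> rw [k]
    exacts [z c, (z c).mul_left (s.tψ v)]
  have c2 : ∀ u ∈ Stab B e, Commute (ψ u * x * (ψ u)⁻¹ * x⁻¹) t := fun u hu => by
    obtain ⟨c, k | k⟩ := A u hu <;> rw [k]
    exacts [(s.tψ _).symm, Commute.mul_left (s.tψ _).symm rfl]
  have c3 : ∀ u ∈ Stab B e, ∀ v ∈ Stab B e, Commute (ψ u * x * (ψ u)⁻¹ * x⁻¹) (ψ v * x * (ψ v)⁻¹ * x⁻¹) := fun u hu v hv => by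
    obtain ⟨c, k | k⟩ := A v hv <;> rw [k]
    exacts [c1 u hu _ (Q_le (h.tv_mem_Q ..)), (c1 u hu _ (Q_le (h.tv_mem_Q ..))).mul_right (c2 u hu)]
  let κ : Stab B e →* G := MonoidHom.mk' (fun u => ψ u * x * (ψ u)⁻¹ * x⁻¹) fun u v => by
    rw [c3 _ u.2 _ v.2, ← mul_assoc, ← mul_assoc, ← mul_assoc, c1 _ v.2 _ u.2]; simp [mul_assoc]
  have sq : ∀ u, κ u * κ u = 1 := fun u => by
    obtain ⟨c, k | k⟩ := A u.1 u.2 <;> simp only [κ, MonoidHom.mk'_apply, k]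
    exacts [s.zsq h .., s.zt_sq h ..]
  have cj : ∀ u v, κ (u * v * u⁻¹) = κ v := fun u v => by
    rw [map_mul, map_mul, map_inv]; exact cjf.2 (c3 _ u.2 _ v.2)
  intro u hu
  refine mc.1 (h.gen h0 he (N := 𝐂[x].comap ψ) (fun u hu a ha b hb _ k => mc.2 ?_) hu) |>.symm
  have k1 : κ ⟨u, hu⟩ = 1 := by
    rw [← cj ⟨b, hb⟩, show (⟨b, hb⟩ * ⟨u, hu⟩ * ⟨b, hb⟩⁻¹ : Stab B e) = ⟨u, hu⟩ * (⟨a, ha⟩ * ⟨u, hu⟩ * ⟨a, ha⟩⁻¹) from Subtype.ext k,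
      map_mul, cj, sq]
  exact cjf.1 (mul_inv_eq_one.1 k1)

theorem zadd (he : B e e = 0) (c d : F) : ∃ r, σ r = r ∧ ψ (tv B e c) * ψ (tv B e d) = ψ (tv B e r) := by
  obtain ⟨r, hr, k⟩ := (h.mem_We he).1 (mul_mem (h.tv_W (Submodule.mem_span_singleton_self e) c)
    (h.tv_W (Submodule.mem_span_singleton_self e) d))
  exact ⟨r, hr, by rw [← map_mul, k]⟩

theorem mkY (h0 : e ≠ 0) (he : B e e = 0) (S : Set G) (h1 : ∀ y ∈ S, ∃ d, E1 ψ t e y d) (hz : ∀ c, ψ (tv B e c) ∈ S)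
    (hm : ∀ y ∈ S, ∀ y' ∈ S, y * y' ∈ S) : ∃ Y : Subgroup G, ∀ y, y ∈ Y ↔ y ∈ S :=
  ⟨{ carrier := S, mul_mem' := fun a b => hm _ a _ b, one_mem' := by simpa [h.tv_zero] using hz 0
     inv_mem' {y} hy := by
      obtain ⟨d, p⟩ := h1 y hy
      obtain ⟨c, -, k⟩ := s.e1_sq h h0 he p
      rw [inv_eq_of_mul_eq_one_right (show y * (y * ψ (tv B e c)) = 1 by rw [← mul_assoc, k, s.zsq h])]
      exact hm _ hy _ (hz c) }, fun _ => Iff.rfl⟩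

theorem e1_cm (h0 : e ≠ 0) (he : B e e = 0) (p : E1 ψ t e x c) (p' : E1 ψ t e y d) : ∃ r, x * y = y * x * ψ (tv B e r) := by
  obtain ⟨c1, -, k1⟩ := s.e1_sq h h0 he p
  obtain ⟨c2, -, k2⟩ := s.e1_sq h h0 he p'
  obtain ⟨c3, -, k3⟩ := s.e1_sq h h0 he (s.e1_mul h he p' p)
  obtain ⟨r, -, k4⟩ := s.zadd h he c2 c3
  obtain ⟨r', -, k5⟩ := s.zadd h he c1 r
  refine ⟨r', ?_⟩
  have z1 := fun c => p.cQ _ (h.tv_mem_Q e c)
  have z2 := fun c => p'.cQ _ (h.tv_mem_Q e c)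
  calc x * y = (y * x)⁻¹ * (y * (x * x) * y) := by group
    _ = (y * x)⁻¹ * ψ (tv B e c3) * (ψ (tv B e c3) * (ψ (tv B e c1) * ψ (tv B e c2))) := by
      rw [k1, z2, mul_assoc (ψ _), k2, mul_assoc, ← mul_assoc (ψ (tv B e c3)), s.zsq h, one_mul]
    _ = _ := by
      rw [← k5, ← k4, ← mul_assoc (ψ (tv B e c1)), ← map_mul ψ (tv B e c1), ← map_mul, ← map_mul,
        h.stab_tv (Q_le (mul_mem (h.tv_mem_Q ..) (h.tv_mem_Q ..))), ← k3]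
      group

theorem e1_tsq (he : B e e = 0) (p : E1 ψ t e x d) : x * t * (x * t) = ψ (tv B e d) * (x * x) := by
  have k : x * x * t = t * (x * x) := cjf.1 (by simpa [aa, h.tv_zero] using (s.e1_mul h he p p).xt)
  calc _ = x * t * x⁻¹ * (x * x * t) := by group
    _ = _ := by rw [k, p.xt, s.tψ, mul_assoc, ← mul_assoc t, s.t2, one_mul]

/-- The subgroup `Y₀` of index `2` in `Y₁ = {x | ∃ d, E1 x d}`.  All `d ∈ K` occur (`Tq (a, 1)`, `sqrt`).  `Y₁ / ψ Z` is elementary abelian.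
`q ≥ 4`: `Y₀ = {⁅ψ n, x⁆ ψ z}`, `n = Tq (a, 1)`, `a ≠ 0, 1`; if `n' e = b e` then `⁅n, n'⁆ ∈ Stab e` centralizes `Y₁` (`e1_cS`).
`q = 2`: one of `w`, `w t` is an involution `w₀`, `Y₀ = {1, z, w₀, w₀ z}`, the elements of `Y₁` not in `{t, t z}` with square `1`. -/
theorem exists_y0 (h0 : e ≠ 0) (he : B e e = 0) (c0 : c ≠ 0) (p : E1 ψ t e w c) : ∃ Y : Subgroup G, (∀ y ∈ Y, ∃ d, E1 ψ t e y d) ∧
    (∀ c, ψ (tv B e c) ∈ Y) ∧ t ∉ Y ∧ (∀ d, σ d = d → ∃ y ∈ Y, E1 ψ t e y d) ∧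
    ∀ (n : SUG B) (a : F), n.1 e = a • e → ∀ y ∈ Y, ψ n * y * (ψ n)⁻¹ ∈ Y := by
  have cz : ∀ (n : SUG B) (a : F), n.1 e = a • e → ∀ c, ∃ r, ψ n * ψ (tv B e c) * (ψ n)⁻¹ = ψ (tv B e r) := fun n a k c => by
    rw [← map_inv, ← map_mul, ← map_mul, h.tv_conj, k]
    by_cases hc : σ c = c
    · exact ⟨_, by rw [h.tv_smul he hc]⟩
    · exact ⟨0, by rw [tv, ei_junk fun k => hc (Va.fix k), h.tv_zero]⟩
  by_cases hq : ∃ a, σ a = a ∧ a ≠ 0 ∧ a ≠ 1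
  · obtain ⟨a, ha, a0, a1⟩ := hq
    obtain ⟨n, hn⟩ := xa_ex' h h0 he ha a0
    have b0 : a * σ a + 1 ≠ 0 := fun z => a1 (sq_inj (by rw [one_mul, ← CharTwo.add_eq_zero.1 z, ha]))
    have all : ∀ d, σ d = d → ∃ x, E1 ψ t e x d := fun d hd => by
      by_cases d0 : d = 0
      · exact ⟨t, d0 ▸ s.e1_t h e⟩
      obtain ⟨b, hb, k⟩ := h.sqrt (c := d / c) (by rw [map_div₀, hd, p.K])
      obtain ⟨m, hm⟩ := xa_ex' h h0 he hb (by rintro rfl; exact div_ne_zero d0 c0 (by rw [← k, mul_zero]))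
      exact ⟨_, by simpa [hb, k, c0] using s.e1_conj h h0 he p m hm⟩
    have ka : ∀ {x d}, E1 ψ t e x d → E1 ψ t e (ψ n * x * (ψ n)⁻¹ * x⁻¹) ((a * σ a + 1) * d) := fun q => by
      rw [add_mul, one_mul]; exact s.e1_mul h he (s.e1_conj h h0 he q n hn) (s.e1_inv h he q)
    obtain ⟨Y, hY⟩ := s.mkY h h0 he {y | ∃ x d c, E1 ψ t e x d ∧ y = ψ n * x * (ψ n)⁻¹ * x⁻¹ * ψ (tv B e c)}
      (by rintro _ ⟨x, d, c, q, rfl⟩; exact ⟨_, s.e1_mul h he (ka q) (s.e1_tv h e c)⟩)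
      (fun c => ⟨t, 0, c, s.e1_t h e, by rw [cjf.2 (s.tψ n).symm, mul_inv_cancel, one_mul]⟩) (by
        rintro _ ⟨x, d, c, q, rfl⟩ _ ⟨x', d', c', q', rfl⟩
        obtain ⟨r, k⟩ := s.e1_cm h h0 he (s.e1_inv h he q) (ka q')
        obtain ⟨r1, -, k1⟩ := s.zadd h he c c'
        obtain ⟨r2, -, k2⟩ := s.zadd h he r r1
        refine ⟨x * x', _, r2, s.e1_mul h he q q', ?_⟩
        calc _ = ψ n * x * (ψ n)⁻¹ * (x⁻¹ * (ψ n * x' * (ψ n)⁻¹ * x'⁻¹)) * (ψ (tv B e c) * ψ (tv B e c')) := by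
              rw [mul_assoc _ (ψ (tv B e c)), ← mul_assoc (ψ (tv B e c)), ← (ka q').cQ _ (h.tv_mem_Q ..)]; group
          _ = _ := by rw [k, ← k2, ← k1]; group)
    refine ⟨Y, fun y hy => ?_, fun c => (hY _).2 ?_, fun ht => ?_, fun d hd => ?_, fun m b hm y hy => ?_⟩
    · obtain ⟨x, d, c, q, rfl⟩ := (hY _).1 hy
      exact ⟨_, s.e1_mul h he (ka q) (s.e1_tv h e c)⟩
    · exact ⟨t, 0, c, s.e1_t h e, by rw [cjf.2 (s.tψ n).symm, mul_inv_cancel, one_mul]⟩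
    · obtain ⟨x, d, c, q, k⟩ := (hY _).1 ht
      have k1 := s.e1_mul h he (ka q) (s.e1_tv h e c)
      rw [← k, add_zero] at k1
      obtain rfl : d = 0 := (mul_eq_zero.1 (s.e1_uniq h h0 he k1 (s.e1_t h e))).resolve_left b0
      obtain ⟨r, -, k2 | k2⟩ := s.e1_zero h h0 he q <;> rw [k2] at k
      · exact s.t_ne h (n * tv B e r * n⁻¹ * (tv B e r)⁻¹ * tv B e c) (by simpa using k)
      · refine s.t_ne h (n * tv B e r * n⁻¹ * (tv B e r)⁻¹ * tv B e c) (k.trans ?_)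
        rw [← mul_assoc, mul_assoc _ t, ← map_inv, s.tψ]; simp [mul_assoc]
    · obtain ⟨x, q⟩ := all (d / (a * σ a + 1)) (by rw [map_div₀, hd, map_add, h.nK, map_one])
      exact ⟨_, (hY _).2 ⟨x, _, 0, q, rfl⟩, by simpa [h.tv_zero, mul_div_cancel₀ _ b0] using ka q⟩
    · obtain ⟨x, d, c, q, rfl⟩ := (hY _).1 hy
      obtain ⟨r, k⟩ := cz m b hm c
      have q' := s.e1_conj h h0 he q m hm
      refine (hY _).2 ⟨_, _, r, q', ?_⟩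
      have k1 := s.e1_cS h h0 he q (n⁻¹ * m⁻¹ * n * m) (show n⁻¹.1 (m⁻¹.1 (n.1 (m.1 e))) = e from
        inv_eq_of (inv_eq_of (by simp [hm, hn, smul_comm a b])).symm)
      simp only [map_mul, map_inv] at k1
      rw [← k]
      calc _ = ψ m * ψ n * (x * ((ψ n)⁻¹ * (ψ m)⁻¹ * ψ n * ψ m)) * (ψ m)⁻¹ * (ψ n)⁻¹ * (ψ m * x⁻¹ * ψ (tv B e c) * (ψ m)⁻¹) := by group
        _ = _ := by rw [k1]; group
  · have hq' : ∀ a, σ a = a → a ≠ 0 → a = 1 := fun a ha a0 => by_contra fun a1 => hq ⟨a, ha, a0, a1⟩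
    obtain rfl := hq' c p.K c0
    have z1 : ψ (tv B e 1) ≠ 1 := fun k => one_ne_zero (tvi h s.toSt h0 he (map_one σ) (map_zero σ) (by rw [k, h.tv_zero, map_one]))
    have zm : ∀ {y} c, E1 ψ t e y 1 → y * y = 1 → y * ψ (tv B e c) * (y * ψ (tv B e c)) = 1 := fun c q k => by
      rw [mul_assoc, ← mul_assoc (ψ _), ← q.cQ _ (h.tv_mem_Q ..), mul_assoc, s.zsq h, mul_one, k]
    obtain ⟨Y, hY⟩ := s.mkY h h0 he {y | (∃ c, y = ψ (tv B e c)) ∨ (E1 ψ t e y 1 ∧ y * y = 1)}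
      (by rintro y (⟨c, rfl⟩ | q); exacts [⟨_, s.e1_tv h e c⟩, ⟨_, q.1⟩]) (fun c => .inl ⟨c, rfl⟩) (by
        rintro y (⟨c, rfl⟩ | ⟨q, k⟩) y' (⟨c', rfl⟩ | ⟨q', k'⟩)
        · exact .inl (let ⟨r, _, k⟩ := s.zadd h he c c'; ⟨r, k⟩)
        · rw [← q'.cQ _ (h.tv_mem_Q ..)]
          exact .inr ⟨by simpa using s.e1_mul h he q' (s.e1_tv h e c), zm c q' k'⟩
        · exact .inr ⟨by simpa using s.e1_mul h he q (s.e1_tv h e c'), zm c' q k⟩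
        · obtain ⟨r, -, k1 | k1⟩ := s.e1_zero h h0 he (aa (1 : F) ▸ s.e1_mul h he q q')
          · exact .inl ⟨r, k1⟩
          · have := s.e1_tsq h he (s.e1_mul h he q (s.e1_tv h e r))
            rw [zm r q k, mul_assoc y (ψ _) t, ← k1, ← mul_assoc y y y', k, one_mul, k', add_zero, mul_one] at this
            exact (z1 this.symm).elim)
    refine ⟨Y, fun y hy => ?_, fun c => (hY _).2 (.inl ⟨c, rfl⟩), fun ht => ?_, fun d hd => ?_, fun m b hm y hy => (hY _).2 ?_⟩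
    · rcases (hY _).1 hy with ⟨c, rfl⟩ | q
      exacts [⟨_, s.e1_tv h e c⟩, ⟨_, q.1⟩]
    · rcases (hY _).1 ht with ⟨c, k⟩ | q
      exacts [s.t_ne h _ k, one_ne_zero (s.e1_uniq h h0 he q.1 (s.e1_t h e))]
    · by_cases d0 : d = 0
      · exact ⟨_, (hY _).2 (.inl ⟨0, rfl⟩), d0 ▸ s.e1_tv h e 0⟩
      obtain rfl := hq' d hd d0
      obtain ⟨r, hr, k⟩ := s.e1_sq h h0 he p
      by_cases r0 : r = 0
      · exact ⟨w, (hY _).2 (.inr ⟨p, by rw [k, r0, h.tv_zero, map_one]⟩), p⟩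
      · have q : E1 ψ t e (w * t) 1 := by simpa using s.e1_mul h he p (s.e1_t h e)
        exact ⟨w * t, (hY _).2 (.inr ⟨q, by rw [s.e1_tsq h he p, k, hq' r hr r0, s.zsq h]⟩), q⟩
    · rcases (hY _).1 hy with ⟨c, rfl⟩ | ⟨q, k⟩
      · exact .inl (cz m b hm c)
      · have b0 : b ≠ 0 := fun z => h0 (by simpa [z] using hm)
        exact .inr ⟨by simpa [hq' _ (h.nK b) (by simp [b0])] using s.e1_conj h h0 he q m hm, cj2 k _⟩

end S1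

end Cfsg.Lib.USt
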